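import Mathlib
import Groth.Agent.Lib.Helper2.TopCohB
import Groth.Agent.Lib.Helper2.HorrB
import Groth.Agent.Lib.Lead.DF.KDevAbs

/-!
# A uniform bound for the Castelnuovo–Mumford regularity of kernels (Mumford's theorem)

For a fixed regularity `e` of the middle term and a fixed Hilbert polynomial `P` of the quotient,
the kernel of an epimorphism of coherent modules on `P^n_k` (`k` infinite) is `m`-regular for an
`m` depending only on `n`, `e` and `P`.
-/

set_option autoImplicit false
set_option linter.style.haveILetI false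
universe u
open CategoryTheory CategoryTheory.Limits AlgebraicGeometry TopologicalSpace Opposite

namespace Groth.Agent.LD.MumB

open Groth.Agent.LD Groth.Agent.LD.PN Twist TW Groth.Agent.H2.HypId Groth.Agent.H2.Pencil
  Groth.Agent.H2.TopCoh Polynomial

section fixed

variable {n : ℕ} {k : Type u} [Field k]

/-- naturality of the multiplication by a linear form. -/
theorem mu_natural {A B : (Proj (CohB1.polyGrading n k)).Modules} (π : A ⟶ B)
    (g : CohB1.polyGrading n k 1) :
    KoszTw.tensorMap π (𝟙 (twist (CohB1.polyGrading n k) (-((1 : ℕ) : ℤ)))) ≫ mu B g =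
      mu A g ≫ π := by
  apply QC.hom_ext_tmul
  intro U a c
  change (mu B g).app U ((KoszTw.tensorMap π (𝟙 _)).app U (SecTwist.tmul A _ U a c)) =
    π.app U ((mu A g).app U (SecTwist.tmul A _ U a c))
  rw [KoszTw.tensorMap_tmul, mu_app_tmul, mu_app_tmul, Scheme.Modules.Hom.app_smul]
  rfl

/-- the multiplication by a linear form, with the twist written as `O(-1)`. -/
noncomputable def muI (F : (Proj (CohB1.polyGrading n k)).Modules) (g : CohB1.polyGrading n k 1) :
    CohB1.tensorMod F (twist (CohB1.polyGrading n k) (-1)) ⟶ F := mu F g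

theorem muI_natural {A B : (Proj (CohB1.polyGrading n k)).Modules} (π : A ⟶ B)
    (g : CohB1.polyGrading n k 1) :
    KoszTw.tensorMap π (𝟙 (twist (CohB1.polyGrading n k) (-1))) ≫ muI B g = muI A g ≫ π :=
  mu_natural π g

theorem mono_muI {F : (Proj (CohB1.polyGrading n k)).Modules} {g : CohB1.polyGrading n k 1}
    (h : Mono (mu F g)) : Mono (muI F g) := h

/-- over an infinite field, some linear form is a nonzerodivisor on two given coherent modules. -/
theorem exists_good_form [Infinite k] (E F : (Proj (CohB1.polyGrading n k)).Modules)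
    (hE : Coh.IsCoh E) (hF : Coh.IsCoh F) :
    ∃ g : CohB1.polyGrading n k 1, Mono (mu E g) ∧ Mono (mu F g) := by
  haveI : E.IsQuasicoherent := hE.1
  haveI : F.IsQuasicoherent := hF.1
  have hfinE : {x : (Proj (CohB1.polyGrading n k)) | Curv2.IsAssPoint E x}.Finite :=
    finite_assPoints E (fun i : Fin (n + 1) => LefPen.chart n k i)
      (fun i => isAffineOpen_chart n k i) (iSup_chart n k) hE.2
  have hfinF : {x : (Proj (CohB1.polyGrading n k)) | Curv2.IsAssPoint F x}.Finite :=
    finite_assPoints F (fun i : Fin (n + 1) => LefPen.chart n k i)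
      (fun i => isAffineOpen_chart n k i) (iSup_chart n k) hF.2
  haveI : Finite {x : (Proj (CohB1.polyGrading n k)) | Curv2.IsAssPoint E x} := hfinE.to_subtype
  haveI : Finite {x : (Proj (CohB1.polyGrading n k)) | Curv2.IsAssPoint F x} := hfinF.to_subtype
  obtain ⟨g, hg⟩ := exists_notMem (k := k)
    (fun i : {x : (Proj (CohB1.polyGrading n k)) | Curv2.IsAssPoint E x} ⊕
        {x : (Proj (CohB1.polyGrading n k)) | Curv2.IsAssPoint F x} =>
      Sum.elim (fun a => Vx n k a.1) (fun b => Vx n k b.1) i)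
    (by
      rintro (a | b)
      · exact Vx_ne_top n k a.1
      · exact Vx_ne_top n k b.1)
  refine ⟨g, ?_, ?_⟩
  · apply mono_mu
    intro x hx hmem
    exact hg (Sum.inl ⟨x, hx⟩) hmem
  · apply mono_mu
    intro x hx hmem
    exact hg (Sum.inr ⟨x, hx⟩) hmem

/-- a coherent module all of whose twists have vanishing Euler characteristic is zero. -/
theorem isZero_of_chi_eq_zero (F : (Proj (CohB1.polyGrading n k)).Modules) (hF : Coh.IsCoh F)
    (h : ∀ t : ℤ, PN.chi n k (kG n k F t) = 0) : IsZero F := by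
  haveI : F.IsQuasicoherent := hF.1
  obtain ⟨d₀, hd₀⟩ := serre_vanishing' n k F hF
  have hreg : IsReg n k F (d₀ + n) := by
    apply isReg_of_bounded
    intro i hi hin
    exact hd₀ (d₀ + n - i) (by omega) i (by omega)
  apply Groth.Agent.H2.Horr.isZero_of_isReg F hF (d₀ + n) hreg
  have hvan : ∀ j : ℕ, 0 < j →
      Subsingleton (Coh.HH (Proj (CohB1.polyGrading n k)) (kG n k F (d₀ + n)) j) :=
    fun j hj => hd₀ (d₀ + n) (by omega) j hj
  have hsum := chi_eq_sum (kG n k F (d₀ + n))
  rw [h (d₀ + n)] at hsum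
  rw [Finset.sum_eq_single 0] at hsum
  · haveI : Module.Finite k (Coh.HH (Proj (CohB1.polyGrading n k)) (kG n k F (d₀ + n)) 0) :=
      finite_HH_coh' n k _ (isCoh_twist n k F hF (d₀ + n)) 0
    have h0 : Module.finrank k (Coh.HH (Proj (CohB1.polyGrading n k)) (kG n k F (d₀ + n)) 0) = 0 := by
      have : ((Module.finrank k (Coh.HH (Proj (CohB1.polyGrading n k)) (kG n k F (d₀ + n)) 0) : ℕ) : ℚ) = 0 := by
        simpa using hsum.symm
      exact_mod_cast this
    exact (Module.finrank_eq_zero_iff_of_free k _).mp h0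
  · intro j _ hj0
    haveI := hvan j (Nat.pos_of_ne_zero hj0)
    rw [Module.finrank_zero_of_subsingleton]
    simp
  · intro h0
    exact absurd (Finset.mem_range.mpr (Nat.succ_pos n)) h0

/-- **the inductive step**: regularity of the kernel from the regularity of its hyperplane
section, with an explicit bound. -/
theorem step_reg {S : ShortComplex (Proj (CohB1.polyGrading n k)).Modules} (hS : S.ShortExact)
    (h₁ : Coh.IsCoh S.X₁) (h₂ : Coh.IsCoh S.X₂) (h₃ : Coh.IsCoh S.X₃)
    (e m' : ℤ) (hem : e ≤ m') (hE : IsReg n k S.X₂ e)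
    (ι : CohB1.tensorMod S.X₁ (twist (CohB1.polyGrading n k) (-1)) ⟶ S.X₁) (hι : Mono ι)
    (hC : IsReg n k (cokernel ι) m') :
    IsReg n k S.X₁ (m' + ((PN.chi n k (kG n k S.X₃ (m' - 1))).toNat : ℤ)) := by
  haveI : S.X₁.IsQuasicoherent := h₁.1
  haveI : S.X₂.IsQuasicoherent := h₂.1
  haveI : S.X₃.IsQuasicoherent := h₃.1
  obtain ⟨hge2, -, -, hbd⟩ := mumford_lemma n k S.X₁ h₁ ι hι m' (fun i hi _ => hC i hi)
  have hSt := QC.shortExact_tensorMap_of_isInvertible hS (twist (CohB1.polyGrading n k) (m' - 1))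
    (isInvertible_twist n k (m' - 1))
  have hv2 : ∀ i : ℕ, 1 ≤ i →
      Subsingleton (Coh.HH (Proj (CohB1.polyGrading n k)) (kG n k S.X₂ (m' - 1)) i) := by
    intro i hi
    have h := isReg_of_le n k S.X₂ e (m' - 1 + i) (by omega) hE i hi
    have e1 : m' - 1 + (i : ℤ) - (i : ℤ) = m' - 1 := by ring
    rw [e1] at h
    exact h
  have hv1 : ∀ i : ℕ, 2 ≤ i →
      Subsingleton (Coh.HH (Proj (CohB1.polyGrading n k)) (kG n k S.X₁ (m' - 1)) i) :=
    fun i hi => hge2 i (m' - 1) hi (by omega)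
  have hv3 : ∀ i : ℕ, 1 ≤ i →
      Subsingleton (Coh.HH (Proj (CohB1.polyGrading n k)) (kG n k S.X₃ (m' - 1)) i) := by
    intro i hi
    exact CL.subsingleton_right hSt i (hv2 i hi) (hv1 (i + 1) (by omega))
  have hchi : PN.chi n k (kG n k S.X₃ (m' - 1)) =
      (Module.finrank k (Coh.HH (Proj (CohB1.polyGrading n k)) (kG n k S.X₃ (m' - 1)) 0) : ℤ) := by
    have h := chi_eq_sum (kG n k S.X₃ (m' - 1))
    rw [Finset.sum_eq_single 0] at h
    · have h' : ((PN.chi n k (kG n k S.X₃ (m' - 1)) : ℤ) : ℚ) =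
          (((Module.finrank k (Coh.HH (Proj (CohB1.polyGrading n k))
            (kG n k S.X₃ (m' - 1)) 0) : ℕ) : ℤ) : ℚ) := by
        simpa using h
      exact_mod_cast h'
    · intro j _ hj0
      haveI := hv3 j (Nat.pos_of_ne_zero hj0)
      rw [Module.finrank_zero_of_subsingleton]
      simp
    · intro h0
      exact absurd (Finset.mem_range.mpr (Nat.succ_pos n)) h0
  have hb : Module.finrank k (Coh.HH (Proj (CohB1.polyGrading n k)) (kG n k S.X₁ (m' - 1)) 1) ≤
      Module.finrank k (Coh.HH (Proj (CohB1.polyGrading n k)) (kG n k S.X₃ (m' - 1)) 0) +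
        Module.finrank k (Coh.HH (Proj (CohB1.polyGrading n k)) (kG n k S.X₂ (m' - 1)) 1) := by
    have := CL.hh_left_succ_le k hSt (isCoh_twist n k S.X₂ h₂ (m' - 1))
      (isCoh_twist n k S.X₃ h₃ (m' - 1)) 0
    rw [CL.hh_def, CL.hh_def, CL.hh_def] at this
    exact this
  have hz : Module.finrank k (Coh.HH (Proj (CohB1.polyGrading n k)) (kG n k S.X₂ (m' - 1)) 1) = 0 := by
    haveI := hv2 1 le_rfl
    exact Module.finrank_zero_of_subsingleton
  have hreg : IsReg n k S.X₁ (m' + (Module.finrank k (Coh.HH (Proj (CohB1.polyGrading n k))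
      (kG n k S.X₁ (m' - 1)) 1) : ℤ)) := isReg_of_bounded n k S.X₁ _ hbd
  refine isReg_of_le n k S.X₁ _ _ ?_ hreg
  rw [hchi]
  simp only [Int.toNat_natCast]
  omega

end fixed

/-- the numerical condition carried through the induction. -/
def DegLT (d : ℕ) (P : ℚ[X]) : Prop := P = 0 ∨ P.natDegree < d

theorem degLT_dP (d : ℕ) (P : ℚ[X]) (h : DegLT (d + 1) P) : DegLT d (dP P) := by
  by_cases hP0 : P = 0
  · left
    subst hP0
    unfold dP
    simp
  · by_cases hc : P.natDegree = 0
    · left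
      rw [natDegree_eq_zero] at hc
      obtain ⟨c, rfl⟩ := hc
      unfold dP
      simp
    · right
      have h1 := natDegree_dP_le P
      rcases h with h | h
      · exact absurd h hP0
      · omega

/-- **Mumford's uniform bound**: for a short exact sequence `0 → K → E → F → 0` of coherent
modules on `P^n_k` (`k` infinite) with `E` `e`-regular and `F` of Hilbert polynomial `P`, the
kernel `K` is `m`-regular, where `m` only depends on `n`, `e` and `P`. -/
theorem bound (n : ℕ) (e : ℤ) : ∀ (d : ℕ) (P : ℚ[X]), DegLT d P → ∃ m : ℤ, e ≤ m ∧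
    ∀ (k : Type u) [Field k] [Infinite k] (S : ShortComplex (Proj (CohB1.polyGrading n k)).Modules),
      S.ShortExact → Coh.IsCoh S.X₁ → Coh.IsCoh S.X₂ → Coh.IsCoh S.X₃ → IsReg n k S.X₂ e →
      (∀ t : ℤ, ((PN.chi n k (kG n k S.X₃ t) : ℤ) : ℚ) = P.eval (t : ℚ)) →
      IsReg n k S.X₁ m := by
  intro d
  induction d with
  | zero =>
    intro P hP
    have hP0 : P = 0 := by
      rcases hP with h | h
      · exact h
      · exact absurd h (Nat.not_lt_zero _)
    subst hP0
    refine ⟨e, le_rfl, ?_⟩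
    intro k _ _ S hS h₁ h₂ h₃ hE hP
    have hz : IsZero S.X₃ := by
      apply isZero_of_chi_eq_zero S.X₃ h₃
      intro t
      have := hP t
      rw [eval_zero] at this
      exact_mod_cast this
    haveI := hS.mono_f
    haveI : Epi S.f := hS.exact.epi_f (hz.eq_of_tgt _ _)
    haveI : IsIso S.f := isIso_of_mono_of_epi S.f
    exact isReg_of_iso n k (asIso S.f).symm e hE
  | succ d ih =>
    intro P hP
    obtain ⟨m', hem', hm'⟩ := ih (dP P) (degLT_dP d P hP)
    refine ⟨m' + ((⌊P.eval (((m' - 1 : ℤ)) : ℚ)⌋).toNat : ℤ), by omega, ?_⟩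
    intro k _ _ S hS h₁ h₂ h₃ hE hPS
    haveI : S.X₁.IsQuasicoherent := h₁.1
    haveI : S.X₂.IsQuasicoherent := h₂.1
    haveI : S.X₃.IsQuasicoherent := h₃.1
    obtain ⟨g, hg₂, hg₃⟩ := exists_good_form S.X₂ S.X₃ h₂ h₃
    haveI m₂ : Mono (muI S.X₂ g) := mono_muI hg₂
    haveI m₃ : Mono (muI S.X₃ g) := mono_muI hg₃
    haveI := hS.mono_f
    have hL : PicF.IsInvertible (twist (CohB1.polyGrading n k) (-1)) := isInvertible_twist n k (-1)
    haveI m₁ : Mono (muI S.X₁ g) := by
      haveI : Mono (KoszTw.tensorMap S.f (𝟙 (twist (CohB1.polyGrading n k) (-1)))) :=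
        QC.mono_tensorMap_of_isInvertible S.f _ hL
      haveI : Mono (muI S.X₁ g ≫ S.f) := by
        rw [← muI_natural S.f g]
        infer_instance
      exact mono_of_mono (muI S.X₁ g) S.f
    have hS1 := QC.shortExact_tensorMap_of_isInvertible hS (twist (CohB1.polyGrading n k) (-1)) hL
    let φ : ShortComplex.mk (KoszTw.tensorMap S.f (𝟙 (twist (CohB1.polyGrading n k) (-1))))
        (KoszTw.tensorMap S.g (𝟙 (twist (CohB1.polyGrading n k) (-1))))
        (by rw [← QC.tensorMap_comp_id, S.zero, QC.tensorMap_zero_id hL]) ⟶ S :=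
      { τ₁ := muI S.X₁ g
        τ₂ := muI S.X₂ g
        τ₃ := muI S.X₃ g
        comm₁₂ := (muI_natural S.f g).symm
        comm₂₃ := (muI_natural S.g g).symm }
    haveI : Mono φ.τ₃ := m₃
    have hL3 := Groth.Agent.LD.DF.KDev.shortExact_cokernel_map φ hS1 hS
    have hreg' : IsReg n k (cokernel (muI S.X₁ g)) m' :=
      hm' k (Groth.Agent.LD.DF.KDev.snakeInputOfHom φ hS1 hS).L₃ hL3
        (isCoh_coker S.X₁ h₁ (muI S.X₁ g)) (isCoh_coker S.X₂ h₂ (muI S.X₂ g))
        (isCoh_coker S.X₃ h₃ (muI S.X₃ g))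
        (isReg_cokernel n k S.X₂ e hE (muI S.X₂ g))
        (fun t => hilb_coker S.X₃ h₃ (muI S.X₃ g) P hPS t)
    have hstep := step_reg hS h₁ h₂ h₃ e m' hem' hE (muI S.X₁ g) m₁ hreg'
    have hfl : ⌊P.eval (((m' - 1 : ℤ)) : ℚ)⌋ = PN.chi n k (kG n k S.X₃ (m' - 1)) := by
      rw [← hPS (m' - 1)]
      exact Int.floor_intCast _
    rw [hfl]
    exact hstep

end Groth.Agent.LD.MumB
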