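import Groth.Agent.Lib.Lead.Misc3.NormSS1
import Groth.Agent.Lib.Helper5.HP.HP12
import Groth.Agent.Lib.Helper5.HP.HP9
import Groth.Agent.Lib.Helper5.DegC.RankDeg
import Groth.Agent.Lib.Helper5.Curve7.Norm1
import Groth.Agent.Lib.Lead.QC.PushFin
import Groth.Agent.Lib.Lead.QC.Push
import Groth.Agent.Lib.Lead.Curve.DegMono

/-! # (Semi)stability and direct images along the normalization of a curve (lead)

For a finite birational morphism `ν : Y ⟶ X` of integral proper curves over a field (for instance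
the normalization of `X`), an ample `L` on `X` and a coherent module `E` on `Y` with torsion-free
stalks: `E` is (semi)stable with respect to `ν^* L` iff `ν_* E` is (semi)stable with respect to
`L`. -/

set_option autoImplicit false
set_option linter.unusedSectionVars false
set_option linter.style.haveILetI false
universe u
open CategoryTheory CategoryTheory.Limits AlgebraicGeometry TopologicalSpace Opposite

attribute [-instance] Groth.Agent.LD.QC.stalkModule

namespace Groth.Agent.LD.NormSS

open Groth.Agent.LD Groth.Agent.LD.QC Groth.Agent.H5.Glue Groth.Agent.H5.Curve4 StabCat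
  Groth.Agent.H5.HP Groth.Agent.H5.DegC

section Num

lemma polyLT_of_polyLE_of_ne {P Q : Polynomial ℚ} (h : PolyLE P Q) (hne : P ≠ Q) : PolyLT P Q := by
  obtain ⟨N, hN⟩ := h
  have hR : Q - P ≠ 0 := sub_ne_zero.mpr (Ne.symm hne)
  have h0 : 0 ≤ (Q - P).leadingCoeff :=
    leadingCoeff_nonneg_of_eventually_nonneg (Q - P)
      ⟨N, fun m hm => by rw [Polynomial.eval_sub]; linarith [hN m hm]⟩
  have h1 : 0 < (Q - P).leadingCoeff :=
    lt_of_le_of_ne h0 (Ne.symm (Polynomial.leadingCoeff_ne_zero.mpr hR))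
  obtain ⟨N', hN'⟩ := eventually_pos_of_leadingCoeff_pos (Q - P) h1
  exact ⟨N', fun m hm => by
    have := hN' m hm
    rw [Polynomial.eval_sub] at this
    linarith⟩

lemma redLE_of_chain {pF p' pE : Polynomial ℚ} (hle : PolyLE pF p')
    (hα : alpha 1 pF = alpha 1 p') (hB : RedLE 1 p' pE) (h0 : 0 ≤ alpha 1 pE) :
    RedLE 1 pF pE := by
  obtain ⟨N1, h1⟩ := hle
  obtain ⟨N2, h2⟩ := hB
  refine ⟨max N1 N2, fun m hm => ?_⟩
  have e1 := h1 m (le_trans (le_max_left _ _) hm)
  have e2 := h2 m (le_trans (le_max_right _ _) hm)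
  rw [Polynomial.eval_smul, Polynomial.eval_smul, smul_eq_mul, smul_eq_mul] at e2 ⊢
  rw [hα]
  calc alpha 1 pE * pF.eval (m : ℚ) ≤ alpha 1 pE * p'.eval (m : ℚ) :=
        mul_le_mul_of_nonneg_left e1 h0
    _ ≤ alpha 1 p' * pE.eval (m : ℚ) := e2

lemma redLT_of_chain₁ {pF p' pE : Polynomial ℚ} (hle : PolyLE pF p')
    (hα : alpha 1 pF = alpha 1 p') (hB : RedLT 1 p' pE) (h0 : 0 ≤ alpha 1 pE) :
    RedLT 1 pF pE := by
  obtain ⟨N1, h1⟩ := hle
  obtain ⟨N2, h2⟩ := hB
  refine ⟨max N1 N2, fun m hm => ?_⟩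
  have e1 := h1 m (le_trans (le_max_left _ _) hm)
  have e2 := h2 m (le_trans (le_max_right _ _) hm)
  rw [Polynomial.eval_smul, Polynomial.eval_smul, smul_eq_mul, smul_eq_mul] at e2 ⊢
  rw [hα]
  calc alpha 1 pE * pF.eval (m : ℚ) ≤ alpha 1 pE * p'.eval (m : ℚ) :=
        mul_le_mul_of_nonneg_left e1 h0
    _ < alpha 1 p' * pE.eval (m : ℚ) := e2

lemma redLT_of_chain₂ {pF p' pE : Polynomial ℚ} (hlt : PolyLT pF p')
    (hα : alpha 1 pF = alpha 1 p') (hB : RedLE 1 p' pE) (h0 : 0 < alpha 1 pE) :
    RedLT 1 pF pE := by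
  obtain ⟨N1, h1⟩ := hlt
  obtain ⟨N2, h2⟩ := hB
  refine ⟨max N1 N2, fun m hm => ?_⟩
  have e1 := h1 m (le_trans (le_max_left _ _) hm)
  have e2 := h2 m (le_trans (le_max_right _ _) hm)
  rw [Polynomial.eval_smul, Polynomial.eval_smul, smul_eq_mul, smul_eq_mul] at e2 ⊢
  rw [hα]
  calc alpha 1 pE * pF.eval (m : ℚ) < alpha 1 pE * p'.eval (m : ℚ) :=
        mul_lt_mul_of_pos_left e1 h0
    _ ≤ alpha 1 p' * pE.eval (m : ℚ) := e2

end Num

section Dim

variable {X : Scheme.{u}} [IsIntegral X]

/-- a coherent module on an integral scheme which is not torsion has full support. -/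
theorem dim_support_of_not_isTors {F : X.Modules} (hF : Coh.IsCoh F) (h : ¬ IsTors F) :
    topologicalKrullDim (CohB1.support F) = topologicalKrullDim X := by
  have hcl : IsClosed (CohB1.support F) := isClosed_support_of_isCoh hF
  have hmem : genericPoint X ∈ CohB1.support F := h
  have huniv : CohB1.support F = Set.univ := by
    apply Set.eq_univ_of_univ_subset
    rw [← (genericPoint_spec X).def]
    exact hcl.closure_subset_iff.mpr (Set.singleton_subset_iff.mpr hmem)
  rw [huniv]
  exact IsHomeomorph.topologicalKrullDim_eq _ (Homeomorph.Set.univ X).isHomeomorph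

/-- the stalks of a finite locally free module on an integral scheme are torsion-free. -/
theorem torsion_eq_bot_of_rank {n : ℕ} {E : X.Modules} (hE : FlatMod.IsFinLocFreeOfRank n E)
    (y : X) : Submodule.torsion (X.presheaf.stalk y) (E.presheaf.stalk y) = ⊥ := by
  obtain ⟨hfree, -, -⟩ := Groth.Agent.H4.LFP1.stalk_of_isFinLocFreeOfRank n E hE y
  haveI hfree' : Module.Free (X.presheaf.stalk y) (E.presheaf.stalk y) := hfree
  exact Submodule.isTorsionFree_iff_torsion_eq_bot.mp inferInstance

variable {Y : Scheme.{u}} [IsIntegral Y]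

/-- the direct image of a module with torsion-free stalks along a morphism of integral schemes of
dimension one preserving generic points is pure of dimension one. -/
theorem isPure_push (ν : Y ⟶ X) (hdimX : topologicalKrullDim X = 1)
    (hη : ν (genericPoint Y) = genericPoint X) {E : Y.Modules} [E.IsQuasicoherent]
    (htf : ∀ y : Y, Submodule.torsion (Y.presheaf.stalk y) (E.presheaf.stalk y) = ⊥) :
    ShStab.IsPure X ((Scheme.Modules.pushforward ν).obj E) 1 := by
  intro F ι hι hF hF0
  haveI := hι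
  have hnt : ¬ IsTors F := fun ht =>
    hF0 (IsZero.of_mono_eq_zero ι (hom_push_eq_zero_of_isTors ν hη E htf ht ι))
  rw [dim_support_of_not_isTors hF hnt, hdimX]
  exact Nat.cast_one.symm

end Dim

section PureY

variable (k : Type u) [Field k] {Y : Scheme.{u}} [Y.Over (Spec (CommRingCat.of k))]
  [IsProper (Y ↘ Spec (CommRingCat.of k))] [IsIntegral Y]

include k in
/-- a coherent module with torsion-free stalks on an integral proper curve is pure of dimension
one. -/
theorem isPure_of_torsionFree (hdimY : topologicalKrullDim Y = 1) {E : Y.Modules}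
    (hEc : Coh.IsCoh E)
    (htf : ∀ y : Y, Submodule.torsion (Y.presheaf.stalk y) (E.presheaf.stalk y) = ⊥) :
    ShStab.IsPure Y E 1 := by
  haveI : IsNoetherian Y := Groth.Agent.H5.Curve2.isNoetherian_of_proper k Y
  haveI := hEc.1
  intro F ι hι hF hF0
  haveI := hι
  have hnt : ¬ IsTors F := fun ht =>
    hF0 (IsZero.of_mono_eq_zero ι
      (Groth.Agent.H5.SurfGrowth.hom_eq_zero_of_isTors E htf ht ι))
  rw [dim_support_of_not_isTors hF hnt, hdimY]
  exact Nat.cast_one.symm

end PureY

section Main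

variable (k : Type u) [Field k] {X Y : Scheme.{u}} [X.Over (Spec (CommRingCat.of k))]
  [Y.Over (Spec (CommRingCat.of k))] [IsProper (X ↘ Spec (CommRingCat.of k))]
  [IsProper (Y ↘ Spec (CommRingCat.of k))] [IsIntegral X] [IsIntegral Y]
  (ν : Y ⟶ X) [ν.IsOver (Spec (CommRingCat.of k))] [IsFinite ν]

omit [X.Over (Spec (CommRingCat.of k))] [Y.Over (Spec (CommRingCat.of k))]
  [IsProper (X ↘ Spec (CommRingCat.of k))] [IsProper (Y ↘ Spec (CommRingCat.of k))]
  [IsIntegral X] [IsIntegral Y] [ν.IsOver (Spec (CommRingCat.of k))] in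
theorem isCoh_push {G : Y.Modules} (hG : Coh.IsCoh G) :
    Coh.IsCoh ((Scheme.Modules.pushforward ν).obj G) := by
  haveI := hG.1
  exact ⟨qc_pushforward ν G, isFiniteType_pushforward_of_isFinite ν G hG.2⟩

omit [X.Over (Spec (CommRingCat.of k))] [Y.Over (Spec (CommRingCat.of k))]
  [IsProper (X ↘ Spec (CommRingCat.of k))] [IsProper (Y ↘ Spec (CommRingCat.of k))]
  [IsIntegral X] [IsIntegral Y] [ν.IsOver (Spec (CommRingCat.of k))] [IsFinite ν] in
theorem isCoh_pull {F : X.Modules} (hF : Coh.IsCoh F) :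
    Coh.IsCoh ((Scheme.Modules.pullback ν).obj F) := by
  haveI := hF.1
  exact ⟨qc_pullback ν F, isFiniteType_pullback ν F hF.2⟩

/-- the (semi)stability inequalities for `ν_* E` imply those for `E`. -/
theorem transfer_of_push (R : Polynomial ℚ → Polynomial ℚ → Prop) {L : X.Modules}
    (hL : PicF.IsInvertible L) {E : Y.Modules} (hEc : Coh.IsCoh E)
    (h : ∀ (F : X.Modules) (ι : F ⟶ (Scheme.Modules.pushforward ν).obj E), Mono ι → Coh.IsCoh F →
      ¬ IsZero F → ¬ IsIso ι → ∀ pF pE : Polynomial ℚ, ShStab.IsHilbPoly k X L F pF →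
      ShStab.IsHilbPoly k X L ((Scheme.Modules.pushforward ν).obj E) pE → R pF pE) :
    ∀ (G : Y.Modules) (κ : G ⟶ E), Mono κ → Coh.IsCoh G → ¬ IsZero G → ¬ IsIso κ →
      ∀ pG pE : Polynomial ℚ, ShStab.IsHilbPoly k Y ((Scheme.Modules.pullback ν).obj L) G pG →
      ShStab.IsHilbPoly k Y ((Scheme.Modules.pullback ν).obj L) E pE → R pG pE := by
  intro G κ hκ hG hG0 hκiso pG pE hpG hpE
  haveI := hκ
  haveI := hG.1
  haveI := hEc.1
  haveI : (Scheme.Modules.pushforward ν).PreservesMonomorphisms :=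
    Functor.preservesMonomorphisms_of_adjunction (Scheme.Modules.pullbackPushforwardAdjunction ν)
  exact h _ ((Scheme.Modules.pushforward ν).map κ) inferInstance (isCoh_push ν hG)
    (fun hz => hG0 (isZero_of_isZero_pushforward_affine ν G hz))
    (fun hi => hκiso (isIso_of_isIso_pushforward_map ν hEc.1 κ (isCoh_cokernel κ hG hEc).1 hi))
    pG pE ((isHilbPoly_push_iff k ν L hL G pG).mpr hpG)
    ((isHilbPoly_push_iff k ν L hL E pE).mpr hpE)

/-- **the key construction**: a coherent submodule `F` of `ν_* E` is contained in `ν_* F'` for a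
coherent submodule `F'` of `E`, with torsion quotient. -/
theorem exists_sub_push (hdimX : topologicalKrullDim X = 1)
    (hO : LocSurjAt (ClSub.unitToPush ν) (genericPoint X)) {L : X.Modules}
    (hL : CohB1.IsAmple L) {E : Y.Modules} (hEc : Coh.IsCoh E) {F : X.Modules}
    (ι : F ⟶ (Scheme.Modules.pushforward ν).obj E) [Mono ι] (hF : Coh.IsCoh F)
    (hF0 : ¬ IsZero F) {pF : Polynomial ℚ} (hpF : ShStab.IsHilbPoly k X L F pF) :
    ∃ (F' : Y.Modules) (μ : F' ⟶ E) (j : F ⟶ (Scheme.Modules.pushforward ν).obj F')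
      (p' : Polynomial ℚ), Mono μ ∧ Mono j ∧ j ≫ (Scheme.Modules.pushforward ν).map μ = ι ∧
      Coh.IsCoh F' ∧ ¬ IsZero F' ∧
      ShStab.IsHilbPoly k X L ((Scheme.Modules.pushforward ν).obj F') p' ∧
      ShStab.IsHilbPoly k Y ((Scheme.Modules.pullback ν).obj L) F' p' ∧
      PolyLE pF p' ∧ alpha 1 pF = alpha 1 p' := by
  haveI := hF.1
  haveI := hEc.1
  obtain ⟨ι', hι'⟩ : ∃ ι' : (Scheme.Modules.pullback ν).obj F ⟶ E,
      ι' = ((Scheme.Modules.pullbackPushforwardAdjunction ν).homEquiv F E).symm ι := ⟨_, rfl⟩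
  have hpF' : Coh.IsCoh ((Scheme.Modules.pullback ν).obj F) := isCoh_pull ν hF
  have hF'c : Coh.IsCoh (Abelian.coimage ι') := isCoh_coimage k Y hpF' hEc ι'
  have hfac : Abelian.coimage.π ι' ≫ Abelian.factorThruCoimage ι' = ι' := Abelian.coimage.fac ι'
  obtain ⟨j, hjdef⟩ : ∃ j : F ⟶ (Scheme.Modules.pushforward ν).obj (Abelian.coimage ι'),
      j = (Scheme.Modules.pullbackPushforwardAdjunction ν).homEquiv F _
        (Abelian.coimage.π ι') := ⟨_, rfl⟩
  have hj : j ≫ (Scheme.Modules.pushforward ν).map (Abelian.factorThruCoimage ι') = ι := by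
    rw [hjdef, ← Adjunction.homEquiv_naturality_right, hfac, hι']
    exact ((Scheme.Modules.pullbackPushforwardAdjunction ν).homEquiv F E).apply_symm_apply ι
  haveI hjm : Mono j := mono_of_mono_fac hj
  have hνF'c := isCoh_push ν hF'c
  have hjloc : LocSurjAt j (genericPoint X) := by
    have hju : j = (Scheme.Modules.pullbackPushforwardAdjunction ν).unit.app F ≫
        (Scheme.Modules.pushforward ν).map (Abelian.coimage.π ι') := by
      rw [hjdef]
      exact Adjunction.homEquiv_unit _ _ _ _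
    rw [hju]
    haveI : Epi ((Scheme.Modules.pushforward ν).map (Abelian.coimage.π ι')) :=
      epi_pushforward_of_affine ν hpF'.1 hF'c.1 _
    exact (locSurjAt_unit ν _ hO F).comp (locSurjAt_of_epi _ _)
  have htors : IsTors (cokernel j) :=
    Groth.Agent.H5.Curve2.subsingleton_stalk_cokernel_of_locSurjAt j _ hjloc
  have hCc : Coh.IsCoh (cokernel j) := isCoh_cokernel j hF hνF'c
  have hdimC : topologicalKrullDim (CohB1.support (cokernel j)) < ((1 : ℕ) : WithBot ℕ∞) :=
    lt_of_le_of_lt (dim_support_le_zero_of_isTors hdimX.le hCc htors) (by norm_num)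
  obtain ⟨p', hp'⟩ := exists_isHilbPoly k X L hL _ hνF'c
  obtain ⟨hle, heq⟩ := polyLE_and_alpha_eq_of_mono k X hL 1 hF hνF'c j hpF hp'
  haveI := hF'c.1
  refine ⟨Abelian.coimage ι', Abelian.factorThruCoimage ι', j, p', inferInstance, hjm, hj, hF'c,
    ?_, hp', (isHilbPoly_push_iff k ν L hL.1 _ p').mp hp', hle, heq hdimC⟩
  intro hz
  exact hF0 (IsZero.of_mono j ((Scheme.Modules.pushforward ν).map_isZero hz))

/-- semistability of `E` implies the semistability inequalities for `ν_* E`. -/
theorem isSS_push (hdimX : topologicalKrullDim X = 1)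
    (hη : ν (genericPoint Y) = genericPoint X)
    (hO : LocSurjAt (ClSub.unitToPush ν) (genericPoint X)) {L : X.Modules}
    (hL : CohB1.IsAmple L) {E : Y.Modules} (hEc : Coh.IsCoh E)
    (htf : ∀ y : Y, Submodule.torsion (Y.presheaf.stalk y) (E.presheaf.stalk y) = ⊥)
    (hSS : StabCat.IsSS Coh.IsCoh (ShStab.IsHilbPoly k Y ((Scheme.Modules.pullback ν).obj L)) 1 E) :
    StabCat.IsSS Coh.IsCoh (ShStab.IsHilbPoly k X L) 1 ((Scheme.Modules.pushforward ν).obj E) := by
  intro F ι hι hF hF0 hιiso pF pE hpF hpE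
  haveI := hι
  haveI := hEc.1
  obtain ⟨F', μ, j, p', hμ, hjm, hj, hF'c, hF'0, hp', hp'Y, hle, hα⟩ :=
    exists_sub_push k ν hdimX hO hL hEc ι hF hF0 hpF
  have hνEc := isCoh_push ν hEc
  have hνE0 : ¬ IsZero ((Scheme.Modules.pushforward ν).obj E) := fun h => hF0 (IsZero.of_mono ι h)
  have hpure := isPure_push ν hdimX hη htf
  have hdimνE : topologicalKrullDim (CohB1.support ((Scheme.Modules.pushforward ν).obj E)) =
      ((1 : ℕ) : WithBot ℕ∞) := hpure _ (𝟙 _) inferInstance hνEc hνE0
  have hα0 : 0 < alpha 1 pE := Groth.Agent.H5.Deg.alpha_pos k X hL _ hνEc hνE0 hpE 1 hdimνE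
  have hpEY := (isHilbPoly_push_iff k ν L hL.1 E pE).mp hpE
  have hB : RedLE 1 p' pE := by
    by_cases hμi : IsIso μ
    · haveI := hμi
      have hpp : p' = pE := isHilbPoly_unique k X L _
        (isHilbPoly_of_iso k X L (asIso ((Scheme.Modules.pushforward ν).map μ)) hp') hpE
      rw [hpp]
      exact redLE_refl 1 pE
    · exact hSS F' μ hμ hF'c hF'0 hμi p' pE hp'Y hpEY
  exact redLE_of_chain hle hα hB hα0.le

/-- stability of `E` implies the stability inequalities for `ν_* E`. -/
theorem isSt_push (hdimX : topologicalKrullDim X = 1)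
    (hη : ν (genericPoint Y) = genericPoint X)
    (hO : LocSurjAt (ClSub.unitToPush ν) (genericPoint X)) {L : X.Modules}
    (hL : CohB1.IsAmple L) {E : Y.Modules} (hEc : Coh.IsCoh E)
    (htf : ∀ y : Y, Submodule.torsion (Y.presheaf.stalk y) (E.presheaf.stalk y) = ⊥)
    (hSt : StabCat.IsSt Coh.IsCoh (ShStab.IsHilbPoly k Y ((Scheme.Modules.pullback ν).obj L)) 1 E) :
    StabCat.IsSt Coh.IsCoh (ShStab.IsHilbPoly k X L) 1 ((Scheme.Modules.pushforward ν).obj E) := by
  intro F ι hι hF hF0 hιiso pF pE hpF hpE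
  haveI := hι
  haveI := hEc.1
  obtain ⟨F', μ, j, p', hμ, hjm, hj, hF'c, hF'0, hp', hp'Y, hle, hα⟩ :=
    exists_sub_push k ν hdimX hO hL hEc ι hF hF0 hpF
  have hνEc := isCoh_push ν hEc
  have hνE0 : ¬ IsZero ((Scheme.Modules.pushforward ν).obj E) := fun h => hF0 (IsZero.of_mono ι h)
  have hpure := isPure_push ν hdimX hη htf
  have hdimνE : topologicalKrullDim (CohB1.support ((Scheme.Modules.pushforward ν).obj E)) =
      ((1 : ℕ) : WithBot ℕ∞) := hpure _ (𝟙 _) inferInstance hνEc hνE0
  have hα0 : 0 < alpha 1 pE := Groth.Agent.H5.Deg.alpha_pos k X hL _ hνEc hνE0 hpE 1 hdimνE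
  have hpEY := (isHilbPoly_push_iff k ν L hL.1 E pE).mp hpE
  by_cases hμi : IsIso μ
  · haveI := hμi
    have hpp : p' = pE := isHilbPoly_unique k X L _
      (isHilbPoly_of_iso k X L (asIso ((Scheme.Modules.pushforward ν).map μ)) hp') hpE
    have hjn : ¬ IsIso j := by
      intro hji
      haveI := hji
      apply hιiso
      rw [← hj]
      infer_instance
    have hne : pF ≠ p' := by
      intro he
      apply hjn
      rw [he] at hpF
      haveI := hjm
      exact isIso_of_mono_of_isHilbPoly_eq k X hL hF (isCoh_push ν hF'c) hpF hp' j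
    have hlt := polyLT_of_polyLE_of_ne hle hne
    subst hpp
    exact redLT_of_chain₂ hlt hα (redLE_refl 1 _) hα0
  · have hB : RedLT 1 p' pE := hSt F' μ hμ hF'c hF'0 hμi p' pE hp'Y hpEY
    exact redLT_of_chain₁ hle hα hB hα0.le

/-- **semistability and direct images along a finite birational morphism of curves.** -/
theorem isSemistable_push_iff (hdimX : topologicalKrullDim X = 1)
    (hdimY : topologicalKrullDim Y = 1) (hη : ν (genericPoint Y) = genericPoint X)
    (hO : LocSurjAt (ClSub.unitToPush ν) (genericPoint X)) {L : X.Modules}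
    (hL : CohB1.IsAmple L) {E : Y.Modules} (hEc : Coh.IsCoh E)
    (htf : ∀ y : Y, Submodule.torsion (Y.presheaf.stalk y) (E.presheaf.stalk y) = ⊥) :
    ShStab.IsSemistable k Y ((Scheme.Modules.pullback ν).obj L) E 1 ↔
      ShStab.IsSemistable k X L ((Scheme.Modules.pushforward ν).obj E) 1 := by
  haveI := hEc.1
  constructor
  · rintro ⟨-, hE0, -, hSS⟩
    exact ⟨isCoh_push ν hEc, fun h => hE0 (isZero_of_isZero_pushforward_affine ν E h),
      isPure_push ν hdimX hη htf, isSS_push k ν hdimX hη hO hL hEc htf hSS⟩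
  · rintro ⟨-, hνE0, -, hSS⟩
    exact ⟨hEc, fun h => hνE0 ((Scheme.Modules.pushforward ν).map_isZero h),
      isPure_of_torsionFree k hdimY hEc htf,
      transfer_of_push k ν (RedLE 1) hL.1 hEc hSS⟩

/-- **stability and direct images along a finite birational morphism of curves.** -/
theorem isStable_push_iff (hdimX : topologicalKrullDim X = 1)
    (hdimY : topologicalKrullDim Y = 1) (hη : ν (genericPoint Y) = genericPoint X)
    (hO : LocSurjAt (ClSub.unitToPush ν) (genericPoint X)) {L : X.Modules}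
    (hL : CohB1.IsAmple L) {E : Y.Modules} (hEc : Coh.IsCoh E)
    (htf : ∀ y : Y, Submodule.torsion (Y.presheaf.stalk y) (E.presheaf.stalk y) = ⊥) :
    ShStab.IsStable k Y ((Scheme.Modules.pullback ν).obj L) E 1 ↔
      ShStab.IsStable k X L ((Scheme.Modules.pushforward ν).obj E) 1 := by
  haveI := hEc.1
  constructor
  · rintro ⟨-, hE0, -, hSt⟩
    exact ⟨isCoh_push ν hEc, fun h => hE0 (isZero_of_isZero_pushforward_affine ν E h),
      isPure_push ν hdimX hη htf, isSt_push k ν hdimX hη hO hL hEc htf hSt⟩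
  · rintro ⟨-, hνE0, -, hSt⟩
    exact ⟨hEc, fun h => hνE0 ((Scheme.Modules.pushforward ν).map_isZero h),
      isPure_of_torsionFree k hdimY hEc htf,
      transfer_of_push k ν (RedLT 1) hL.1 hEc hSt⟩

end Main

section Normalization

variable (k : Type u) [Field k] (X : Scheme.{u}) [X.Over (Spec (CommRingCat.of k))]
  [IsIntegral X] [IsProper (X ↘ Spec (CommRingCat.of k))]
  [QuasiCompact (X.fromSpecStalk (genericPoint X))]
  [QuasiSeparated (X.fromSpecStalk (genericPoint X))]

/-- **S16630**: semistability on the normalization of an integral proper curve and direct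
images. -/
theorem main_ss (hdim : topologicalKrullDim X = 1) (L : X.Modules) (hL : CohB1.IsAmple L) (n : ℕ)
    (E : (Curv2.normalization X).Modules) (hE : FlatMod.IsFinLocFreeOfRank n E) :
    letI : (Curv2.normalization X).Over (Spec (CommRingCat.of k)) :=
      ⟨Curv2.normalizationι X ≫ X ↘ Spec (CommRingCat.of k)⟩
    ShStab.IsSemistable k (Curv2.normalization X)
        ((Scheme.Modules.pullback (Curv2.normalizationι X)).obj L) E 1 ↔
      ShStab.IsSemistable k X L ((Scheme.Modules.pushforward (Curv2.normalizationι X)).obj E) 1 := by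
  letI : (Curv2.normalization X).Over (Spec (CommRingCat.of k)) :=
    ⟨Curv2.normalizationι X ≫ X ↘ Spec (CommRingCat.of k)⟩
  haveI : (Curv2.normalizationι X).IsOver (Spec (CommRingCat.of k)) := ⟨rfl⟩
  haveI : IsNoetherian X := Groth.Agent.H5.Curve2.isNoetherian_of_proper k X
  haveI hfin : IsFinite (Curv2.normalizationι X) :=
    Groth.Agent.H4.Cok.isFinite_of_nagata X (fun U =>
      Groth.Agent.H6.NZ.isNagata_sections k (X ↘ Spec (CommRingCat.of k)) U.1 U.2)
  haveI : IsProper ((Curv2.normalization X) ↘ Spec (CommRingCat.of k)) := by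
    change IsProper (Curv2.normalizationι X ≫ (X ↘ Spec (CommRingCat.of k)))
    infer_instance
  have hdimY : topologicalKrullDim (Curv2.normalization X) = 1 := by
    rw [(Groth.Agent.H3.DimSch.dim_eq_of_isFinite (Curv2.normalizationι X)).2
      (Groth.Agent.H4.NormInt.surjective_normalizationι X).surj, hdim]
  exact isSemistable_push_iff k (Curv2.normalizationι X) hdim hdimY
    (Groth.Agent.H4.NormInt.normalizationι_genericPoint X)
    (Groth.Agent.H5.Curve7.locSurjAt_unitToPush_normalization X) hL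
    (Curve.isCoh_of_rank hE) (fun y => torsion_eq_bot_of_rank hE y)

/-- **S16631**: stability on the normalization of an integral proper curve and direct images. -/
theorem main_st (hdim : topologicalKrullDim X = 1) (L : X.Modules) (hL : CohB1.IsAmple L) (n : ℕ)
    (E : (Curv2.normalization X).Modules) (hE : FlatMod.IsFinLocFreeOfRank n E) :
    letI : (Curv2.normalization X).Over (Spec (CommRingCat.of k)) :=
      ⟨Curv2.normalizationι X ≫ X ↘ Spec (CommRingCat.of k)⟩
    ShStab.IsStable k (Curv2.normalization X)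
        ((Scheme.Modules.pullback (Curv2.normalizationι X)).obj L) E 1 ↔
      ShStab.IsStable k X L ((Scheme.Modules.pushforward (Curv2.normalizationι X)).obj E) 1 := by
  letI : (Curv2.normalization X).Over (Spec (CommRingCat.of k)) :=
    ⟨Curv2.normalizationι X ≫ X ↘ Spec (CommRingCat.of k)⟩
  haveI : (Curv2.normalizationι X).IsOver (Spec (CommRingCat.of k)) := ⟨rfl⟩
  haveI : IsNoetherian X := Groth.Agent.H5.Curve2.isNoetherian_of_proper k X
  haveI hfin : IsFinite (Curv2.normalizationι X) :=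
    Groth.Agent.H4.Cok.isFinite_of_nagata X (fun U =>
      Groth.Agent.H6.NZ.isNagata_sections k (X ↘ Spec (CommRingCat.of k)) U.1 U.2)
  haveI : IsProper ((Curv2.normalization X) ↘ Spec (CommRingCat.of k)) := by
    change IsProper (Curv2.normalizationι X ≫ (X ↘ Spec (CommRingCat.of k)))
    infer_instance
  have hdimY : topologicalKrullDim (Curv2.normalization X) = 1 := by
    rw [(Groth.Agent.H3.DimSch.dim_eq_of_isFinite (Curv2.normalizationι X)).2
      (Groth.Agent.H4.NormInt.surjective_normalizationι X).surj, hdim]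
  exact isStable_push_iff k (Curv2.normalizationι X) hdim hdimY
    (Groth.Agent.H4.NormInt.normalizationι_genericPoint X)
    (Groth.Agent.H5.Curve7.locSurjAt_unitToPush_normalization X) hL
    (Curve.isCoh_of_rank hE) (fun y => torsion_eq_bot_of_rank hE y)

end Normalization

end Groth.Agent.LD.NormSS
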