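import Mathlib
import Groth.Agent.Lib.Lead.PD.NegAmple
import Groth.Agent.Lib.Lead.QC.AmpleGG
import Groth.Agent.Lib.Lead.QC.AmpleIso
import Groth.Agent.Lib.Lead.PN.H0
import Groth.Agent.Lib.Lead.CohLES.H0
import Groth.Agent.Lib.Helper1.TwCov
import Groth.Agent.Lib.Helper5.IntN.Hilb
import Groth.Agent.Lib.Helper5.VAmple.J
import Groth.Agent.Lib.Helper2.PicPnF

/-! # `O(d)` on `P^n_R` is ample iff `d > 0` (for `n ≥ 1`, `R ≠ 0`). -/

set_option autoImplicit false
universe u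
open CategoryTheory Limits Opposite AlgebraicGeometry TopologicalSpace

namespace Groth.Agent.LD.AmpleTw
open Twist TW Groth.Agent.LD.QC Groth.Agent.LD Groth.Agent.LD.PN

variable (n : ℕ) (R : Type u) [CommRing R]

/-- `O(d m) ≅ O(d)^{⊗ m}`. -/
theorem nonempty_twist_mul_iso_tensorPow (d : ℤ) (m : ℕ) :
    Nonempty (twist (CohB1.polyGrading n R) (d * (m : ℤ)) ≅
      CohB1.tensorPow (twist (CohB1.polyGrading n R) d) m) := by
  induction m with
  | zero => exact ⟨twistCongr (by simp) ≪≫ twistZeroIso (CohB1.polyGrading n R)⟩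
  | succ m ih =>
    obtain ⟨e⟩ := ih
    exact ⟨(twistMulIso n R (d * (m : ℤ)) d (d * ((m + 1 : ℕ) : ℤ)) (by push_cast; ring)).symm ≪≫
      QC.tensorIso' e (Iso.refl _)⟩

/-- `O(d)` is ample for `d > 0`. -/
theorem isAmple_twist_of_pos (d : ℤ) (hd : 0 < d) :
    CohB1.IsAmple (twist (CohB1.polyGrading n R) d) := by
  have h1 := Groth.Agent.H5.VAmple.isAmple_O1 n R
  haveI : CompactSpace (Proj (CohB1.polyGrading n R)) := h1.2.1
  have h2 := Groth.Agent.H1.TwCov.isAmple_twist_of_cov1 (Groth.Agent.H5.IntN.cov1_poly n R)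
    d.toNat (by omega)
  have h3 : ((d.toNat : ℕ) : ℤ) = d := Int.toNat_of_nonneg hd.le
  rw [h3] at h2
  exact h2

/-- `O(d)` is not ample for `d ≤ 0` (`n ≥ 1`, `R ≠ 0`). -/
theorem not_isAmple_of_nonpos [Nontrivial R] (hn : 0 < n) (d : ℤ) (hd : d ≤ 0) :
    ¬ CohB1.IsAmple (twist (CohB1.polyGrading n R) d) := by
  intro hA
  haveI : CompactSpace (Proj (CohB1.polyGrading n R)) := hA.2.1
  have hinv := isInvertible_twist n R (-1)
  haveI : (twist (CohB1.polyGrading n R) (-1)).IsQuasicoherent := qc_of_isInvertible _ hinv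
  obtain ⟨n₀, h⟩ := exists_epi_free_of_isAmple (twist (CohB1.polyGrading n R) d) hA
    (twist (CohB1.polyGrading n R) (-1)) (isFiniteType_of_isInvertible _ hinv)
  obtain ⟨K, p, hp⟩ := h n₀ le_rfl
  obtain ⟨e⟩ := nonempty_twist_mul_iso_tensorPow n R d n₀
  have ε : CohB1.tensorMod (twist (CohB1.polyGrading n R) (-1))
      (CohB1.tensorPow (twist (CohB1.polyGrading n R) d) n₀) ≅
      twist (CohB1.polyGrading n R) (-1 + d * (n₀ : ℤ)) :=
    QC.tensorIso' (Iso.refl _) e.symm ≪≫ twistMulIso n R (-1) (d * (n₀ : ℤ)) _ rfl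
  have hmul : d * (n₀ : ℤ) ≤ 0 := mul_nonpos_of_nonpos_of_nonneg hd (Int.natCast_nonneg n₀)
  have hneg : -1 + d * (n₀ : ℤ) < 0 := by omega
  haveI := subsingleton_HH_zero (R := R) hn (-1 + d * (n₀ : ℤ)) hneg
  haveI hΓ : Subsingleton Γ(twist (CohB1.polyGrading n R) (-1 + d * (n₀ : ℤ)), ⊤) :=
    (CL.HH0Equiv (twist (CohB1.polyGrading n R) (-1 + d * (n₀ : ℤ)))).symm.toEquiv.subsingleton
  have hzero : p ≫ ε.hom = 0 := by
    apply Sigma.hom_ext
    intro k
    rw [Limits.comp_zero]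
    apply unitHom_eq_zero_of_sectionOfHom
    exact Subsingleton.elim _ _
  haveI : Epi p := hp
  have hepi : Epi (p ≫ ε.hom) := epi_comp _ _
  rw [hzero] at hepi
  have hz : IsZero (twist (CohB1.polyGrading n R) (-1 + d * (n₀ : ℤ))) :=
    IsZero.of_epi_eq_zero (0 : FlatMod.freeMod (Proj (CohB1.polyGrading n R)) K ⟶ _) rfl
  exact Groth.Agent.H2.PicPn.not_isZero_twist (n := n) (R := R) _ hz

/-- **S10962**. -/
theorem main [Nontrivial R] (hn : 1 ≤ n) (d : ℤ) :
    CohB1.IsAmple (Twist.twistProjSpace n R d) ↔ 0 < d := by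
  constructor
  · intro h
    by_contra hd
    exact not_isAmple_of_nonpos n R hn d (not_lt.mp hd) h
  · intro hd
    exact isAmple_twist_of_pos n R d hd

end Groth.Agent.LD.AmpleTw
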