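import Groth.Agent.Lib.Helper5.Surf.GrowA
import Groth.Agent.Lib.Helper5.Glue.LS
import Groth.Agent.Lib.Helper5.Curve2.F
import Groth.Agent.Lib.Helper5.Curve3.FinBir
import Groth.Agent.Lib.Helper5.DegC.PullDeg
import Groth.Agent.Lib.Lead.QC.PullbackUnit
import Groth.Agent.Lib.Lead.QC.ProjFormula
import Groth.Agent.Lib.Lead.QC.AModPush
import Groth.Agent.Lib.Lead.QC.StalkNbhd
import Groth.Agent.Lib.Lead.FBC.EulerBC
import Groth.Prelude.Def_ShStab

/-! # Direct images along affine birational morphisms: local lemmas (lead)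

Tools for comparing (semi)stability of a module `E` on `Y` and of `ν_* E` on `X`, for a finite
birational morphism `ν : Y ⟶ X` of integral curves (for instance the normalization):

* `section_eq_zero_of_germ_generic`: sections of a torsion-free module are determined by their germ
  at the generic point;
* `hom_push_eq_zero_of_isTors`: there are no maps from a torsion module to `ν_* E`;
* `locSurjAt_unit`: if `O_X ⟶ ν_* O_Y` is locally surjective at `x` then so is the unit
  `F ⟶ ν_* ν^* F` for every quasi-coherent `F`;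
* `isZero_of_isZero_pushforward_affine`, `isIso_of_isIso_pushforward_map`: `ν_*` is conservative on
  quasi-coherent modules for affine `ν`;
* `isHilbPoly_push_iff`: Hilbert polynomials of `G` with respect to `ν^* L` and of `ν_* G` with
  respect to `L` agree. -/

set_option autoImplicit false
set_option linter.style.haveILetI false
universe u
open CategoryTheory CategoryTheory.Limits AlgebraicGeometry TopologicalSpace Opposite

attribute [-instance] Groth.Agent.LD.QC.stalkModule

namespace Groth.Agent.LD.NormSS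

open Groth.Agent.LD Groth.Agent.LD.QC Groth.Agent.H5.Glue Groth.Agent.H5.Curve4
  Groth.Agent.H1.StalkGen Groth.Agent.H2.StalkSpec

section Generic

variable {X : Scheme.{u}} [IsIntegral X]

/-- a section of a quasi-coherent module with torsion-free stalks on an integral scheme whose germ
at the generic point vanishes is zero. -/
theorem section_eq_zero_of_germ_generic (ω : X.Modules) [ω.IsQuasicoherent]
    (htf : ∀ x : X, Submodule.torsion (X.presheaf.stalk x) (ω.presheaf.stalk x) = ⊥)
    {U : X.Opens} (t : Γ(ω, U)) (hη : genericPoint X ∈ U)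
    (h : ω.presheaf.germ U (genericPoint X) hη t = 0) : t = 0 := by
  apply section_eq_zero_of_germ ω
  intro y hy
  have hsp : genericPoint X ⤳ y := genericPoint_specializes y
  obtain ⟨m, hm⟩ : ∃ m : ω.presheaf.stalk y, m = ω.presheaf.germ U y hy t := ⟨_, rfl⟩
  rw [← hm]
  have h1 : (ω.presheaf.stalkSpecializes hsp).hom m = 0 := by
    rw [hm, stalkSpecializes_germ ω hsp U hy]
    exact h
  letI := specModule ω hsp
  haveI := isLocalizedModule_specLinear ω hsp
  obtain ⟨⟨a, ha⟩, hac⟩ := (IsLocalizedModule.eq_zero_iff (primeOf hsp).asIdeal.primeCompl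
    (specLinear ω hsp)).mp h1
  have ha0 : a ≠ 0 := by
    intro h0
    apply ha
    rw [h0]
    exact Ideal.zero_mem _
  have hmem : m ∈ Submodule.torsion (X.presheaf.stalk y) (ω.presheaf.stalk y) :=
    (Submodule.mem_torsion_iff m).mpr ⟨⟨a, mem_nonZeroDivisors_of_ne_zero ha0⟩, hac⟩
  rw [htf y] at hmem
  exact (Submodule.mem_bot _).mp hmem

variable {Y : Scheme.{u}} [IsIntegral Y]

/-- a morphism from a torsion module to the direct image of a module with torsion-free stalks,
along a morphism preserving generic points, vanishes. -/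
theorem hom_push_eq_zero_of_isTors (ν : Y ⟶ X) (hη : ν (genericPoint Y) = genericPoint X)
    (E : Y.Modules) [E.IsQuasicoherent]
    (htf : ∀ y : Y, Submodule.torsion (Y.presheaf.stalk y) (E.presheaf.stalk y) = ⊥)
    {F : X.Modules} (hF : IsTors F) (φ : F ⟶ (Scheme.Modules.pushforward ν).obj E) : φ = 0 := by
  apply Scheme.Modules.hom_ext
  intro U
  ext s
  have key : φ.app U s = 0 := by
    obtain ⟨t, ht⟩ : ∃ t : Γ(E, ν ⁻¹ᵁ U), t = φ.app U s := ⟨_, rfl⟩
    have ht0 : t = 0 := by
      apply section_eq_zero_of_germ E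
      intro y hy
      have hU : genericPoint X ∈ U :=
        ((genericPoint_spec X).mem_open_set_iff U.2).mpr ⟨ν y, Set.mem_univ _, hy⟩
      haveI : Subsingleton (F.presheaf.stalk (genericPoint X)) := hF
      have hg : F.presheaf.germ U (genericPoint X) hU s = 0 := Subsingleton.elim _ _
      obtain ⟨W, hWU, hηW, hW⟩ := exists_res_eq_zero_of_germ_eq_zero F (genericPoint X) hU s hg
      have hηY : genericPoint Y ∈ ν ⁻¹ᵁ U := by
        change ν (genericPoint Y) ∈ U
        rw [hη]
        exact hU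
      have hηYW : genericPoint Y ∈ ν ⁻¹ᵁ W := by
        change ν (genericPoint Y) ∈ W
        rw [hη]
        exact hηW
      have hpre : ν ⁻¹ᵁ W ≤ ν ⁻¹ᵁ U := fun _ h => hWU h
      have h2 : E.presheaf.map (homOfLE hpre).op t = 0 := by
        have h3 := app_res φ hWU s
        rw [hW] at h3
        rw [ht]
        exact h3.symm.trans (map_zero _)
      have h4 : E.presheaf.germ (ν ⁻¹ᵁ U) (genericPoint Y) hηY t = 0 := by
        have h5 := TopCat.Presheaf.germ_res_apply E.presheaf (homOfLE hpre) (genericPoint Y)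
          hηYW t
        rw [← h5, h2]
        exact map_zero _
      have ht' := section_eq_zero_of_germ_generic E htf t hηY h4
      rw [ht']
      exact map_zero _
    exact ht.symm.trans ht0
  exact key

end Generic

section Unit

variable {X Y : Scheme.{u}} (f : Y ⟶ X)

lemma sres_res {A B C : Y.Opens} (h1 : B ≤ A) (h2 : C ≤ B) (b : Γ(Y, A)) :
    Y.presheaf.map (homOfLE h2).op (Y.presheaf.map (homOfLE h1).op b) =
      Y.presheaf.map (homOfLE (h2.trans h1)).op b := by
  change (Y.presheaf.map (homOfLE h1).op ≫ Y.presheaf.map (homOfLE h2).op) b = _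
  rw [← Functor.map_comp]
  rfl

lemma app_sres {U W : X.Opens} (h : W ≤ U) (a : Γ(X, U)) :
    f.app W (X.presheaf.map (homOfLE h).op a) =
      Y.presheaf.map (homOfLE (show f ⁻¹ᵁ W ≤ f ⁻¹ᵁ U from fun _ hy => h hy)).op (f.app U a) :=
  congr($(f.naturality (homOfLE h).op) a)

/-- **the unit `F ⟶ f_* f^* F` is locally surjective at `x`** for an affine morphism `f` such that
`O_X ⟶ f_* O_Y` is locally surjective at `x`, and `F` quasi-coherent. -/
theorem locSurjAt_unit [IsAffineHom f] (x : X) (hO : LocSurjAt (ClSub.unitToPush f) x)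
    (F : X.Modules) [F.IsQuasicoherent] :
    LocSurjAt ((Scheme.Modules.pullbackPushforwardAdjunction f).unit.app F) x := by
  intro U t hxU
  obtain ⟨V, hV, hxV, hVU⟩ := exists_isAffineOpen_mem_and_subset (x := x) (U := U) hxU
  have hV' : IsAffineOpen (f ⁻¹ᵁ V) := hV.preimage f
  have hpreVU : f ⁻¹ᵁ V ≤ f ⁻¹ᵁ U := fun _ h => hVU h
  obtain ⟨t₀, ht₀⟩ : ∃ t₀ : Γ((Scheme.Modules.pullback f).obj F, f ⁻¹ᵁ U), t₀ = t := ⟨_, rfl⟩
  obtain ⟨t', ht'⟩ : ∃ t' : Γ((Scheme.Modules.pullback f).obj F, f ⁻¹ᵁ V),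
      t' = ((Scheme.Modules.pullback f).obj F).presheaf.map (homOfLE hpreVU).op t₀ := ⟨_, rfl⟩
  have hspan := span_range_pbSec f hV' hV (le_refl (f ⁻¹ᵁ V)) F
  have hmem : t' ∈ Submodule.span Γ(Y, f ⁻¹ᵁ V)
      (Set.range (pbSec f F (le_refl (f ⁻¹ᵁ V)))) := by
    rw [hspan]
    trivial
  have key : ∀ z ∈ Submodule.span Γ(Y, f ⁻¹ᵁ V) (Set.range (pbSec f F (le_refl (f ⁻¹ᵁ V)))),
      ∃ (W : X.Opens) (hW : W ≤ V), x ∈ W ∧ ∃ g : Γ(F, W), unitSec f F W g =
        ((Scheme.Modules.pullback f).obj F).presheaf.map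
          (homOfLE (show f ⁻¹ᵁ W ≤ f ⁻¹ᵁ V from fun _ h => hW h)).op z := by
    intro z hz
    induction hz using Submodule.span_induction with
    | mem z hz =>
      obtain ⟨m, rfl⟩ := hz
      refine ⟨V, le_rfl, hxV, m, ?_⟩
      unfold pbSec
      rw [QC.res_res, QC.res_self]
    | zero =>
      refine ⟨V, le_rfl, hxV, 0, ?_⟩
      rw [unitSec_zero]
      exact (map_zero _).symm
    | add z₁ z₂ _ _ h₁ h₂ =>
      obtain ⟨W₁, hW₁, hx₁, g₁, e₁⟩ := h₁
      obtain ⟨W₂, hW₂, hx₂, g₂, e₂⟩ := h₂
      refine ⟨W₁ ⊓ W₂, inf_le_left.trans hW₁, ⟨hx₁, hx₂⟩,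
        F.presheaf.map (homOfLE (inf_le_left : W₁ ⊓ W₂ ≤ W₁)).op g₁ +
          F.presheaf.map (homOfLE (inf_le_right : W₁ ⊓ W₂ ≤ W₂)).op g₂, ?_⟩
      rw [unitSec_add, unitSec_res f F (inf_le_left : W₁ ⊓ W₂ ≤ W₁) g₁,
        unitSec_res f F (inf_le_right : W₁ ⊓ W₂ ≤ W₂) g₂, e₁, e₂, QC.res_res, QC.res_res]
      exact (map_add _ _ _).symm
    | smul b z _ h =>
      obtain ⟨W₁, hW₁, hx₁, g₁, e₁⟩ := h
      obtain ⟨W₂, hW₂, hx₂, a, ha⟩ := hO V
        (show Γ((Scheme.Modules.pushforward f).obj (Coh.structureModule Y), V) from b) hxV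
      obtain ⟨a', ha'⟩ : ∃ a' : Γ(X, W₂), a' = a := ⟨_, rfl⟩
      have hab : f.app W₂ a' =
          Y.presheaf.map (homOfLE (show f ⁻¹ᵁ W₂ ≤ f ⁻¹ᵁ V from fun _ h => hW₂ h)).op b := by
        rw [ha']
        exact ha
      refine ⟨W₁ ⊓ W₂, inf_le_left.trans hW₁, ⟨hx₁, hx₂⟩,
        (X.presheaf.map (homOfLE (inf_le_right : W₁ ⊓ W₂ ≤ W₂)).op a') •
          F.presheaf.map (homOfLE (inf_le_left : W₁ ⊓ W₂ ≤ W₁)).op g₁, ?_⟩
      rw [unitSec_smul, unitSec_res f F (inf_le_left : W₁ ⊓ W₂ ≤ W₁) g₁, e₁, QC.res_res, smul_res,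
        app_sres f (inf_le_right : W₁ ⊓ W₂ ≤ W₂) a', hab, sres_res]
  obtain ⟨W, hW, hxW, g, hg⟩ := key t' hmem
  refine ⟨W, hW.trans hVU, hxW, g, ?_⟩
  have h1 : ((Scheme.Modules.pullbackPushforwardAdjunction f).unit.app F).app W g =
      unitSec f F W g := rfl
  rw [h1, hg, ht', QC.res_res, ht₀]
  rfl

end Unit

section Conservative

variable {X Y : Scheme.{u}} (f : Y ⟶ X) [IsAffineHom f]

/-- the direct image along an affine morphism detects vanishing of quasi-coherent modules. -/
theorem isZero_of_isZero_pushforward_affine (G : Y.Modules) [G.IsQuasicoherent]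
    (h : IsZero ((Scheme.Modules.pushforward f).obj G)) : IsZero G := by
  apply isZero_of_affine_cover
  intro y
  obtain ⟨V, hV, hyV, -⟩ := exists_isAffineOpen_mem_and_subset (x := f y)
    (U := (⊤ : X.Opens)) trivial
  refine ⟨f ⁻¹ᵁ V, hV.preimage f, hyV, fun s => ?_⟩
  have h1 : 𝟙 ((Scheme.Modules.pushforward f).obj G) = 0 := h.eq_of_src _ _
  have h2 : Scheme.Modules.Hom.app (𝟙 ((Scheme.Modules.pushforward f).obj G)) V s =
      Scheme.Modules.Hom.app
        (0 : (Scheme.Modules.pushforward f).obj G ⟶ (Scheme.Modules.pushforward f).obj G) V s := by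
    rw [h1]
  exact h2

/-- the direct image along a morphism of the zero module is zero. -/
theorem isZero_pushforward_of_isZero {G : Y.Modules} (h : IsZero G) :
    IsZero ((Scheme.Modules.pushforward f).obj G) := by
  exact (Scheme.Modules.pushforward f).map_isZero h

/-- the direct image along an affine morphism detects isomorphisms among monomorphisms of
quasi-coherent modules. -/
theorem isIso_of_isIso_pushforward_map {G E : Y.Modules} (hE : E.IsQuasicoherent)
    (κ : G ⟶ E) [Mono κ] (hC : (cokernel κ).IsQuasicoherent)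
    (h : IsIso ((Scheme.Modules.pushforward f).map κ)) : IsIso κ := by
  haveI : Epi ((Scheme.Modules.pushforward f).map (cokernel.π κ)) :=
    epi_pushforward_of_affine f hE hC (cokernel.π κ)
  have h0 : (Scheme.Modules.pushforward f).map κ ≫
      (Scheme.Modules.pushforward f).map (cokernel.π κ) =
        (Scheme.Modules.pushforward f).map κ ≫ 0 := by
    rw [← Functor.map_comp, cokernel.condition, Functor.map_zero, comp_zero]
  have h1 : (Scheme.Modules.pushforward f).map (cokernel.π κ) = 0 :=
    (cancel_epi ((Scheme.Modules.pushforward f).map κ)).mp h0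
  have hz : IsZero ((Scheme.Modules.pushforward f).obj (cokernel κ)) :=
    IsZero.of_epi_eq_zero _ h1
  haveI := hC
  have hz' := isZero_of_isZero_pushforward_affine f _ hz
  haveI : Epi κ := Preadditive.epi_of_isZero_cokernel κ hz'
  exact isIso_of_mono_of_epi κ

end Conservative

section Hilb

variable (k : Type u) [Field k] {X Y : Scheme.{u}} [X.Over (Spec (CommRingCat.of k))]
  [Y.Over (Spec (CommRingCat.of k))] (ν : Y ⟶ X) [ν.IsOver (Spec (CommRingCat.of k))]
  [IsAffineHom ν]

/-- **Hilbert polynomials and direct images along affine morphisms**: the Hilbert polynomial of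
`G` with respect to `ν^* L` is the Hilbert polynomial of `ν_* G` with respect to `L`. -/
theorem isHilbPoly_push_iff (L : X.Modules) (hL : PicF.IsInvertible L) (G : Y.Modules)
    [G.IsQuasicoherent] (P : Polynomial ℚ) :
    ShStab.IsHilbPoly k X L ((Scheme.Modules.pushforward ν).obj G) P ↔
      ShStab.IsHilbPoly k Y ((Scheme.Modules.pullback ν).obj L) G P := by
  have key : ∀ m : ℕ,
      Curv2.euler k X (ShStab.twist X L ((Scheme.Modules.pushforward ν).obj G) m) =
        Curv2.euler k Y (ShStab.twist Y ((Scheme.Modules.pullback ν).obj L) G m) := by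
    intro m
    change Curv2.euler k X (CohB1.tensorMod ((Scheme.Modules.pushforward ν).obj G)
        (CohB1.tensorPow L m)) =
      Curv2.euler k Y (CohB1.tensorMod G (CohB1.tensorPow ((Scheme.Modules.pullback ν).obj L) m))
    have hΛ : PicF.IsInvertible (CohB1.tensorPow L m) := isInvertible_tensorPow hL m
    haveI : IsIso (projHom ν G (CohB1.tensorPow L m)) := isIso_projHom ν G _ hΛ
    let e1 : CohB1.tensorMod ((Scheme.Modules.pushforward ν).obj G) (CohB1.tensorPow L m) ≅
        (Scheme.Modules.pushforward ν).obj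
          (CohB1.tensorMod G ((Scheme.Modules.pullback ν).obj (CohB1.tensorPow L m))) :=
      asIso (projHom ν G (CohB1.tensorPow L m))
    let e2 : CohB1.tensorMod G ((Scheme.Modules.pullback ν).obj (CohB1.tensorPow L m)) ≅
        CohB1.tensorMod G (CohB1.tensorPow ((Scheme.Modules.pullback ν).obj L) m) :=
      tensorIso' (Iso.refl _) (pbTensorPowIso ν L hL m)
    haveI : (CohB1.tensorPow L m).IsQuasicoherent := qc_of_isInvertible _ hΛ
    haveI : ((Scheme.Modules.pullback ν).obj (CohB1.tensorPow L m)).IsQuasicoherent :=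
      qc_pullback ν (CohB1.tensorPow L m)
    haveI : (CohB1.tensorMod G
        ((Scheme.Modules.pullback ν).obj (CohB1.tensorPow L m))).IsQuasicoherent :=
      tensorMod_isQuasicoherent _ _
    rw [Groth.Agent.LD.FBC.euler_congr k e1,
      Groth.Agent.H5.DegC.euler_push_of_isAffineHom k ν _,
      Groth.Agent.LD.FBC.euler_congr k e2]
  constructor
  · intro h m
    rw [← h m, key m]
  · intro h m
    rw [← h m, key m]

end Hilb

end Groth.Agent.LD.NormSS
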