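import Groth.Agent.Lib.Lead.Misc3.KRRPush
import Groth.Agent.Lib.Lead.PN.OverChart
import Groth.Agent.Lib.Lead.PN.GlobalFn
import Groth.Agent.Lib.Helper3.ZClosCover
import Groth.Agent.Lib.Helper2.KThick1
import Groth.Agent.Lib.Helper2.FlC
import Groth.Agent.Lib.Lead.QC.TwistEquiv
import Groth.Agent.Lib.Lead.QC.TensorPow
import Groth.Agent.H4.PSch5

/-!
# `p_* O_P = O_Y` for `p : P^n_Y ⟶ Y`, and `p_K [O_P] = 1` (S3759) (lead)

* `isRegSheaf_structureModule`: `O_P` is regular relative to `p` (relative cohomology of `O(-i)`).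
* `isIso_unitToPush`: the canonical map `O_Y ⟶ p_* O_P` is an isomorphism (on an affine open
  `V = Spec A` of `Y` it is `A ⟶ Γ(P^n_A, O)`, through the chart `P^n_A ≅ p⁻¹ V`).
* `cl_eq_of_iso`: isomorphic finite locally free modules have the same class in `K`.
-/

set_option autoImplicit false
universe u

open CategoryTheory CategoryTheory.Limits AlgebraicGeometry Opposite TopologicalSpace

namespace Groth.Agent.LD.KRRUnit

open Groth.Agent.LD.PN
open scoped ZeroObject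

/-- `F(d)` for `F = O_P` is `O(d)`. -/
noncomputable def twFStructureIso (n : ℕ) (Y : Scheme.{u}) (d : ℤ) :
    KRR.twF n Y d (Coh.structureModule (KRR.PY n Y)) ≅ Twist.twistOver n Y d :=
  show ((DCoh.tensorBi (X := KRR.PY n Y)).obj (Twist.twistOver n Y d)).obj
      (Groth.Agent.LD.QC.unitMod (KRR.PY n Y)) ≅ Twist.twistOver n Y d from
    (Groth.Agent.LD.QC.twFUnit (X := KRR.PY n Y)).app (Twist.twistOver n Y d)

/-- the structure sheaf of `P^n_Y` is regular relative to the projection. -/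
theorem isRegSheaf_structureModule (n : ℕ) (Y : Scheme.{u}) :
    KRR.IsRegSheaf n Y (Coh.structureModule (KRR.PY n Y)) := by
  intro i hi
  have h0 := OC.isZero_RpushAb_twistOver n Y (-(i : ℤ)) i (by rintro ⟨h1, -⟩; omega)
    (by rintro ⟨h1, h2⟩; omega)
  exact IsZero.of_iso h0 ((Coh.RpushAb (KRR.pr n Y) i).mapIso
    ((SheafOfModules.toSheaf.{u} (KRR.PY n Y).ringCatSheaf).mapIso
      (twFStructureIso n Y (-(i : ℤ)))))

theorem isFinLocFree_structureModule (X : Scheme.{u}) :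
    FlatMod.IsFinLocFree (Coh.structureModule X) :=
  Groth.Agent.LD.QC.isFinLocFree_of_isInvertible _ (Groth.Agent.LD.QC.isInvertible_unit X)

section appLE

lemma appLE_congr_hom {X Y : Scheme.{u}} {f f' : X ⟶ Y} (h : f = f') (U : Y.Opens)
    (V : X.Opens) (e : V ≤ f ⁻¹ᵁ U) :
    f.appLE U V e = f'.appLE U V (h ▸ e) := by
  subst h
  rfl

end appLE

/-- the sections of `O_Y` over an affine open `V` are the functions on `p⁻¹ V`. -/
theorem isIso_app_toBase (n : ℕ) (Y : Scheme.{u}) (V : Y.Opens) (hV : IsAffineOpen V) :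
    IsIso ((CohB1.ProjSpaceOver.toBase n Y).app V) := by
  let g : Spec (CommRingCat.of Γ(Y, V)) ⟶ Y := hV.fromSpec
  haveI : IsOpenImmersion g := inferInstanceAs (IsOpenImmersion hV.fromSpec)
  let c : CohB1.ProjSpace n Γ(Y, V) ⟶ CohB1.ProjSpaceOver n Y := OC.chart n g
  let t : CohB1.ProjSpace n Γ(Y, V) ⟶ Spec (CommRingCat.of Γ(Y, V)) :=
    CohB1.ProjSpace.toSpec n Γ(Y, V)
  let p : CohB1.ProjSpaceOver n Y ⟶ Y := CohB1.ProjSpaceOver.toBase n Y
  have hc : c ≫ p = t ≫ g := OC.chart_toBase n g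
  have hgr : g.opensRange = V := hV.opensRange_fromSpec
  have hrange : c.opensRange = p ⁻¹ᵁ V := by
    have := OC.opensRange_chart n g
    rw [hgr] at this
    exact this
  have hgV : g ⁻¹ᵁ V = ⊤ := hV.fromSpec_preimage_self
  have e₁ : (⊤ : (CohB1.ProjSpace n Γ(Y, V)).Opens) ≤ c ⁻¹ᵁ (p ⁻¹ᵁ V) := by
    rw [← hrange]
    intro x _
    exact ⟨x, rfl⟩
  have e₂ : (⊤ : (CohB1.ProjSpace n Γ(Y, V)).Opens) ≤ t ⁻¹ᵁ (g ⁻¹ᵁ V) := by
    rw [hgV]
    intro x _
    trivial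
  have key : p.app V ≫ c.appLE (p ⁻¹ᵁ V) ⊤ e₁ = g.app V ≫ t.appLE (g ⁻¹ᵁ V) ⊤ e₂ := by
    rw [← Scheme.Hom.comp_appLE, ← Scheme.Hom.comp_appLE]
    exact appLE_congr_hom hc V ⊤ _
  have h1 : IsIso (c.appLE (p ⁻¹ᵁ V) ⊤ e₁) := by
    have h0 : IsIso (c.appLE (c ''ᵁ ⊤) ⊤ (c.preimage_image_eq ⊤).ge) := by
      rw [← Scheme.Hom.appIso_hom']
      infer_instance
    have hU : c ''ᵁ ⊤ = p ⁻¹ᵁ V := by
      rw [← hrange]
      exact c.image_top_eq_opensRange
    exact (Scheme.Hom.appLE_congr c _ hU rfl (fun φ => IsIso φ)).1 h0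
  have h2 : IsIso (g.app V) := Scheme.Hom.isIso_app g V (by rw [hgr])
  have h3 : IsIso (t.appLE (g ⁻¹ᵁ V) ⊤ e₂) := by
    have h0 : IsIso (t.appLE ⊤ ⊤ (by intro x _; trivial)) := by
      have h00 : t.appLE ⊤ (t ⁻¹ᵁ ⊤) le_rfl = t.app ⊤ := Scheme.Hom.appLE_eq_app t
      have h01 : IsIso (t.app ⊤) := Groth.Agent.LD.PN.isIso_toSpec_appTop n Γ(Y, V)
      rw [← h00] at h01
      exact h01
    exact (Scheme.Hom.appLE_congr t _ hgV.symm rfl (fun φ => IsIso φ)).1 h0
  have h4 : IsIso (p.app V ≫ c.appLE (p ⁻¹ᵁ V) ⊤ e₁) := by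
    rw [key]
    infer_instance
  exact IsIso.of_isIso_comp_right (p.app V) (c.appLE (p ⁻¹ᵁ V) ⊤ e₁)

/-- the canonical map `O_Y ⟶ f_* O_X`. -/
noncomputable def unitToPush {X Y : Scheme.{u}} (f : X ⟶ Y) :
    Coh.structureModule Y ⟶ (Scheme.Modules.pushforward f).obj (Coh.structureModule X) :=
  SheafOfModules.unitToPushforwardObjUnit f.toRingCatSheafHom

lemma unitToPush_app_apply {X Y : Scheme.{u}} (f : X ⟶ Y) (V : Y.Opens)
    (a : Γ(Coh.structureModule Y, V)) :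
    ((unitToPush f).app V) a = (f.app V).hom a := rfl

/-- `O_Y ⟶ p_* O_P` is an isomorphism for `p : P^n_Y ⟶ Y`. -/
theorem isIso_unitToPush (n : ℕ) (Y : Scheme.{u}) :
    IsIso (unitToPush (KRR.pr n Y)) := by
  refine Groth.Agent.H3.ZClosCover.isIso_of_bijective_basis _ (Y.affineOpens : Set Y.Opens)
    (Scheme.isBasis_affineOpens Y) ?_
  intro V hV
  haveI := isIso_app_toBase n Y V hV
  have hb : Function.Bijective ((CohB1.ProjSpaceOver.toBase n Y).app V).hom :=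
    ConcreteCategory.bijective_of_isIso ((CohB1.ProjSpaceOver.toBase n Y).app V)
  constructor
  · intro a b h
    rw [unitToPush_app_apply, unitToPush_app_apply] at h
    exact hb.1 h
  · intro b
    obtain ⟨a, ha⟩ := hb.2 b
    exact ⟨a, (unitToPush_app_apply (KRR.pr n Y) V a).trans ha⟩

/-- `p_* O_P ≅ O_Y`. -/
noncomputable def pushStructureIso (n : ℕ) (Y : Scheme.{u}) :
    (Scheme.Modules.pushforward (KRR.pr n Y)).obj (Coh.structureModule (KRR.PY n Y)) ≅
      Coh.structureModule Y :=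
  haveI := isIso_unitToPush n Y
  (asIso (unitToPush (KRR.pr n Y))).symm

/-- isomorphic finite locally free modules have the same class. -/
theorem cl_eq_of_iso {X : Scheme.{u}} {M N : X.Modules} (e : M ≅ N)
    (hM : FlatMod.IsFinLocFree M) : KRR.cl X M = KRR.cl X N := by
  haveI : (KRR.vbP X).IsClosedUnderIsomorphisms :=
    ⟨fun e h => Groth.Agent.H2.FlC.isFinLocFree_of_iso e h⟩
  haveI : (KRR.vbP X).ContainsZero :=
    ⟨⟨(0 : X.Modules), isZero_zero _, Groth.Agent.H4.PSch5.isFinLocFree_of_isZero (isZero_zero _)⟩⟩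
  exact Groth.Agent.H2.KThick.cl_iso (KRR.vbP X) e hM

/-- **S3759**: `p_K [O_P] = 1`. -/
theorem pushK_structure {KP : Type*} {KY : Type*} [CommRing KP] [CommRing KY]
    [LambdaRing.LambdaOps KY] (n : ℕ) (Y : Scheme.{u})
    (PY : LambdaRing.PosStructure KY) (φP : SGA6.Kvb (KRR.PY n Y) →+ KP)
    (φY : SGA6.Kvb Y →+ KY) (hKY : KRR.IsModel Y KY PY φY)
    (g : KP →+ KY) (hg : KRR.IsPushPr n Y φP φY g) :
    g (φP (KRR.cl (KRR.PY n Y) (Coh.structureModule (KRR.PY n Y)))) = 1 := by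
  rw [hg _ (isFinLocFree_structureModule _) (isRegSheaf_structureModule n Y)]
  have hflf : FlatMod.IsFinLocFree
      ((Scheme.Modules.pushforward (KRR.pr n Y)).obj (Coh.structureModule (KRR.PY n Y))) :=
    Groth.Agent.H2.FlC.isFinLocFree_of_iso (pushStructureIso n Y).symm
      (isFinLocFree_structureModule Y)
  rw [cl_eq_of_iso (pushStructureIso n Y) hflf, hKY.map_one]

end Groth.Agent.LD.KRRUnit
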