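import Groth.Agent.Lib.Lead.Misc3.KRRGen2
import Groth.Agent.Lib.Lead.QC.AmpleGG
import Groth.Agent.Lib.Lead.QC.FiniteFree
import Groth.Agent.Lib.Helper5.Curve4.VB2
import Groth.Agent.H4.LFP1
import Groth.Agent.H4.PCS6
import Groth.Agent.H4.PSch4

/-!
# The class of an ample invertible module is an ample line element of `K(X)` (S3743) (lead)

`X` connected Noetherian, `L` ample.  Every `x ∈ K(X)` is `[E] - [F]`; for `n ≫ 0` the module
`F ⊗ L^n` is a quotient of a free module `O^N` (Serre), with finite locally free kernel `Z`, so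
`[L]^n x = ([E ⊗ L^n] + [Z]) - N`.
-/

set_option autoImplicit false
universe u

open CategoryTheory CategoryTheory.Limits AlgebraicGeometry Opposite TopologicalSpace

namespace Groth.Agent.LD.KRRAmple

open Groth.Agent.LD.KRRGen

variable {X : Scheme.{u}}

/-- on a connected scheme a finite locally free module has constant rank. -/
theorem exists_rank_of_connected [ConnectedSpace X] {F : X.Modules}
    (hF : FlatMod.IsFinLocFree F) : ∃ r : ℕ, FlatMod.IsFinLocFreeOfRank r F := by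
  have hlc : IsLocallyConstant
      (fun x : X => Module.finrank (X.presheaf.stalk x) (F.presheaf.stalk x)) := by
    rw [IsLocallyConstant.iff_exists_open]
    intro x
    obtain ⟨U, n, hxU, ⟨e⟩⟩ := hF x
    refine ⟨U, U.2, hxU, fun y hy => ?_⟩
    exact (Groth.Agent.H4.LFP1.finrank_stalk_of_restrict_iso_freeMod F U n e y hy).trans
      (Groth.Agent.H4.LFP1.finrank_stalk_of_restrict_iso_freeMod F U n e x hxU).symm
  obtain ⟨x₀⟩ := (inferInstance : Nonempty X)
  refine ⟨Module.finrank (X.presheaf.stalk x₀) (F.presheaf.stalk x₀), fun x => ?_⟩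
  obtain ⟨U, n, hxU, ⟨e⟩⟩ := hF x
  have h1 := Groth.Agent.H4.LFP1.finrank_stalk_of_restrict_iso_freeMod F U n e x hxU
  have h2 := hlc.apply_eq_of_preconnectedSpace x x₀
  have h3 : n = Module.finrank (X.presheaf.stalk x₀) (F.presheaf.stalk x₀) := h1.symm.trans h2
  subst h3
  exact ⟨U, hxU, ⟨e⟩⟩

theorem isFinLocFree_of_rank {r : ℕ} {F : X.Modules} (hF : FlatMod.IsFinLocFreeOfRank r F) :
    FlatMod.IsFinLocFree F := by
  intro x
  obtain ⟨U, hx, e⟩ := hF x
  exact ⟨U, r, hx, e⟩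

/-- **S3743**. -/
theorem isAmpleElt [IsNoetherian X] [ConnectedSpace X] {K : Type*} [CommRing K]
    [LambdaRing.LambdaOps K] (P : LambdaRing.PosStructure K) (φ : SGA6.Kvb X →+ K)
    (hK : KRR.IsModel X K P φ) (L : X.Modules) (hL : CohB1.IsAmple L) :
    KRR.IsAmpleElt P (φ (KRR.cl X L)) := by
  have hLinv : PicF.IsInvertible L := hL.1
  have hL1 : FlatMod.IsFinLocFreeOfRank 1 L := (Groth.Agent.LD.QC.isInvertible_iff L).1 hLinv
  have hLflf : FlatMod.IsFinLocFree L := isFinLocFree_of_rank hL1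
  have hLn : ∀ n : ℕ, FlatMod.IsFinLocFree (CohB1.tensorPow L n) := fun n =>
    Groth.Agent.LD.QC.isFinLocFree_of_isInvertible _
      (Groth.Agent.LD.QC.isInvertible_tensorPow hLinv n)
  have hupos : φ (KRR.cl X L) ∈ P.pos := (hK.mem_pos_iff _).2 ⟨1, L, le_rfl, hL1, rfl⟩
  have hpow : ∀ n : ℕ, φ (KRR.cl X (CohB1.tensorPow L n)) = φ (KRR.cl X L) ^ n := by
    intro n
    induction n with
    | zero =>
      rw [pow_zero]
      exact hK.map_one
    | succ n ih =>
      rw [pow_succ, ← ih]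
      exact (hK.map_mul _ _ (hLn n) hLflf).symm
  have hupowpos : ∀ n : ℕ, φ (KRR.cl X L) ^ n ∈ P.pos := by
    intro n
    induction n with
    | zero =>
      rw [pow_zero]
      have h1 := P.natCast_mem 1 one_pos
      rwa [Nat.cast_one] at h1
    | succ n ih =>
      rw [pow_succ]
      exact P.mul_mem _ _ ih hupos
  refine ⟨⟨hupos, (hK.aug_cl 1 L hL1).trans Nat.cast_one⟩, fun x => ?_⟩
  obtain ⟨e, f, he, hf, rfl⟩ := P.exists_sub x
  obtain ⟨a, E, ha, hE, rfl⟩ := (hK.mem_pos_iff e).1 he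
  obtain ⟨b, F, hb, hF, rfl⟩ := (hK.mem_pos_iff f).1 hf
  have hFflf : FlatMod.IsFinLocFree F := isFinLocFree_of_rank hF
  have hFcoh : Coh.IsCoh F := Groth.Agent.H4.PSch4.isCoh_of_isFinLocFree F hFflf
  haveI : F.IsQuasicoherent := hFcoh.1
  obtain ⟨n₀, hn₀⟩ := Groth.Agent.LD.QC.exists_epi_free_of_isAmple L hL F hFcoh.2
  refine ⟨n₀, fun n hn => ?_⟩
  obtain ⟨N, p, hp⟩ := hn₀ n hn
  haveI := hp
  have hG : FlatMod.IsFinLocFree (CohB1.tensorMod F (CohB1.tensorPow L n)) :=
    Groth.Agent.H4.RT4.isFinLocFree_tensor _ _ hFflf (hLn n)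
  have hfree : FlatMod.IsFinLocFree (FlatMod.freeMod X N) :=
    Groth.Agent.LD.SC.isFinLocFree_sigma_of_isInvertible _
      (Groth.Agent.LD.QC.isInvertible_unit X) N
  have hker : FlatMod.IsFinLocFree (kernel p) :=
    Groth.Agent.H4.PCS6.isFinLocFree_kernel p hfree hG
  have hS : (ShortComplex.mk (kernel.ι p) p (kernel.condition p)).ShortExact :=
    { exact := ShortComplex.exact_kernel p
      mono_f := inferInstance
      epi_g := hp }
  have hses : KRR.cl X (FlatMod.freeMod X N) = KRR.cl X (kernel p) +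
      KRR.cl X (CohB1.tensorMod F (CohB1.tensorPow L n)) := cl_ses' _ hS hker hfree hG
  have hfreecl : KRR.cl X (FlatMod.freeMod X N) = N • KRR.cl X (Coh.structureModule X) :=
    cl_map_sigma (𝟭 X.Modules) (fun M hM => hM) (Coh.structureModule X)
      (Groth.Agent.LD.QC.isInvertible_unit X) N
  have hunf : φ (KRR.cl X L) ^ n * φ (KRR.cl X F) =
      φ (KRR.cl X (CohB1.tensorMod F (CohB1.tensorPow L n))) := by
    rw [mul_comm, ← hpow n]
    exact hK.map_mul _ _ hFflf (hLn n)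
  have hκ : φ (KRR.cl X (CohB1.tensorMod F (CohB1.tensorPow L n))) =
      (N : K) - φ (KRR.cl X (kernel p)) := by
    have h1 : φ (KRR.cl X (FlatMod.freeMod X N)) = φ (KRR.cl X (kernel p)) +
        φ (KRR.cl X (CohB1.tensorMod F (CohB1.tensorPow L n))) := by
      rw [hses, map_add]
    rw [hfreecl, map_nsmul, hK.map_one, nsmul_eq_mul, mul_one] at h1
    rw [h1]
    ring
  obtain ⟨c, hc⟩ := exists_rank_of_connected hker
  have hpos : φ (KRR.cl X L) ^ n * φ (KRR.cl X E) + φ (KRR.cl X (kernel p)) ∈ P.pos := by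
    have h1 : φ (KRR.cl X L) ^ n * φ (KRR.cl X E) ∈ P.pos := P.mul_mem _ _ (hupowpos n) he
    rcases Nat.eq_zero_or_pos c with rfl | hcpos
    · have hz : IsZero (kernel p) := Groth.Agent.H5.Curve4.isZero_of_rank_zero hc
      rw [cl_zero' hz, map_zero, add_zero]
      exact h1
    · exact P.add_mem _ _ h1 ((hK.mem_pos_iff _).2 ⟨c, kernel p, hcpos, hc, rfl⟩)
  refine ⟨_, N, hpos, ?_⟩
  rw [mul_sub, hunf, hκ]
  ring

end Groth.Agent.LD.KRRAmple
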