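import Mathlib
import Groth.Agent.Lib.Helper5.IntN.Nak8
import Groth.Agent.Lib.Helper5.ArS.InvCart
import Groth.Agent.Lib.Lead.QC.ProjFormula
import Groth.Agent.Lib.Lead.QC.PushFin
import Groth.Agent.Lib.Lead.QC.Push

/-!
# `O(mD)` is globally generated for `m ≫ 0` when `O(D)|_D` is ample

`eventually_gg_of_ses` is adapted from helper5's `H5.IntN.exists_gg_tensorPow_of_section`
(same argument; the non-increasing sequence `h¹(N^n)` is eventually constant, which gives the
conclusion for all large exponents, and the section is only assumed to be part of a short exact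
sequence, with no integrality hypothesis).
-/

set_option autoImplicit false
universe u
open CategoryTheory CategoryTheory.Limits AlgebraicGeometry TopologicalSpace Opposite

namespace Groth.Agent.LD.ADG

open Groth.Agent.LD Groth.Agent.LD.QC Groth.Agent.H5.Curve4 Groth.Agent.H5.DegC
  Groth.Agent.H5.Snap Groth.Agent.LD.PN.AmD Groth.Agent.H5.IntN

/-- a sequence of natural numbers which is eventually non-increasing is eventually constant. -/
theorem exists_forall_eq_succ_of_antitone_from (u : ℕ → ℕ) (n₀ : ℕ)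
    (h : ∀ n, n₀ ≤ n → u (n + 1) ≤ u n) :
    ∃ n₁, n₀ ≤ n₁ ∧ ∀ n, n₁ ≤ n → u (n + 1) = u n := by
  have hne : (Set.range fun j : ℕ => u (n₀ + j)).Nonempty := ⟨_, ⟨0, rfl⟩⟩
  obtain ⟨j₀, hj₀⟩ : ∃ j₀, ∀ j, u (n₀ + j₀) ≤ u (n₀ + j) := by
    obtain ⟨m, ⟨j₀, rfl⟩, hmin⟩ := (wellFounded_lt (α := ℕ)).has_min _ hne
    exact ⟨j₀, fun j => not_lt.mp (hmin _ ⟨j, rfl⟩)⟩
  have hanti : ∀ n, n₀ ≤ n → ∀ j, u (n + j) ≤ u n := by
    intro n hn j
    induction j with
    | zero => exact le_rfl
    | succ j ih => exact (h (n + j) (by omega)).trans ih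
  refine ⟨n₀ + j₀, Nat.le_add_right _ _, fun n hn => ?_⟩
  have h1 : u n ≤ u (n₀ + j₀) := by
    obtain ⟨j, rfl⟩ := Nat.exists_eq_add_of_le hn
    exact hanti _ (Nat.le_add_right _ _) j
  have h2 : u (n₀ + j₀) ≤ u (n + 1) := by
    have : n + 1 = n₀ + (n + 1 - n₀) := by omega
    rw [this]; exact hj₀ _
  have h3 := h n (by omega)
  omega

section push

variable {Z X : Scheme.{u}} (i : Z ⟶ X) [IsClosedImmersion i]

/-- the unit `F → i_* i^* F` is an isomorphism on direct images along a closed immersion. -/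
theorem isIso_unit_pushforward (G : Z.Modules) [G.IsQuasicoherent] :
    IsIso ((Scheme.Modules.pullbackPushforwardAdjunction i).unit.app
      ((Scheme.Modules.pushforward i).obj G)) := by
  haveI := qc_pushforward i G
  rw [isIso_unit_closedImmersion_iff]
  intro U a ha s
  rw [Scheme.Hom.ker_apply] at ha
  have h0 : (i.app U.1) a = 0 := ha
  rw [pushforward_smul]
  show (i.app U.1 a) • (show Γ(G, i ⁻¹ᵁ U.1) from s) = 0
  rw [h0, zero_smul]

end push

variable (k : Type u) [Field k] {X : Scheme.{u}} [X.Over (Spec (CommRingCat.of k))]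
  [IsProper (X ↘ Spec (CommRingCat.of k))]

include k in
/-- on a proper scheme over a field, if `0 ⟶ O ⟶ N ⟶ R ⟶ 0` is exact with `N` invertible, and
the twists of `R` by powers of `N` have eventually vanishing higher cohomology and are eventually
globally generated, then all large powers of `N` are globally generated. -/
theorem eventually_gg_of_ses (N : X.Modules) (hN : PicF.IsInvertible N) {R : X.Modules}
    (σ : unitMod X ⟶ N) (g : N ⟶ R) (w : σ ≫ g = 0)
    (hS : (ShortComplex.mk σ g w).ShortExact) (hRc : Coh.IsCoh R) (hEV : EV N R)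
    (hEGG : ∃ n₀ : ℕ, ∀ n, n₀ ≤ n →
      Curv2.IsGloballyGenerated (CohB1.tensorMod R (CohB1.tensorPow N n))) :
    ∃ n₁ : ℕ, ∀ n, n₁ ≤ n → Curv2.IsGloballyGenerated (CohB1.tensorPow N (n + 1)) := by
  haveI : IsLocallyNoetherian X := Curve.isLocallyNoetherian k X
  haveI : CompactSpace X := QuasiCompact.compactSpace_of_compactSpace (X ↘ Spec (CommRingCat.of k))
  haveI : IsNoetherian X := {}
  have hO : PicF.IsInvertible (unitMod X) := isInvertible_unit X
  have hOc := isCoh_of_isInvertible hO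
  have hNc := isCoh_of_isInvertible hN
  have hP : ∀ n, PicF.IsInvertible (CohB1.tensorPow N n) := fun n => isInvertible_tensorPow hN n
  have hPc : ∀ n, Coh.IsCoh (CohB1.tensorPow N n) := fun n => isCoh_of_isInvertible (hP n)
  obtain ⟨n₀, hn₀⟩ := hEV
  obtain ⟨n₀', hn₀'⟩ := hEGG
  have hSn := fun n => shortExact_tensorMap_of_isInvertible hS (CohB1.tensorPow N n) (hP n)
  haveI := hNc.1
  haveI : ∀ n, (CohB1.tensorPow N n).IsQuasicoherent := fun n => (hPc n).1
  -- `h¹(N ⊗ N^n) = h¹(O ⊗ N^(n+1))`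
  have hiso : ∀ n, Module.finrank k (Coh.HH X (CohB1.tensorMod N (CohB1.tensorPow N n)) 1) =
      Module.finrank k (Coh.HH X (CohB1.tensorMod (unitMod X) (CohB1.tensorPow N (n + 1))) 1) := by
    intro n
    exact Groth.Agent.H5.Curve2.finrank_HH_iso k X
      (tensorCommAll N (CohB1.tensorPow N n) ≪≫ (unitorL' (CohB1.tensorPow N (n + 1))).symm) 1
  obtain ⟨n₁, hn₁, hstab⟩ := exists_forall_eq_succ_of_antitone_from
    (fun n => Module.finrank k (Coh.HH X (CohB1.tensorMod (unitMod X) (CohB1.tensorPow N n)) 1))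
    (max n₀ n₀') (by
      intro n hn
      have h3 := hn₀ n ((le_max_left _ _).trans hn) 1 Nat.one_pos
      have hle := finrank_HH_mid_le k (hSn n) (isCoh_tensorMod' hOc (hPc n))
        (isCoh_tensorMod' hNc (hPc n)) (isCoh_tensorMod' hRc (hPc n)) 1
      haveI := h3
      rw [Module.finrank_zero_of_subsingleton (M := Coh.HH X
        (CohB1.tensorMod R (CohB1.tensorPow N n)) 1), add_zero] at hle
      change Module.finrank k (Coh.HH X (CohB1.tensorMod N (CohB1.tensorPow N n)) 1) ≤ _ at hle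
      rw [hiso n] at hle
      exact hle)
  refine ⟨n₁, fun n hn => ?_⟩
  have hn' : max n₀ n₀' ≤ n := hn₁.trans hn
  have hstab' := hstab n hn
  beta_reduce at hstab'
  rw [← hiso n] at hstab'
  -- lifting of sections
  have hlift := exists_lift_section_of_finrank_eq k (hSn n) (isCoh_tensorMod' hOc (hPc n))
    (isCoh_tensorMod' hNc (hPc n)) (hn₀ n ((le_max_left _ _).trans hn') 1 Nat.one_pos) hstab'.symm
  have hE := isCoh_tensorMod' hNc (hPc n)
  have hRn := isCoh_tensorMod' hRc (hPc n)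
  have hgg := isGloballyGenerated_of_tensorMap_ses (CohB1.tensorPow N n) hN σ
    (KoszTw.tensorMap g (𝟙 (CohB1.tensorPow N n))) _ (hSn n) hE.1 hE.2 hRn.1 hRn.2
    (hn₀' n ((le_max_right _ _).trans hn'))  hlift
    (sectionOfHom (SecTwist.tmulHom σ (SecTwist.powHom σ n))) (by
      rw [homOfSection_sectionOfHom, genLocus_tmulHom hN (hP n)]
      exact le_inf le_rfl (le_genLocus_powHom hN σ n))
  exact Groth.Agent.H5.GG.isGloballyGenerated_of_epi (tensorCommAll N (CohB1.tensorPow N n)).hom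
    inferInstance hgg

include k in
/-- **`O(mD)` is globally generated for `m ≫ 0`** when `D` is an effective Cartier divisor on a
proper scheme over a field and `O(D)|_D` is ample. -/
theorem main (D : X.IdealSheafData) (LD : X.Modules)
    (hLD : ClSub.IsInverseOf LD (ClSub.idealMod D))
    (hample : CohB1.IsAmple ((Scheme.Modules.pullback D.subschemeι).obj LD)) :
    ∀ᶠ m : ℕ in Filter.atTop, Curv2.IsGloballyGenerated (CohB1.tensorPow LD m) := by
  haveI : IsLocallyNoetherian X := Curve.isLocallyNoetherian k X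
  haveI : CompactSpace X := QuasiCompact.compactSpace_of_compactSpace (X ↘ Spec (CommRingCat.of k))
  haveI : IsNoetherian X := {}
  obtain ⟨-, -, hN⟩ := Groth.Agent.H5.ArS.inverse_facts D LD hLD
  obtain ⟨e⟩ := hLD
  have hNc := isCoh_of_isInvertible hN
  have hS₀ := Groth.Agent.H5.DegC.shortExact_idealMod D
  have hS₁ := shortExact_tensorMap_of_isInvertible hS₀ LD hN
  obtain ⟨e', he'⟩ : ∃ e' : CohB1.tensorMod (ClSub.idealMod D) LD ≅ unitMod X,
    e' = tensorCommAll _ _ ≪≫ e := ⟨_, rfl⟩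
  obtain ⟨σ, hσ⟩ : ∃ σ : unitMod X ⟶ LD,
    σ = e'.inv ≫ KoszTw.tensorMap (ClSub.idealModι D) (𝟙 LD) ≫ (unitorL' LD).hom := ⟨_, rfl⟩
  obtain ⟨g, hg⟩ : ∃ g : LD ⟶ CohB1.tensorMod
      ((Scheme.Modules.pushforward D.subschemeι).obj (unitMod D.subscheme)) LD,
    g = (unitorL' LD).inv ≫ KoszTw.tensorMap (ClSub.toSubscheme D) (𝟙 LD) := ⟨_, rfl⟩
  have hz0 : ClSub.idealModι D ≫ ClSub.toSubscheme D = 0 := kernel.condition _
  have hz : KoszTw.tensorMap (ClSub.idealModι D) (𝟙 LD) ≫
      KoszTw.tensorMap (ClSub.toSubscheme D) (𝟙 LD) = 0 := by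
    rw [← tensorMap_comp_id, hz0, tensorMap_zero_id hN]
  have w : σ ≫ g = 0 := by
    rw [hσ, hg]
    simp only [Category.assoc, Iso.hom_inv_id_assoc]
    rw [hz, comp_zero]
  have hS : (ShortComplex.mk σ g w).ShortExact := by
    have eS : ShortComplex.mk (KoszTw.tensorMap (ClSub.idealModι D) (𝟙 LD))
        (KoszTw.tensorMap (ClSub.toSubscheme D) (𝟙 LD)) hz ≅ ShortComplex.mk σ g w := by
      refine ShortComplex.isoMk e' (unitorL' LD) (Iso.refl _) ?_ ?_
      · change e'.hom ≫ σ = KoszTw.tensorMap (ClSub.idealModι D) (𝟙 LD) ≫ (unitorL' LD).hom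
        rw [hσ, Iso.hom_inv_id_assoc]
      · change (unitorL' LD).hom ≫ g = KoszTw.tensorMap (ClSub.toSubscheme D) (𝟙 LD) ≫ 𝟙 _
        rw [hg, Iso.hom_inv_id_assoc, Category.comp_id]
    exact ShortComplex.shortExact_of_iso eS hS₁
  -- the quotient `R = i_* O_D ⊗ LD`
  have hODc : Coh.IsCoh (unitMod D.subscheme) := isCoh_of_isInvertible (isInvertible_unit _)
  haveI := hODc.1
  have hQc : Coh.IsCoh ((Scheme.Modules.pushforward D.subschemeι).obj (unitMod D.subscheme)) :=
    ⟨qc_pushforward D.subschemeι _, isFiniteType_pushforward_of_isFinite D.subschemeι _ hODc.2⟩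
  have hRc : Coh.IsCoh (CohB1.tensorMod
      ((Scheme.Modules.pushforward D.subschemeι).obj (unitMod D.subscheme)) LD) :=
    isCoh_tensorMod' hQc hNc
  have hGc : Coh.IsCoh (CohB1.tensorMod (unitMod D.subscheme)
      ((Scheme.Modules.pullback D.subschemeι).obj LD)) :=
    isCoh_tensorMod' hODc (isCoh_of_isInvertible hample.1)
  haveI := hGc.1
  have hiso : IsIso ((Scheme.Modules.pullbackPushforwardAdjunction D.subschemeι).unit.app
      (CohB1.tensorMod
        ((Scheme.Modules.pushforward D.subschemeι).obj (unitMod D.subscheme)) LD)) := by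
    rw [NatTrans.isIso_app_iff_of_iso _ (projIso D.subschemeι (unitMod D.subscheme) LD hN)]
    exact isIso_unit_pushforward D.subschemeι _
  obtain ⟨hEV, hEGG⟩ := EV_EGG_of_isAmple_pullback k LD hN _ hRc D hiso hample
  obtain ⟨n₁, hn₁⟩ := eventually_gg_of_ses k LD hN σ g w hS hRc hEV hEGG
  rw [Filter.eventually_atTop]
  refine ⟨n₁ + 1, fun m hm => ?_⟩
  obtain ⟨n, rfl⟩ : ∃ n, m = n + 1 := ⟨m - 1, by omega⟩
  exact hn₁ n (by omega)

end Groth.Agent.LD.ADG
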