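import Groth.Agent.Lib.Helper8.CK.Punct
import Groth.Agent.Lib.Helper9.Misc.BLA13
import Groth.Agent.Lib.Lead.QC.BlowUpBasic
import Groth.Agent.Lib.Lead.QC.CartierCompl
import Groth.Agent.Lib.Lead.QC.Push
import Groth.Agent.Lib.Lead.QC.SubExtRestrict
import Groth.Agent.Lib.Lead.PN.AmpleFin
import Groth.Agent.Lib.Lead.Cech.FinTypeApprox
import Groth.Agent.Lib.Lead.XS.RelDual
import Groth.Agent.Lib.Lead.AS.Vanish

/-! # `cd(A, I) ≤ d + 1` when the blow-up of `I` has fibres of dimension `≤ d` (S8937)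

`H^{q+2}_I(M) = H^{q+1}(Spec A ∖ V(I), M~)`; the punctured spectrum is isomorphic to the complement
`W` of the exceptional divisor in the blow-up `X`; `W ⟶ X` is affine, so
`H^{q+1}(W, K) = H^{q+1}(X, j_* K)`, which vanishes for `q + 1 > d` by relative Grothendieck
vanishing (and approximation of quasi-coherent modules by finite type ones). -/

set_option autoImplicit false
set_option linter.style.haveILetI false
universe u
open CategoryTheory Limits Opposite AlgebraicGeometry TopologicalSpace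

namespace Groth.Agent.LD.BlowCd

open Groth.Agent.LD Groth.Agent.LD.QC

lemma subsingleton_HH_restrict_congr {X : Scheme.{u}} (M : X.Modules) {U U' : X.Opens}
    (h : U = U') (p : ℕ) (hs : Subsingleton (Coh.HH U.toScheme (M.restrict U.ι) p)) :
    Subsingleton (Coh.HH U'.toScheme (M.restrict U'.ι) p) := by
  subst h; exact hs

lemma isAffineHom_ι_congr {X : Scheme.{u}} {U U' : X.Opens} (h : U = U')
    (hs : IsAffineHom U.ι) : IsAffineHom U'.ι := by
  subst h; exact hs

/-- the punctured spectrum is the complement of the support of the ideal sheaf. -/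
theorem puncturedOpen_eq (A : Type u) [CommRing A] (I : Ideal A) :
    LocCoh.puncturedOpen A I = (Curv2.idealSheaf A I).support.compl := by
  ext x
  show x ∈ (PrimeSpectrum.zeroLocus (I : Set A))ᶜ ↔
    x ∈ ((Curv2.idealSheaf A I).support : Set _)ᶜ
  rw [Curv2.idealSheaf, Scheme.IdealSheafData.coe_support_ofIdealTop, Ideal.map,
    Scheme.zeroLocus_span, ← Spec_zeroLocus_eq_zeroLocus (R := CommRingCat.of A) (I : Set A)]
  rfl

lemma preimage_compl_eq {S X : Scheme.{u}} (𝓘 : S.IdealSheafData) (b : X ⟶ S) :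
    (𝓘.comap b).support.compl = b ⁻¹ᵁ 𝓘.support.compl := by
  ext x
  rw [Scheme.IdealSheafData.support_comap]
  rfl

/-- converse of `AmD.subsingleton_HH_push_of_affine`. -/
theorem subsingleton_HH_of_push_of_affine {X : Scheme.{u}} (A : Type u) [CommRing A]
    (f : X ⟶ Spec (CommRingCat.of A)) {Y : Scheme.{u}} (g : Y ⟶ X) [IsAffineHom g]
    (M : Y.Modules) [M.IsQuasicoherent] (p : ℕ)
    (h : Subsingleton (Coh.HH X ((Scheme.Modules.pushforward g).obj M) p)) :
    Subsingleton (Coh.HH Y M p) := by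
  letI : X.Over (Spec (CommRingCat.of A)) := ⟨f⟩
  letI : Y.Over (Spec (CommRingCat.of A)) := ⟨g ≫ f⟩
  haveI : g.IsOver (Spec (CommRingCat.of A)) := ⟨rfl⟩
  obtain ⟨e⟩ := H2.nonempty_HH_pushforward_linearEquiv A g M (by
    intro q
    exact SC.isZero_rightDerived_push g.base {V : X.Opens | IsAffineOpen V}
      X.isBasis_affineOpens 0
      (fun V hV i _ => SC.subsingleton_ext_of_isAffineOpen M i (g ⁻¹ᵁ V) (hV.preimage g)) q
      (Nat.zero_le _)) p
  exact e.symm.toEquiv.subsingleton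

/-- quasi-coherent cohomology of the complement of the centre of a blow-up of a Noetherian affine
scheme vanishes above the dimension of the fibres. -/
theorem vanish_compl {S X : Scheme.{u}} [IsAffine S] [IsLocallyNoetherian S]
    (𝓘 : S.IdealSheafData) (b : X ⟶ S) [IsProper b]
    (hb : BlowUp.IsBlowUp b 𝓘) (d : ℕ) (hd : ∀ s : S, topologicalKrullDim ↥(b.fiber s) ≤ d)
    (N : S.Modules) [N.IsQuasicoherent] (p : ℕ) (hp : d < p) :
    Subsingleton (Coh.HH (↑𝓘.support.compl) (N.restrict (Scheme.Opens.ι (X := S) 𝓘.support.compl)) p) := by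
  obtain ⟨p', rfl⟩ : ∃ p', p = p' + 1 := ⟨p - 1, by omega⟩
  haveI : CompactSpace X := QuasiCompact.compactSpace_of_compactSpace b
  haveI : X.IsSeparated := ⟨by rw [← terminal.comp_from b]; infer_instance⟩
  haveI hiso : IsIso (b ∣_ 𝓘.support.compl) := IsBlowUp.isIso_restrict_compl hb
  haveI haff : IsAffineHom (b ⁻¹ᵁ 𝓘.support.compl).ι :=
    isAffineHom_ι_congr (preimage_compl_eq 𝓘 b)
      (isAffineHom_compl_of_locPrincipal (𝓘.comap b) (fun x _ => by
        obtain ⟨U, hxU, f, -, hf⟩ := hb.1 x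
        exact ⟨U, hxU, f, hf⟩))
  haveI : (N.restrict (Scheme.Opens.ι (X := S) 𝓘.support.compl)).IsQuasicoherent := qc_restrict _ N
  haveI hK : ((Scheme.Modules.pushforward (inv (b ∣_ 𝓘.support.compl))).obj
      (N.restrict (Scheme.Opens.ι (X := S) 𝓘.support.compl))).IsQuasicoherent := qc_pushforward _ _
  haveI hjK : ((Scheme.Modules.pushforward (b ⁻¹ᵁ 𝓘.support.compl).ι).obj
      ((Scheme.Modules.pushforward (inv (b ∣_ 𝓘.support.compl))).obj
      (N.restrict (Scheme.Opens.ι (X := S) 𝓘.support.compl)))).IsQuasicoherent := qc_pushforward _ _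
  have h1 : Subsingleton (Coh.HH X ((Scheme.Modules.pushforward (b ⁻¹ᵁ 𝓘.support.compl).ι).obj
      ((Scheme.Modules.pushforward (inv (b ∣_ 𝓘.support.compl))).obj
      (N.restrict (Scheme.Opens.ι (X := S) 𝓘.support.compl)))) (p' + 1)) :=
    CH.subsingleton_HH_of_finiteType_vanishing p'
      (fun F hF hFt => XS.RD.subsingleton_HH_of_fiber_dim b d hd F ⟨hF, hFt⟩ (p' + 1) hp) _
  have h2 : Subsingleton (Coh.HH (↑(b ⁻¹ᵁ 𝓘.support.compl))
      ((Scheme.Modules.pushforward (inv (b ∣_ 𝓘.support.compl))).obj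
      (N.restrict (Scheme.Opens.ι (X := S) 𝓘.support.compl))) (p' + 1)) :=
    subsingleton_HH_of_push_of_affine (ULift.{u} ℤ) (specULiftZIsTerminal.from _)
      (b ⁻¹ᵁ 𝓘.support.compl).ι _ (p' + 1) h1
  have h3 : Subsingleton (Coh.HH (↑𝓘.support.compl)
      ((Scheme.Modules.pushforward (b ∣_ 𝓘.support.compl)).obj
      ((Scheme.Modules.pushforward (inv (b ∣_ 𝓘.support.compl))).obj
      (N.restrict (Scheme.Opens.ι (X := S) 𝓘.support.compl)))) (p' + 1)) :=
    PN.AmD.subsingleton_HH_push_of_affine (ULift.{u} ℤ) (specULiftZIsTerminal.from _)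
      (b ∣_ 𝓘.support.compl) _ (p' + 1) h2
  refine AS.subsingleton_HH_of_iso' ?_ (p' + 1) h3
  exact (Scheme.Modules.pushforwardComp (inv (b ∣_ 𝓘.support.compl))
      (b ∣_ 𝓘.support.compl)).app _ ≪≫
    (Scheme.Modules.pushforwardCongr (IsIso.inv_hom_id _)).app _ ≪≫
    (Scheme.Modules.pushforwardId _).app _

theorem main (A : Type u) [CommRing A] [IsNoetherianRing A] (I : Ideal A) (X : Scheme.{u})
    (b : X ⟶ Spec (CommRingCat.of A)) (hb : BlowUp.IsBlowUp b (Curv2.idealSheaf A I)) (d : ℕ)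
    (hd : Dual3.FibreDimLE b d) : LocCoh.CdLE A I (d + 1) := by
  intro M _ _ i hi
  obtain ⟨q, rfl⟩ : ∃ q, i = q + 2 := ⟨i - 2, by omega⟩
  obtain ⟨e⟩ := Groth.Agent.H8.CK.nonempty_HH_punctured_equiv_lc A I (ModuleCat.of A M) q
  haveI : IsNoetherianRing ↑(CommRingCat.of A) := ‹IsNoetherianRing A›
  haveI : IsProper b := Groth.Agent.H9.BLA.IsBlowUp.isProper_of_locally_fg hb (fun x =>
    ⟨⟨⊤, isAffineOpen_top _⟩, trivial,
      (isNoetherianRing_iff_ideal_fg _).1
        (IsLocallyNoetherian.component_noetherian ⟨⊤, isAffineOpen_top _⟩) _⟩)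
  haveI key : Subsingleton (Coh.HH (↑(LocCoh.puncturedOpen A I))
      ((tilde (R := CommRingCat.of A) (ModuleCat.of A M)).restrict
        (LocCoh.puncturedOpen A I).ι) (q + 1)) :=
    subsingleton_HH_restrict_congr (tilde (R := CommRingCat.of A) (ModuleCat.of A M))
      (puncturedOpen_eq A I).symm (q + 1)
      (vanish_compl (Curv2.idealSheaf A I) b hb d hd
        (tilde (R := CommRingCat.of A) (ModuleCat.of A M)) (q + 1) (by omega))
  exact e.symm.toEquiv.subsingleton

end Groth.Agent.LD.BlowCd
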