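import Groth.Agent.Lib.Helper2.LerayLin
import Groth.Agent.Lib.Lead.QC.FibrationPic
import Groth.Agent.Lib.Lead.DF.ZProp
import Groth.Agent.S0002

/-! # The Leray edge map `H^1(Y, π_* G) → H^1(X, G)` is injective. -/

universe w w' v v' u u'

namespace Groth.Agent.LD.EdgeInj

open CategoryTheory Limits Abelian Groth.Agent.LD Groth.Agent.H2.Leray

section Abstract

variable {C : Type u} [Category.{v} C] [Abelian C]
variable {D : Type u'} [Category.{v'} D] [Abelian D]
variable {L : C ⥤ D} {R : D ⥤ C} (adj : L ⊣ R)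
variable [L.Additive] [R.Additive] [PreservesFiniteLimits L] [PreservesFiniteColimits L]
variable [HasExt.{w} C] [HasExt.{w'} D]
variable {A : C} {A' : D} (η : A' ⟶ L.obj A)

/-- the key compatibility: for a short exact `0 → G → I → Q → 0` and the short exact sequence
`0 → R G → R I → coker → 0` with `j : coker ⟶ R Q`. -/
lemma edge_comp_extClass' {S : ShortComplex D} (hS : S.ShortExact)
    {S' : ShortComplex C} (hS' : S'.ShortExact)
    (e₁ : S'.X₁ = R.obj S.X₁) (e₂ : S'.X₂ = R.obj S.X₂)
    (j : S'.X₃ ⟶ R.obj S.X₃)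
    (hf : S'.f = eqToHom e₁ ≫ R.map S.f ≫ eqToHom e₂.symm)
    (hg : S'.g ≫ j = eqToHom e₂ ≫ R.map S.g)
    (n m : ℕ) (h : n + 1 = m) (x : Ext.{w} A S'.X₃ n) :
    (CL.extCmp L η S'.X₁ m (x.comp hS'.extClass h)).comp
        (Ext.mk₀ (L.map (eqToHom e₁) ≫ adj.counit.app S.X₁)) (add_zero m) =
      (edge adj η S.X₃ n (x.comp (Ext.mk₀ j) (add_zero n))).comp hS.extClass h := by
  -- the morphism of short complexes
  let τ : S'.map L ⟶ S :=
    { τ₁ := L.map (eqToHom e₁) ≫ adj.counit.app S.X₁
      τ₂ := L.map (eqToHom e₂) ≫ adj.counit.app S.X₂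
      τ₃ := L.map j ≫ adj.counit.app S.X₃
      comm₁₂ := by
        change (L.map (eqToHom e₁) ≫ adj.counit.app S.X₁) ≫ S.f =
          L.map S'.f ≫ L.map (eqToHom e₂) ≫ adj.counit.app S.X₂
        rw [hf, Category.assoc, ← adj.counit_naturality S.f]
        simp only [Functor.map_comp, Category.assoc, Functor.comp_map]
        congr 2
        rw [← Category.assoc (L.map (eqToHom e₂.symm)), ← L.map_comp, eqToHom_trans,
          eqToHom_refl, L.map_id, Category.id_comp]
      comm₂₃ := by
        change (L.map (eqToHom e₂) ≫ adj.counit.app S.X₂) ≫ S.g =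
          L.map S'.g ≫ L.map j ≫ adj.counit.app S.X₃
        rw [← Category.assoc (L.map S'.g), ← L.map_comp, hg, Category.assoc,
          ← adj.counit_naturality S.g]
        simp only [Functor.map_comp, Category.assoc, Functor.comp_map] }
  have h1 := CL.extCmp_comp_extClass L η hS' n m h x
  have h2 := ShortComplex.ShortExact.extClass_naturality (hS'.map_of_exact L) hS τ
  change (hS'.map_of_exact L).extClass.comp
      (Ext.mk₀ (L.map (eqToHom e₁) ≫ adj.counit.app S.X₁)) (add_zero 1) =
    (Ext.mk₀ (L.map j ≫ adj.counit.app S.X₃)).comp hS.extClass (zero_add 1) at h2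
  have h3 : edge adj η S.X₃ n (x.comp (Ext.mk₀ j) (add_zero n)) =
      (CL.extCmp L η S'.X₃ n x).comp (Ext.mk₀ (L.map j ≫ adj.counit.app S.X₃)) (add_zero n) := by
    rw [edge_apply, CL.extCmp_comp_mk₀, Ext.comp_assoc_of_third_deg_zero, Ext.mk₀_comp_mk₀]
  rw [h3]
  refine (congrArg (fun z => z.comp
    (Ext.mk₀ (L.map (eqToHom e₁) ≫ adj.counit.app S.X₁)) (add_zero m)) h1).trans ?_
  refine (Ext.comp_assoc_of_third_deg_zero _ _ _ _).trans ?_
  refine (congrArg (fun z => (CL.extCmp L η S'.X₃ n x).comp z h) h2).trans ?_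
  exact (Ext.comp_assoc_of_second_deg_zero _ _ _ _).symm

variable [EnoughInjectives D]

/-- the edge map is injective in degree one. -/
theorem edge_one_injective [IsIso η] (G : D) : Function.Injective (edge adj η G 1) := by
  haveI : PreservesLimits R := adj.rightAdjoint_preservesLimits
  rw [injective_iff_map_eq_zero]
  intro y hy
  -- `0 → G → I → Q → 0`
  let ι := Injective.ι G
  let S : ShortComplex D := ShortComplex.mk ι (cokernel.π ι) (cokernel.condition ι)
  have hS : S.ShortExact :=
    { exact := ShortComplex.exact_of_g_is_cokernel _ (cokernelIsCokernel ι)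
      mono_f := inferInstanceAs (Mono ι)
      epi_g := inferInstanceAs (Epi (cokernel.π ι)) }
  haveI : Mono (R.map ι) := inferInstance
  -- `0 → R G → R I → coker → 0`
  let S' : ShortComplex C :=
    ShortComplex.mk (R.map ι) (cokernel.π (R.map ι)) (cokernel.condition (R.map ι))
  have hS' : S'.ShortExact :=
    { exact := ShortComplex.exact_of_g_is_cokernel _ (cokernelIsCokernel (R.map ι))
      mono_f := inferInstanceAs (Mono (R.map ι))
      epi_g := inferInstanceAs (Epi (cokernel.π (R.map ι))) }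
  have hRS : (S.map R).Exact :=
    hS.exact.map_of_mono_of_preservesKernel R hS.mono_f inferInstance
  let j : cokernel (R.map ι) ⟶ R.obj (cokernel ι) :=
    cokernel.desc (S.map R).f (S.map R).g (S.map R).zero
  haveI hj : Mono j := (S.map R).exact_iff_mono_cokernel_desc.1 hRS
  have hg : S'.g ≫ j = R.map S.g := cokernel.π_desc _ _ _
  haveI : Injective S.X₂ := inferInstanceAs (Injective (Injective.under G))
  haveI : Injective (R.obj S.X₂) := adj.map_injective S.X₂ inferInstance
  -- `y` comes from `Hom(A, coker)`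
  obtain ⟨x, hx⟩ := Ext.covariant_sequence_exact₁ A hS' y (Ext.eq_zero_of_injective _)
    (rfl : 0 + 1 = 1)
  have key := edge_comp_extClass' adj η hS hS' rfl rfl j
    (by simp [S, S']) (by simpa using hg) 0 1 rfl x
  have hy' : (edge adj η S.X₃ 0 (x.comp (Ext.mk₀ j) (add_zero 0))).comp hS.extClass
      (rfl : 0 + 1 = 1) = 0 := by
    rw [← key, hx]
    have h4 : L.map (eqToHom (rfl : S'.X₁ = R.obj S.X₁)) ≫ adj.counit.app S.X₁ =
        adj.counit.app S.X₁ := by
      rw [eqToHom_refl, L.map_id, Category.id_comp]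
    rw [h4]
    exact hy
  obtain ⟨z, hz⟩ := Ext.covariant_sequence_exact₃ A' hS _ (rfl : 0 + 1 = 1) hy'
  obtain ⟨w, hw⟩ := (edge_zero_bijective adj η S.X₂).2 z
  have h5 : edge adj η S.X₃ 0 (w.comp (Ext.mk₀ (R.map S.g)) (add_zero 0)) =
      edge adj η S.X₃ 0 (x.comp (Ext.mk₀ j) (add_zero 0)) := by
    rw [edge_comp_mk₀, hw]
    exact hz
  have h6 := (edge_zero_bijective adj η S.X₃).1 h5
  -- pass to morphisms
  obtain ⟨a, rfl⟩ := (Ext.mk₀_bijective A S'.X₃).2 x
  obtain ⟨b, rfl⟩ := (Ext.mk₀_bijective A (R.obj S.X₂)).2 w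
  rw [Ext.mk₀_comp_mk₀, Ext.mk₀_comp_mk₀] at h6
  have h7 : b ≫ R.map S.g = a ≫ j := (Ext.mk₀_bijective A _).1 h6
  have h8 : a = b ≫ S'.g := by
    rw [← cancel_mono j, Category.assoc, hg]
    exact h7.symm
  rw [← hx, h8, ← Ext.mk₀_comp_mk₀, Ext.comp_assoc_of_second_deg_zero, hS'.comp_extClass,
    Ext.comp_zero]

end Abstract

section Schemes

open AlgebraicGeometry

variable {X Y : Scheme.{u}} (π : X ⟶ Y)

/-- the edge map `H^1(Y, π_* F) → H^1(X, F)` is injective. -/
theorem edgeH_one_injective (F : Sheaf (SC.JX X) AddCommGrpCat.{u}) :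
    Function.Injective (edgeH π F 1) :=
  edge_one_injective (FBC.adjAb π) (constIso π).hom F

/-- **S14837**. -/
theorem finrank_H1_le (k : Type u) [Field k] (X Y : Scheme.{u})
    [X.Over (Spec (CommRingCat.of k))] [Y.Over (Spec (CommRingCat.of k))]
    [IsProper (X ↘ Spec (CommRingCat.of k))] [IsProper (Y ↘ Spec (CommRingCat.of k))]
    (f : X ⟶ Y) (hf : f ≫ (Y ↘ Spec (CommRingCat.of k)) = X ↘ Spec (CommRingCat.of k))
    (hfib : ∀ V : Y.Opens, IsIso (f.app V)) :
    Module.finrank k (Coh.HH Y (Coh.structureModule Y) 1) ≤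
      Module.finrank k (Coh.HH X (Coh.structureModule X) 1) := by
  haveI : f.IsOver (Spec (CommRingCat.of k)) := ⟨hf⟩
  haveI := QC.isIso_unitToPush f hfib
  haveI : Module.Finite k (Coh.HH X (Coh.structureModule X) 1) :=
    Groth.Agent.S0002.result k X (Coh.structureModule X) (DF.isCoh_structureModule X) 1
  let g : Coh.HH Y (Coh.structureModule Y) 1 →ₗ[k] Coh.HH X (Coh.structureModule X) 1 :=
    (edgeLin f k (Coh.structureModule X) 1).comp (CL.HHmap k (QC.unitToPush f) 1)
  have h1 : Function.Injective (CL.HHmap k (QC.unitToPush f) 1) := by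
    have h : (CL.HHmap k (inv (QC.unitToPush f)) 1).comp (CL.HHmap k (QC.unitToPush f) 1) =
        LinearMap.id := by
      rw [← CL.HHmap_comp, IsIso.hom_inv_id, CL.HHmap_id]
    exact Function.LeftInverse.injective (g := ⇑(CL.HHmap k (inv (QC.unitToPush f)) 1))
      (fun x => DFunLike.congr_fun h x)
  have h2 : Function.Injective (edgeLin f k (Coh.structureModule X) 1) :=
    edgeH_one_injective f (Coh.toAb (Coh.structureModule X))
  exact LinearMap.finrank_le_finrank_of_injective (f := g) (h2.comp h1)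

end Schemes

end Groth.Agent.LD.EdgeInj
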