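import Mathlib
import Groth.Agent.Lib.Helper5.FinSec.B
import Groth.Agent.Lib.Lead.QC.Mon

/-! # Sections of `L ⊗ A^N`, `N ≫ 0`, generating at finitely many points (`A` ample). -/

set_option autoImplicit false
universe u
open CategoryTheory CategoryTheory.Limits AlgebraicGeometry TopologicalSpace Opposite

namespace Groth.Agent.LD.FinSecAll

open Groth.Agent.LD Groth.Agent.LD.QC Groth.Agent.H5.FinSec

/-- **S15287** (no properness needed). -/
theorem main (Y : Scheme.{u}) (A : Y.Modules) (hA : CohB1.IsAmple A) (L : Y.Modules)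
    (hL : PicF.IsInvertible L) (ι : Type) [Finite ι] (y : ι → Y) :
    ∃ N₀ : ℕ, ∀ N : ℕ, N₀ ≤ N →
      ∃ s : unitMod Y ⟶ CohB1.tensorMod L (CohB1.tensorPow A N),
        ∀ i : ι, y i ∈ CohB1.genLocus (CohB1.tensorMod L (CohB1.tensorPow A N)) s := by
  classical
  haveI := Fintype.ofFinite ι
  haveI : A.IsQuasicoherent := qc_of_isInvertible A hA.1
  haveI : L.IsQuasicoherent := qc_of_isInvertible L hL
  let Z : Finset Y := Finset.univ.image y
  have hyZ : ∀ i, y i ∈ Z := fun i => Finset.mem_image.mpr ⟨i, Finset.mem_univ _, rfl⟩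
  obtain ⟨n₀, hn₀, ht⟩ := exists_twisted_sections A hA (unitMod Y) (isInvertible_unit Y) Z
  have hr : ∀ r : ℕ, ∃ n : ℕ, 0 < n ∧ ∀ k : ℕ, 1 ≤ k →
      ∃ s : unitMod Y ⟶ CohB1.tensorMod (CohB1.tensorMod L (CohB1.tensorPow A r))
          (CohB1.tensorPow A (k * n)),
        ∀ z ∈ Z, z ∈ CohB1.genLocus (CohB1.tensorMod (CohB1.tensorMod L (CohB1.tensorPow A r))
          (CohB1.tensorPow A (k * n))) s :=
    fun r => exists_twisted_sections A hA _
      (isInvertible_tensorMod hL (isInvertible_tensorPow hA.1 r)) Z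
  choose nr hnr hsr using hr
  let B : ℕ := (Finset.range n₀).sup (fun r => r + n₀ * nr r)
  refine ⟨B + n₀, fun N hN => ?_⟩
  obtain ⟨q, r, hrlt, hNqr⟩ : ∃ q r : ℕ, r < n₀ ∧ N = n₀ * q + r :=
    ⟨N / n₀, N % n₀, Nat.mod_lt N hn₀, (Nat.div_add_mod N n₀).symm⟩
  subst hNqr
  have hB : r + n₀ * nr r ≤ B :=
    Finset.le_sup (f := fun r => r + n₀ * nr r) (Finset.mem_range.mpr hrlt)
  have h2 : nr r + 1 ≤ q := by
    have h3 : n₀ * (nr r + 1) ≤ n₀ * q := by
      have h4 : n₀ * (nr r + 1) = n₀ * nr r + n₀ := by ring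
      rw [h4]
      omega
    exact Nat.le_of_mul_le_mul_left h3 hn₀
  obtain ⟨k', hk'⟩ := Nat.exists_eq_add_of_le h2
  subst hk'
  obtain ⟨s, hs⟩ := hsr r n₀ hn₀
  obtain ⟨t, htz⟩ := ht (k' + 1) (Nat.succ_pos _)
  have hinv1 : PicF.IsInvertible (CohB1.tensorMod (CohB1.tensorMod L (CohB1.tensorPow A r))
      (CohB1.tensorPow A (n₀ * nr r))) :=
    isInvertible_tensorMod (isInvertible_tensorMod hL (isInvertible_tensorPow hA.1 r))
      (isInvertible_tensorPow hA.1 _)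
  have hinv2 : PicF.IsInvertible (CohB1.tensorMod (unitMod Y)
      (CohB1.tensorPow A ((k' + 1) * n₀))) :=
    isInvertible_tensorMod (isInvertible_unit Y) (isInvertible_tensorPow hA.1 _)
  have hst := genLocus_tmulHom hinv1 hinv2 s t
  have m1 : IsMon L A (CohB1.tensorMod (CohB1.tensorMod (CohB1.tensorMod L (CohB1.tensorPow A r))
      (CohB1.tensorPow A (n₀ * nr r))) (CohB1.tensorMod (unitMod Y)
      (CohB1.tensorPow A ((k' + 1) * n₀)))) (1 + 0 + 0 + (0 + 0))
      (0 + r + n₀ * nr r + (0 + (k' + 1) * n₀)) :=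
    (((isMon_left L A).tensor (isMon_powRight L A r)).tensor
      (isMon_powRight L A (n₀ * nr r))).tensor
      ((isMon_unit L A).tensor (isMon_powRight L A ((k' + 1) * n₀)))
  have m2 : IsMon L A (CohB1.tensorMod L (CohB1.tensorPow A (n₀ * (nr r + 1 + k') + r)))
      (1 + 0) (0 + (n₀ * (nr r + 1 + k') + r)) :=
    (isMon_left L A).tensor (isMon_powRight L A _)
  have hidx : 0 + r + n₀ * nr r + (0 + (k' + 1) * n₀) = 0 + (n₀ * (nr r + 1 + k') + r) := by
    ring
  obtain ⟨e⟩ := (m1.cast (by simp) hidx).iso m2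
  refine ⟨SecTwist.tmulHom s t ≫ e.hom, fun i => ?_⟩
  rw [genLocus_comp_iso, hst]
  exact ⟨hs _ (hyZ i), htz _ (hyZ i)⟩

end Groth.Agent.LD.FinSecAll
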