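import Mathlib
import Groth.Agent.Lib.Lead.QC.LocFree2
import Groth.Agent.Lib.Lead.QC.QuotSupp
import Groth.Agent.Lib.Helper5.Pure.B

/-! # Finite type flat quasi-coherent modules versus closed generalization-stable subsets (S9352)

`exists_primeIdealOf_eq` is copied from helper5's `CIcrit/D`. -/

set_option autoImplicit false
universe u
open CategoryTheory Limits Opposite AlgebraicGeometry TopologicalSpace

namespace Groth.Agent.LD.FlatLF
open Groth.Agent.LD.QC

section Ring

/-- the rank of a localization, for an arbitrary model of the localization. -/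
lemma finrank_eq_rankAtStalk {R : Type u} [CommRing R] {M : Type u} [AddCommGroup M] [Module R M]
    (p : PrimeSpectrum R) (A : Type u) [CommRing A] [Algebra R A]
    [IsLocalization.AtPrime A p.asIdeal]
    {N : Type u} [AddCommGroup N] [Module R N] [Module A N] [IsScalarTower R A N]
    (g : M →ₗ[R] N) [IsLocalizedModule p.asIdeal.primeCompl g] :
    Module.finrank A N = Module.rankAtStalk M p := by
  let Rp := Localization.AtPrime p.asIdeal
  let e : Rp ≃ₐ[R] A := IsLocalization.algEquiv p.asIdeal.primeCompl Rp A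
  letI modN : Module Rp N := Module.compHom N e.toRingEquiv.toRingHom
  haveI : IsScalarTower R Rp N := IsScalarTower.of_algebraMap_smul fun r n => by
    change e (algebraMap R Rp r) • n = r • n
    rw [e.commutes, algebraMap_smul]
  let j : LocalizedModule p.asIdeal.primeCompl M ≃ₗ[R] N :=
    IsLocalizedModule.iso p.asIdeal.primeCompl g
  let j' : LocalizedModule p.asIdeal.primeCompl M ≃ₗ[Rp] N :=
    LinearEquiv.extendScalarsOfIsLocalization p.asIdeal.primeCompl Rp j
  have h1 : Module.finrank Rp N = Module.rankAtStalk M p := j'.finrank_eq.symm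
  have h2 : Module.rank Rp N = Module.rank A N :=
    rank_eq_of_equiv_equiv (fun r => e r) (AddEquiv.refl N) e.bijective (fun r m => rfl)
  calc Module.finrank A N = Module.finrank Rp N := by
        unfold Module.finrank
        rw [h2]
    _ = _ := h1

lemma rankAtStalk_le_of_map_surjective {R : Type u} [CommRing R] {M : Type u} [AddCommGroup M]
    [Module R M] (n : ℕ) (φ : (Fin n →₀ R) →ₗ[R] M) (q : PrimeSpectrum R)
    (h : Function.Surjective (LocalizedModule.map q.asIdeal.primeCompl φ)) :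
    Module.rankAtStalk M q ≤ n := by
  haveI : Nontrivial R := ⟨⟨0, 1, fun h01 => q.isPrime.ne_top
    ((Ideal.eq_top_iff_one _).mpr (h01 ▸ q.asIdeal.zero_mem))⟩⟩
  have h2 := LinearMap.finrank_le_finrank_of_surjective h
  have h2' : Module.rankAtStalk M q ≤ Module.rankAtStalk (Fin n →₀ R) q := h2
  have h3 : Module.rankAtStalk (Fin n →₀ R) q = n := by
    simp [Module.rankAtStalk_eq_finrank_of_free]
  rw [h3] at h2'
  exact h2'

attribute [local instance] Module.free_of_flat_of_isLocalRing in
/-- upper semicontinuity of the rank of a finite flat module. -/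
lemma exists_notMem_forall_rankAtStalk_le {R : Type u} [CommRing R] (M : Type u) [AddCommGroup M]
    [Module R M] [Module.Finite R M] [Module.Flat R M] (p : Ideal R) [p.IsPrime] :
    ∃ a : R, a ∉ p ∧ ∀ q : PrimeSpectrum R, a ∉ q.asIdeal →
      Module.rankAtStalk M q ≤ Module.rankAtStalk M ⟨p, inferInstance⟩ := by
  haveI : Nontrivial R := ⟨⟨0, 1, fun h01 => (‹p.IsPrime›).ne_top
    ((Ideal.eq_top_iff_one _).mpr (h01 ▸ p.zero_mem))⟩⟩
  let Rₚ := Localization.AtPrime p
  let n := Module.rankAtStalk M ⟨p, inferInstance⟩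
  let f : (Fin n →₀ R) →ₗ[R] Fin n →₀ Rₚ := Finsupp.mapRange.linearMap (Algebra.linearMap R Rₚ)
  let g : M →ₗ[R] LocalizedModule.AtPrime p M := LocalizedModule.mkLinearMap p.primeCompl M
  obtain ⟨φ, -, -, hφps⟩ := Module.exists_localizedMap_surjective_of_surjective p.primeCompl f g
    ((Module.finBasis Rₚ (LocalizedModule.AtPrime p M)).repr.restrictScalars R).symm.surjective
  obtain ⟨a, hap, hφas⟩ := by
    refine Module.exists_localizedMap_away_surjective_of_localizedMap_atPrime_surjective p φ ?_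
    simpa [LocalizedModule.coe_map_eq f g]
  refine ⟨a, hap, fun q haq => ?_⟩
  have hq : Function.Surjective (LocalizedModule.map q.asIdeal.primeCompl φ) := by
    rw [LinearMap.localizedMap_surjective_iff_subsingleton_localized_coker] at hφas ⊢
    rw [LocalizedModule.subsingleton_iff] at hφas ⊢
    intro m
    obtain ⟨r, ⟨k, rfl⟩, hrm⟩ := hφas m
    exact ⟨a ^ k, Submonoid.pow_mem _ haq k, hrm⟩
  exact rankAtStalk_le_of_map_surjective n φ q hq

end Ring

variable {X : Scheme.{u}}

/-- every prime of the ring of sections of an affine open is the prime of a point. -/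
theorem exists_primeIdealOf_eq {U : X.Opens} (hU : IsAffineOpen U)
    (p : PrimeSpectrum Γ(X, U)) : ∃ (x : X) (hx : x ∈ U), hU.primeIdealOf ⟨x, hx⟩ = p := by
  have hx : hU.fromSpec p ∈ (U : Set X) := by
    rw [← hU.range_fromSpec]; exact ⟨p, rfl⟩
  refine ⟨hU.fromSpec p, hx, ?_⟩
  haveI := hU.isOpenImmersion_fromSpec
  apply hU.fromSpec.isOpenEmbedding.injective
  exact hU.fromSpec_primeIdealOf ⟨hU.fromSpec p, hx⟩

/-- the rank of the stalk. -/
noncomputable def rho (F : X.Modules) (x : X) : ℕ :=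
  Module.finrank (X.presheaf.stalk x) (F.presheaf.stalk x)

lemma rho_eq (F : X.Modules) [F.IsQuasicoherent] {U : X.Opens} (hU : IsAffineOpen U) (x : X)
    (hx : x ∈ U) :
    rho F x = Module.rankAtStalk (R := Γ(X, U)) Γ(F, U) (hU.primeIdealOf ⟨x, hx⟩) := by
  letI := stalkΓModule F x U hx
  haveI := isLocalizedModule_germ F hU x hx
  letI : Algebra Γ(X, U) (X.presheaf.stalk x) :=
    TopCat.Presheaf.algebra_section_stalk X.presheaf ⟨x, hx⟩
  haveI := hU.isLocalization_stalk ⟨x, hx⟩
  haveI : IsScalarTower Γ(X, U) (X.presheaf.stalk x) (F.presheaf.stalk x) :=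
    IsScalarTower.of_algebraMap_smul fun r m => rfl
  exact finrank_eq_rankAtStalk (hU.primeIdealOf ⟨x, hx⟩) (X.presheaf.stalk x)
    (germLinear F x U hx)

/-- **(⇐)**: if closed generalization-stable subsets are open, finite type flat quasi-coherent
modules are finite locally free. -/
theorem isFinLocFree_of_flat
    (H : ∀ Z : Set X, IsClosed Z → StableUnderGeneralization Z → IsOpen Z)
    (F : X.Modules) [F.IsQuasicoherent] (hft : F.IsFiniteType) (hfl : FlatMod.IsFlat F) :
    FlatMod.IsFinLocFree F := by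
  have hfin : ∀ {U : X.Opens} (_ : IsAffineOpen U), Module.Finite Γ(X, U) Γ(F, U) :=
    fun hU => finite_sections_of_isFiniteType F hft hU
  have hflat : ∀ {U : X.Opens} (_ : IsAffineOpen U), Module.Flat Γ(X, U) Γ(F, U) :=
    fun hU => (isFlat_iff_flat_sections F).mp hfl _ hU
  have hcl : ∀ r : ℕ, IsClosed {x : X | r ≤ rho F x} := by
    intro r
    rw [← isOpen_compl_iff, isOpen_iff_forall_mem_open]
    intro x hx
    obtain ⟨U, hU, hxU, -⟩ := exists_isAffineOpen_mem_and_subset (x := x) (U := ⊤) trivial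
    haveI := hfin hU
    haveI := hflat hU
    obtain ⟨a, hap, ha⟩ := exists_notMem_forall_rankAtStalk_le Γ(F, U)
      (hU.primeIdealOf ⟨x, hxU⟩).asIdeal
    refine ⟨X.basicOpen a, ?_, (X.basicOpen a).isOpen,
      mem_basicOpen_of_mem_primeCompl hU x hxU a hap⟩
    intro y hy
    have hyU : y ∈ U := X.basicOpen_le a hy
    have h1 := ha (hU.primeIdealOf ⟨y, hyU⟩) (mem_primeCompl_of_mem_basicOpen hU y hyU a hy)
    have h2 : rho F y ≤ rho F x := by
      rw [rho_eq F hU y hyU, rho_eq F hU x hxU]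
      exact h1
    simp only [Set.mem_compl_iff, Set.mem_setOf_eq, not_le] at hx ⊢
    omega
  have hgen : ∀ r : ℕ, StableUnderGeneralization {x : X | r ≤ rho F x} := by
    intro r x y hyx hx
    obtain ⟨U, hU, hxU, -⟩ := exists_isAffineOpen_mem_and_subset (x := x) (U := ⊤) trivial
    have hyU : y ∈ U := hyx.mem_open U.isOpen hxU
    haveI := hfin hU
    haveI := hflat hU
    have hle : hU.primeIdealOf ⟨y, hyU⟩ ≤ hU.primeIdealOf ⟨x, hxU⟩ := by
      change (hU.primeIdealOf ⟨y, hyU⟩).asIdeal ≤ (hU.primeIdealOf ⟨x, hxU⟩).asIdeal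
      intro f hf
      by_contra hfx
      have hxf : x ∈ X.basicOpen f := mem_basicOpen_of_mem_primeCompl hU x hxU f hfx
      have hyf : y ∈ X.basicOpen f := hyx.mem_open (X.basicOpen f).isOpen hxf
      exact mem_primeCompl_of_mem_basicOpen hU y hyU f hyf hf
    have h1 := Module.rankAtStalk_eq_of_le_of_finite_of_flat Γ(F, U) hle
    rw [← rho_eq F hU y hyU, ← rho_eq F hU x hxU] at h1
    simp only [Set.mem_setOf_eq] at hx ⊢
    omega
  have hop : ∀ r : ℕ, IsOpen {x : X | r ≤ rho F x} := fun r => H _ (hcl r) (hgen r)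
  rw [isFinLocFree_iff]
  intro x
  have hW : IsOpen ({y : X | rho F x ≤ rho F y} ∩ {y : X | rho F x + 1 ≤ rho F y}ᶜ) :=
    (hop _).inter (hcl _).isOpen_compl
  have hxW : x ∈ ({y : X | rho F x ≤ rho F y} ∩ {y : X | rho F x + 1 ≤ rho F y}ᶜ) := by
    constructor
    · show rho F x ≤ rho F x
      exact le_rfl
    · show ¬ (rho F x + 1 ≤ rho F x)
      omega
  obtain ⟨U, hU, hxU, hUW⟩ := exists_isAffineOpen_mem_and_subset (x := x)
    (U := (⟨_, hW⟩ : X.Opens)) hxW
  haveI := hfin hU
  haveI := hflat hU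
  have hconst : ∀ q : PrimeSpectrum Γ(X, U),
      Module.rankAtStalk (R := Γ(X, U)) Γ(F, U) q = rho F x := by
    intro q
    obtain ⟨y, hy, rfl⟩ := exists_primeIdealOf_eq hU q
    rw [← rho_eq F hU y hy]
    have hyW := hUW hy
    have h1 : rho F x ≤ rho F y := hyW.1
    have h2 : ¬ (rho F x + 1 ≤ rho F y) := hyW.2
    omega
  obtain ⟨a, hap, hfree⟩ := Module.Free.away_of_finite_of_flat_of_rankAtStalk_constant Γ(F, U)
    (hU.primeIdealOf ⟨x, hxU⟩).asIdeal (fun m _ => by rw [hconst, hconst])
  have hxa : x ∈ X.basicOpen a := mem_basicOpen_of_mem_primeCompl hU x hxU a hap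
  have hfreeΓ : Module.Free Γ(X, X.basicOpen a) Γ(F, X.basicOpen a) := by
    letI : Algebra Γ(X, U) Γ(X, X.basicOpen a) := resAlgebra (X.basicOpen_le a)
    letI : Module Γ(X, U) Γ(F, X.basicOpen a) := resModule F (X.basicOpen_le a)
    haveI : IsScalarTower Γ(X, U) Γ(X, X.basicOpen a) Γ(F, X.basicOpen a) :=
      resModule_isScalarTower F (X.basicOpen_le a)
    haveI : IsLocalization.Away a Γ(X, X.basicOpen a) := hU.isLocalization_basicOpen a
    haveI : IsLocalizedModule.Away a (resLinear F (X.basicOpen_le a)) :=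
      isLocalizedModule_basicOpen F hU a
    haveI := hfree
    exact free_of_isLocalizedModule_away a (A := Localization (Submonoid.powers a))
      (LocalizedModule.mkLinearMap (Submonoid.powers a) Γ(F, U)) (resLinear F (X.basicOpen_le a))
  haveI : Module.Finite Γ(X, X.basicOpen a) Γ(F, X.basicOpen a) := hfin (hU.basicOpen a)
  haveI := hfreeΓ
  obtain ⟨n, ⟨e⟩⟩ := exists_equiv_fin_fun_of_free_of_finite Γ(X, X.basicOpen a)
    Γ(F, X.basicOpen a)
  exact ⟨X.basicOpen a, n, hU.basicOpen a, hxa, ⟨e⟩⟩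

/-- **(⇒)**: if finite type flat quasi-coherent modules are finite locally free, closed
generalization-stable subsets are open. -/
theorem isOpen_of_forall_isFinLocFree
    (h : ∀ F : X.Modules, F.IsQuasicoherent → F.IsFiniteType → FlatMod.IsFlat F →
      FlatMod.IsFinLocFree F)
    (Z : Set X) (hZ : IsClosed Z) (hg : StableUnderGeneralization Z) : IsOpen Z := by
  obtain ⟨I, hI⟩ : ∃ I : X.IdealSheafData, I = Groth.Agent.H5.Pure.pureIdealSheaf Z hZ hg :=
    ⟨_, rfl⟩
  have hsupp : (I.support : Set X) = Z := by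
    rw [hI]; exact Groth.Agent.H5.Pure.coe_support_pureIdealSheaf Z hZ hg
  have hpure : ∀ U : X.affineOpens, Module.Flat Γ(X, U.1) (Γ(X, U.1) ⧸ I.ideal U) := by
    intro U
    rw [hI]
    exact Groth.Agent.H5.Pure.pureIdeal_pure Z hZ hg U
  haveI : (ClSub.quotMod I).IsQuasicoherent := (isCoh_quotMod I).1
  have hfl : FlatMod.IsFlat (ClSub.quotMod I) := by
    rw [isFlat_iff_flat_sections]
    intro U hU
    let L : Γ(X, U) →ₗ[Γ(X, U)] Γ(ClSub.quotMod I, U) :=
      { toFun := fun s => (ClSub.toSubscheme I).app U s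
        map_add' := fun a b => map_add _ a b
        map_smul' := fun r s => by
          simp only [smul_eq_mul, RingHom.id_apply]
          exact (toSubscheme_app_smul I U r s).symm }
    have hL : Function.Surjective L := toSubscheme_app_surjective I ⟨U, hU⟩
    have hker : LinearMap.ker L = I.ideal ⟨U, hU⟩ := by
      ext s
      rw [LinearMap.mem_ker]
      exact toSubscheme_app_eq_zero_iff I ⟨U, hU⟩ s
    haveI := hpure ⟨U, hU⟩
    exact Module.Flat.of_linearEquiv
      ((Submodule.quotEquivOfEq _ _ hker.symm).trans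
        (LinearMap.quotKerEquivOfSurjective L hL)).symm
  have hlf := h (ClSub.quotMod I) inferInstance (isFiniteType_quotMod I) hfl
  rw [isOpen_iff_forall_mem_open]
  intro x hx
  obtain ⟨U, n, hU, hxU, ⟨e⟩⟩ := (isFinLocFree_iff (ClSub.quotMod I)).mp hlf x
  refine ⟨U, ?_, U.isOpen, hxU⟩
  have hxs : I.ideal ⟨U, hU⟩ ≤ (hU.primeIdealOf ⟨x, hxU⟩).asIdeal := by
    rw [← hsupp, SetLike.mem_coe, Scheme.IdealSheafData.mem_support_iff_of_mem (U := ⟨U, hU⟩) hxU,
      mem_zeroLocus_iff_le_primeIdealOf hU _ x hxU] at hx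
    exact hx
  have hn : n ≠ 0 := by
    rintro rfl
    haveI : Subsingleton Γ(ClSub.quotMod I, U) := e.toEquiv.subsingleton
    have h1 : (ClSub.toSubscheme I).app U (1 : Γ(X, U)) = 0 := Subsingleton.elim _ _
    rw [toSubscheme_app_eq_zero_iff I ⟨U, hU⟩] at h1
    exact (hU.primeIdealOf ⟨x, hxU⟩).isPrime.ne_top ((Ideal.eq_top_iff_one _).mpr (hxs h1))
  have hbot : I.ideal ⟨U, hU⟩ = ⊥ := by
    rw [eq_bot_iff]
    intro a ha
    have hkill : ∀ m : Γ(ClSub.quotMod I, U), a • m = 0 := by
      intro m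
      obtain ⟨s, rfl⟩ := toSubscheme_app_surjective I ⟨U, hU⟩ m
      rw [toSubscheme_app_smul, toSubscheme_app_eq_zero_iff I ⟨U, hU⟩]
      exact Ideal.mul_mem_right _ _ ha
    have h1 := hkill (e.symm (fun _ => 1))
    have h2 := congrArg e h1
    rw [map_smul, LinearEquiv.apply_symm_apply, map_zero] at h2
    have h3 := congrFun h2 ⟨0, Nat.pos_of_ne_zero hn⟩
    simpa using h3
  intro y hy
  rw [← hsupp, SetLike.mem_coe, Scheme.IdealSheafData.mem_support_iff_of_mem (U := ⟨U, hU⟩) hy,
    mem_zeroLocus_iff_le_primeIdealOf hU _ y hy, hbot]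
  exact bot_le

/-- **S9352**. -/
theorem main (X : Scheme.{u}) :
    (∀ F : X.Modules, F.IsQuasicoherent → F.IsFiniteType → FlatMod.IsFlat F →
      FlatMod.IsFinLocFree F) ↔
      ∀ Z : Set ↑X, IsClosed Z → StableUnderGeneralization Z → IsOpen Z := by
  constructor
  · intro h Z hZ hg
    exact isOpen_of_forall_isFinLocFree h Z hZ hg
  · intro H F h1 h2 h3
    haveI : F.IsQuasicoherent := h1
    exact isFinLocFree_of_flat H F h2 h3

end Groth.Agent.LD.FlatLF
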