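import Mathlib
import Groth.Agent.Lib.Lead.QC.StalkPullback
import Groth.Agent.Lib.Lead.QC.Rank
import Groth.Agent.Lib.Lead.QC.LocFree
import Groth.Agent.H4.LFP1
import Groth.Agent.H4.FittSheaf2
import Groth.Prelude.Def_FSch2
import Groth.Prelude.Def_FSch3

/-! # Local freeness can be tested on the infinitesimal neighbourhoods (S7864)

`X` proper over a Noetherian `I`-adically complete ring, `F` coherent.  If the restriction of `F` to
every infinitesimal neighbourhood `X_n` of the closed fibre is finite locally free of rank `r`, then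
`F` is finite locally free of rank `r`.

The algebraic core: a finite module `N` over a Noetherian local ring `B` such that, for every `n`,
`N ⊗ B/K_n` is free of rank `r` for some ideal `K_n ⊆ 𝔪^{n+1}`, is free of rank `r` (Nakayama and
Krull's intersection theorem). -/

set_option autoImplicit false
set_option linter.style.haveILetI false
universe u
open CategoryTheory Limits Opposite AlgebraicGeometry TopologicalSpace

namespace Groth.Agent.LD.FormalLF

open IsLocalRing Groth.Agent.LD.QC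

section Alg

/-- `N ⊗_B C` is free of rank `r` for some quotient `C = B/K'` of `B` with `K' ≤ K`. -/
def LevelFree (B : Type u) [CommRing B] (N : Type u) [AddCommGroup N] [Module B N] (r : ℕ)
    (K : Ideal B) : Prop :=
  ∃ (C : Type u) (_ : CommRing C) (_ : Algebra B C) (P : Type u) (_ : AddCommGroup P)
    (_ : Module B P) (_ : Module C P) (_ : IsScalarTower B C P) (σ : N →ₗ[B] P),
    IsBaseChange C σ ∧ Function.Surjective (algebraMap B C) ∧
    RingHom.ker (algebraMap B C) ≤ K ∧ Module.Free C P ∧ Module.Finite C P ∧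
    Module.finrank C P = r

variable {B : Type u} [CommRing B] {N : Type u} [AddCommGroup N] [Module B N]
  {C : Type u} [CommRing C] [Algebra B C] {P : Type u} [AddCommGroup P] [Module B P] [Module C P]
  [IsScalarTower B C P] {σ : N →ₗ[B] P}

theorem surjective_of_isBaseChange (hσ : IsBaseChange C σ)
    (hsurj : Function.Surjective (algebraMap B C)) : Function.Surjective σ := by
  intro p
  refine hσ.inductionOn p (fun p => ∃ y, σ y = p) ⟨0, map_zero _⟩ (fun m => ⟨m, rfl⟩) ?_ ?_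
  · rintro c _ ⟨y, rfl⟩
    obtain ⟨b, rfl⟩ := hsurj c
    exact ⟨b • y, by rw [map_smul, algebraMap_smul]⟩
  · rintro _ _ ⟨y, rfl⟩ ⟨y', rfl⟩
    exact ⟨y + y', map_add _ _ _⟩

theorem mem_of_map_eq_zero [IsLocalRing B] (hσ : IsBaseChange C σ)
    (hsurj : Function.Surjective (algebraMap B C))
    (hker : RingHom.ker (algebraMap B C) ≤ maximalIdeal B) (d : N) (hd : σ d = 0) :
    d ∈ (maximalIdeal B • ⊤ : Submodule B N) := by
  let ρ : C →+* B ⧸ maximalIdeal B :=
    (algebraMap B C).liftOfSurjective hsurj ⟨Ideal.Quotient.mk (maximalIdeal B), by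
      intro b hb
      rw [RingHom.mem_ker, Ideal.Quotient.eq_zero_iff_mem]
      exact hker hb⟩
  have hρ : ∀ b : B, ρ (algebraMap B C b) = Ideal.Quotient.mk (maximalIdeal B) b := fun b =>
    RingHom.liftOfSurjective_comp_apply _ hsurj _ b
  letI : Module C (N ⧸ (maximalIdeal B • ⊤ : Submodule B N)) := Module.compHom _ ρ
  haveI : IsScalarTower B C (N ⧸ (maximalIdeal B • ⊤ : Submodule B N)) :=
    IsScalarTower.of_algebraMap_smul fun b q => by
      show ρ (algebraMap B C b) • q = b • q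
      rw [hρ]
      obtain ⟨n, rfl⟩ := Submodule.Quotient.mk_surjective _ q
      rfl
  have h1 := hσ.lift_eq (Submodule.mkQ (maximalIdeal B • ⊤ : Submodule B N)) d
  rw [hd, map_zero] at h1
  exact (Submodule.Quotient.mk_eq_zero _).mp h1.symm

theorem coeff_mem_ker {r : ℕ} [Module.Free C P] [Module.Finite C P]
    (hrk : Module.finrank C P = r) (hσ : IsBaseChange C σ)
    (v : Fin r → N) (hv : ∀ y : N, ∃ b : Fin r → B, y = ∑ i, b i • v i)
    (b : Fin r → B) (hb : ∑ i, b i • v i = 0) (i : Fin r) :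
    b i ∈ RingHom.ker (algebraMap B C) := by
  rcases subsingleton_or_nontrivial C with hC | hC
  · rw [RingHom.mem_ker]; exact Subsingleton.elim _ _
  let ψ : (Fin r → C) →ₗ[C] P := Fintype.linearCombination C (fun i => σ (v i))
  have hψ : Function.Surjective ψ := by
    intro p
    refine hσ.inductionOn p (fun p => ∃ c, ψ c = p) ⟨0, map_zero _⟩ ?_ ?_ ?_
    · intro m
      obtain ⟨b', rfl⟩ := hv m
      refine ⟨fun i => algebraMap B C (b' i), ?_⟩
      show ∑ i, algebraMap B C (b' i) • σ (v i) = σ (∑ i, b' i • v i)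
      rw [map_sum]
      refine Finset.sum_congr rfl fun i _ => ?_
      rw [map_smul, algebraMap_smul]
    · rintro c _ ⟨x, rfl⟩
      exact ⟨c • x, map_smul _ _ _⟩
    · rintro _ _ ⟨x, rfl⟩ ⟨x', rfl⟩
      exact ⟨x + x', map_add _ _ _⟩
  let e : P ≃ₗ[C] (Fin r → C) := (Module.finBasisOfFinrankEq C P hrk).equivFun
  have hinj : Function.Injective ψ :=
    OrzechProperty.injective_of_surjective_of_injective e.symm.toLinearMap ψ e.symm.injective hψ
  have h0 : ψ (fun i => algebraMap B C (b i)) = 0 := by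
    show ∑ i, algebraMap B C (b i) • σ (v i) = 0
    have h2 := congrArg σ hb
    rw [map_sum, map_zero] at h2
    rw [← h2]
    refine Finset.sum_congr rfl fun i _ => ?_
    rw [map_smul, algebraMap_smul]
  have h1 := hinj (h0.trans (map_zero ψ).symm)
  rw [RingHom.mem_ker]
  exact congrFun h1 i

/-- **the algebraic core.** -/
theorem nonempty_equiv_of_levelFree {B : Type u} [CommRing B] [IsLocalRing B] [IsNoetherianRing B]
    (N : Type u) [AddCommGroup N] [Module B N] [Module.Finite B N] (r : ℕ)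
    (h : ∀ n : ℕ, LevelFree B N r (maximalIdeal B ^ (n + 1))) :
    Nonempty (N ≃ₗ[B] (Fin r → B)) := by
  obtain ⟨C, iC, iA, P, iP, iBP, iCP, iT, σ, hσ, hsurj, hker, hfree, hfin, hrk⟩ := h 0
  rw [zero_add, pow_one] at hker
  haveI : Nontrivial C := by
    by_contra hC
    rw [not_nontrivial_iff_subsingleton] at hC
    have h1 : (1 : B) ∈ RingHom.ker (algebraMap B C) := by
      rw [RingHom.mem_ker]; exact Subsingleton.elim _ _
    exact (Ideal.ne_top_iff_one _).mp (IsLocalRing.maximalIdeal.isMaximal B).ne_top (hker h1)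
  let bas := Module.finBasisOfFinrankEq C P hrk
  have hσs := surjective_of_isBaseChange hσ hsurj
  choose v hv using fun i => hσs (bas i)
  let φ : (Fin r → B) →ₗ[B] N := Fintype.linearCombination B v
  have hφs : Function.Surjective φ := by
    rw [← LinearMap.range_eq_top, eq_top_iff]
    refine Submodule.le_of_le_smul_of_le_jacobson_bot (I := maximalIdeal B) Module.Finite.fg_top
      (IsLocalRing.maximalIdeal_le_jacobson ⊥) ?_
    intro y _
    choose b hb using fun i => hsurj (bas.repr (σ y) i)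
    have hd : σ (y - φ b) = 0 := by
      rw [map_sub, sub_eq_zero]
      show σ y = σ (∑ i, b i • v i)
      rw [map_sum]
      conv_lhs => rw [← bas.sum_repr (σ y)]
      refine Finset.sum_congr rfl fun i _ => ?_
      rw [map_smul, hv, ← hb i, algebraMap_smul]
    have hmem := mem_of_map_eq_zero hσ hsurj hker _ hd
    have hy : y = φ b + (y - φ b) := by abel
    rw [hy]
    exact Submodule.add_mem_sup (LinearMap.mem_range_self _ _) hmem
  have hv' : ∀ y : N, ∃ b : Fin r → B, y = ∑ i, b i • v i := fun y => by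
    obtain ⟨b, rfl⟩ := hφs y
    exact ⟨b, rfl⟩
  have hφi : Function.Injective φ := by
    rw [← LinearMap.ker_eq_bot, LinearMap.ker_eq_bot']
    intro b hb
    have hb' : ∑ i, b i • v i = 0 := hb
    funext i
    have hmem : b i ∈ ⨅ n : ℕ, maximalIdeal B ^ n := by
      rw [Ideal.mem_iInf]
      intro n
      cases n with
      | zero => rw [pow_zero, Ideal.one_eq_top]; trivial
      | succ k =>
        obtain ⟨C', iC', iA', P', iP', iBP', iCP', iT', σ', hσ', hsurj', hker', hfree', hfin',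
          hrk'⟩ := h k
        exact hker' (coeff_mem_ker hrk' hσ' v hv' b hb' i)
    rw [Ideal.iInf_pow_eq_bot_of_isLocalRing _ (IsLocalRing.maximalIdeal.isMaximal B).ne_top]
      at hmem
    exact Ideal.mem_bot.mp hmem
  exact ⟨(LinearEquiv.ofBijective φ ⟨hφi, hφs⟩).symm⟩

end Alg

section Ker

variable {X : Scheme.{u}}

/-- the kernel of the stalk map of a closed subscheme is generated by the ideal on an affine
open. -/
theorem ker_stalkMap_subschemeι_le (𝓚 : X.IdealSheafData) (z : 𝓚.subscheme) {U : X.Opens}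
    (hU : IsAffineOpen U) (hx : 𝓚.subschemeι z ∈ U) :
    RingHom.ker (𝓚.subschemeι.stalkMap z).hom ≤
      Ideal.map (X.presheaf.germ U (𝓚.subschemeι z) hx).hom (𝓚.ideal ⟨U, hU⟩) := by
  intro a ha
  rw [RingHom.mem_ker] at ha
  have hV : IsAffineOpen (𝓚.subschemeι ⁻¹ᵁ U) := hU.preimage 𝓚.subschemeι
  have hz : z ∈ 𝓚.subschemeι ⁻¹ᵁ U := hx
  letI algX : Algebra Γ(X, U) (X.presheaf.stalk (𝓚.subschemeι z)) :=
    TopCat.Presheaf.algebra_section_stalk X.presheaf ⟨_, hx⟩
  letI algZ : Algebra Γ(𝓚.subscheme, 𝓚.subschemeι ⁻¹ᵁ U) (𝓚.subscheme.presheaf.stalk z) :=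
    TopCat.Presheaf.algebra_section_stalk 𝓚.subscheme.presheaf ⟨z, hz⟩
  haveI locX : IsLocalization.AtPrime (X.presheaf.stalk (𝓚.subschemeι z))
      (hU.primeIdealOf ⟨_, hx⟩).asIdeal := hU.isLocalization_stalk ⟨_, hx⟩
  haveI locZ : IsLocalization.AtPrime (𝓚.subscheme.presheaf.stalk z)
      (hV.primeIdealOf ⟨z, hz⟩).asIdeal := hV.isLocalization_stalk ⟨z, hz⟩
  obtain ⟨⟨s, t⟩, hst⟩ := IsLocalization.surj (hU.primeIdealOf ⟨_, hx⟩).asIdeal.primeCompl a
  have hst' : a * X.presheaf.germ U _ hx (t : Γ(X, U)) = X.presheaf.germ U _ hx s := hst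
  have hut : IsUnit (X.presheaf.germ U _ hx (t : Γ(X, U))) :=
    IsLocalization.map_units (X.presheaf.stalk (𝓚.subschemeι z)) t
  have h0 : 𝓚.subscheme.presheaf.germ (𝓚.subschemeι ⁻¹ᵁ U) z hz (𝓚.subschemeι.app U s) = 0 := by
    rw [← Scheme.Hom.germ_stalkMap_apply, ← hst']
    have h1 : (𝓚.subschemeι.stalkMap z).hom (a * X.presheaf.germ U _ hx (t : Γ(X, U))) = 0 := by
      rw [map_mul, ha, zero_mul]
    exact h1
  obtain ⟨w, hw⟩ := (IsLocalization.map_eq_zero_iff (hV.primeIdealOf ⟨z, hz⟩).asIdeal.primeCompl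
    (𝓚.subscheme.presheaf.stalk z) (𝓚.subschemeι.app U s)).mp h0
  obtain ⟨t', ht'⟩ := 𝓚.subschemeι_app_surjective ⟨U, hU⟩ (w : Γ(𝓚.subscheme, 𝓚.subschemeι ⁻¹ᵁ U))
  have hmem : t' * s ∈ 𝓚.ideal ⟨U, hU⟩ := by
    rw [← 𝓚.ker_subschemeι_app ⟨U, hU⟩, RingHom.mem_ker, map_mul]
    have : (𝓚.subschemeι.app U).hom t' = (w : Γ(𝓚.subscheme, 𝓚.subschemeι ⁻¹ᵁ U)) := ht'
    rw [this]
    exact hw
  have huw : IsUnit (𝓚.subscheme.presheaf.germ (𝓚.subschemeι ⁻¹ᵁ U) z hz
      (w : Γ(𝓚.subscheme, 𝓚.subschemeι ⁻¹ᵁ U))) :=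
    IsLocalization.map_units (𝓚.subscheme.presheaf.stalk z) w
  have hut' : IsUnit (X.presheaf.germ U _ hx t') := by
    have h2 : IsUnit ((𝓚.subschemeι.stalkMap z).hom (X.presheaf.germ U _ hx t')) := by
      have h3 : (𝓚.subschemeι.stalkMap z).hom (X.presheaf.germ U _ hx t') =
          𝓚.subscheme.presheaf.germ (𝓚.subschemeι ⁻¹ᵁ U) z hz (𝓚.subschemeι.app U t') :=
        Scheme.Hom.germ_stalkMap_apply 𝓚.subschemeι U z hx t'
      rw [h3]
      have : (𝓚.subschemeι.app U).hom t' = (w : Γ(𝓚.subscheme, 𝓚.subschemeι ⁻¹ᵁ U)) := ht'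
      rw [show 𝓚.subschemeι.app U t' = (w : Γ(𝓚.subscheme, 𝓚.subschemeι ⁻¹ᵁ U)) from this]
      exact huw
    exact isUnit_of_map_unit (𝓚.subschemeι.stalkMap z).hom _ h2
  obtain ⟨u, hu⟩ := hut.mul hut'
  have key : a * (u : X.presheaf.stalk (𝓚.subschemeι z)) = X.presheaf.germ U _ hx (t' * s) := by
    rw [hu, ← mul_assoc, hst', map_mul, mul_comm]
  have ha' : a = X.presheaf.germ U _ hx (t' * s) *
      ((u⁻¹ : (X.presheaf.stalk (𝓚.subschemeι z))ˣ) : X.presheaf.stalk (𝓚.subschemeι z)) := by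
    rw [← key, mul_assoc, Units.mul_inv, mul_one]
  rw [ha']
  exact Ideal.mul_mem_right _ _ (Ideal.mem_map_of_mem _ hmem)

end Ker

section Sch

variable {X : Scheme.{u}}

theorem levelFree_stalk (𝓘 : X.IdealSheafData) (F : X.Modules) [F.IsQuasicoherent] (r n : ℕ)
    (h : FlatMod.IsFinLocFreeOfRank r
      ((Scheme.Modules.pullback (𝓘 ^ (n + 1)).subschemeι).obj F))
    (x : X) (hx : x ∈ 𝓘.support) :
    LevelFree (X.presheaf.stalk x) (F.presheaf.stalk x) r
      (maximalIdeal (X.presheaf.stalk x) ^ (n + 1)) := by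
  obtain ⟨z, rfl⟩ : ∃ z, (𝓘 ^ (n + 1)).subschemeι z = x := by
    have h1 : x ∈ Set.range (𝓘 ^ (n + 1)).subschemeι := by
      rw [Scheme.IdealSheafData.range_subschemeι]
      exact hx
    exact h1
  obtain ⟨σ, hσ⟩ := exists_stalk_pullback_isBaseChange (𝓘 ^ (n + 1)).subschemeι F z
  obtain ⟨hfree, hfin, hrk⟩ := Groth.Agent.H4.LFP1.stalk_of_isFinLocFreeOfRank r _ h z
  letI iA : Algebra (X.presheaf.stalk ((𝓘 ^ (n + 1)).subschemeι z))
      ((𝓘 ^ (n + 1)).subscheme.presheaf.stalk z) :=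
    ((𝓘 ^ (n + 1)).subschemeι.stalkMap z).hom.toAlgebra
  letI iM : Module (X.presheaf.stalk ((𝓘 ^ (n + 1)).subschemeι z))
      (((Scheme.Modules.pullback (𝓘 ^ (n + 1)).subschemeι).obj F).presheaf.stalk z) :=
    stalkModuleOver (𝓘 ^ (n + 1)).subschemeι ((Scheme.Modules.pullback _).obj F) z
  haveI iT : IsScalarTower (X.presheaf.stalk ((𝓘 ^ (n + 1)).subschemeι z))
      ((𝓘 ^ (n + 1)).subscheme.presheaf.stalk z)
      (((Scheme.Modules.pullback (𝓘 ^ (n + 1)).subschemeι).obj F).presheaf.stalk z) :=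
    IsScalarTower.of_algebraMap_smul fun r m => rfl
  refine ⟨_, inferInstance, iA, _, inferInstance, iM, inferInstance, iT, σ, hσ, ?_, ?_,
    hfree, hfin, hrk⟩
  · exact (𝓘 ^ (n + 1)).subschemeι.stalkMap_surjective z
  · obtain ⟨U, hU, hxU, -⟩ := exists_isAffineOpen_mem_and_subset
      (x := (𝓘 ^ (n + 1)).subschemeι z) (U := ⊤) trivial
    refine (ker_stalkMap_subschemeι_le (𝓘 ^ (n + 1)) z hU hxU).trans ?_
    show Ideal.map _ ((𝓘.ideal ⟨U, hU⟩) ^ (n + 1)) ≤ _
    rw [Ideal.map_pow]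
    refine Ideal.pow_right_mono ?_ _
    rw [Ideal.map_le_iff_le_comap]
    intro s hs
    rw [Ideal.mem_comap, IsLocalRing.mem_maximalIdeal, mem_nonunits_iff]
    intro hunit
    have hxs : (𝓘 ^ (n + 1)).subschemeι z ∈ X.basicOpen s := (X.mem_basicOpen s _ hxU).mpr hunit
    have hsupp := (Scheme.IdealSheafData.mem_support_iff_of_mem (I := 𝓘) (U := ⟨U, hU⟩) hxU).mp hx
    rw [Scheme.mem_zeroLocus_iff] at hsupp
    exact hsupp s hs hxs

theorem stalk_equiv_of_mem_support [IsLocallyNoetherian X] (𝓘 : X.IdealSheafData)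
    (F : X.Modules) (hF : Coh.IsCoh F) (r : ℕ)
    (h : ∀ n : ℕ, FlatMod.IsFinLocFreeOfRank r
      ((Scheme.Modules.pullback (𝓘 ^ (n + 1)).subschemeι).obj F))
    (x : X) (hx : x ∈ 𝓘.support) :
    Nonempty (F.presheaf.stalk x ≃ₗ[X.presheaf.stalk x] (Fin r → X.presheaf.stalk x)) := by
  haveI := hF.1
  haveI : Module.Finite (X.presheaf.stalk x) (F.presheaf.stalk x) :=
    Groth.Agent.H1.CohLen.finite_stalk F hF.2 x
  exact nonempty_equiv_of_levelFree _ r (fun n => levelFree_stalk 𝓘 F r n (h n) x hx)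

/-- near a point of the support of `𝓘`, `F` is free of rank `r`. -/
theorem exists_affine_equiv_of_mem_support [IsLocallyNoetherian X] (𝓘 : X.IdealSheafData)
    (F : X.Modules) (hF : Coh.IsCoh F) (r : ℕ)
    (h : ∀ n : ℕ, FlatMod.IsFinLocFreeOfRank r
      ((Scheme.Modules.pullback (𝓘 ^ (n + 1)).subschemeι).obj F))
    (x : X) (hx : x ∈ 𝓘.support) :
    ∃ U : X.Opens, IsAffineOpen U ∧ x ∈ U ∧
      Nonempty (Γ(F, U) ≃ₗ[Γ(X, U)] (Fin r → Γ(X, U))) := by
  haveI := hF.1
  obtain ⟨e⟩ := stalk_equiv_of_mem_support 𝓘 F hF r h x hx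
  have hfree : Module.Free (X.presheaf.stalk x) (F.presheaf.stalk x) := Module.Free.of_equiv e.symm
  have hrk : Module.finrank (X.presheaf.stalk x) (F.presheaf.stalk x) = r := by
    rw [LinearEquiv.finrank_eq e, Module.finrank_fin_fun]
  obtain ⟨U, hU, hxU, -⟩ := exists_isAffineOpen_mem_and_subset (x := x) (U := ⊤) trivial
  haveI : IsNoetherianRing Γ(X, U) := IsLocallyNoetherian.component_noetherian ⟨U, hU⟩
  haveI : Module.Finite Γ(X, U) Γ(F, U) := finite_sections_of_isFiniteType F hF.2 hU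
  have hfp : Module.FinitePresentation Γ(X, U) Γ(F, U) :=
    Module.finitePresentation_of_finite Γ(X, U) Γ(F, U)
  obtain ⟨a, hxa, hfa⟩ := exists_free_basicOpen F hU hfp x hxU hfree
  haveI := hfa
  haveI : Module.Finite Γ(X, X.basicOpen a) Γ(F, X.basicOpen a) :=
    finite_sections_of_isFiniteType F hF.2 (hU.basicOpen a)
  obtain ⟨n, ⟨ℓ⟩⟩ := exists_equiv_fin_fun_of_free_of_finite Γ(X, X.basicOpen a)
    Γ(F, X.basicOpen a)
  have hn : n = r := by
    rw [← finrank_stalk_of_sections_equiv F (hU.basicOpen a) n ℓ x hxa, hrk]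
  subst hn
  exact ⟨X.basicOpen a, hU.basicOpen a, hxa, ⟨ℓ⟩⟩

/-- **S7864.** -/
theorem main (A : Type u) [CommRing A] [IsNoetherianRing A]
    (I : Ideal A) [IsAdicComplete I A] (X : Scheme.{u}) (f : X ⟶ Spec (CommRingCat.of A))
    [IsProper f] (F : X.Modules) (hF : Coh.IsCoh F) (r : ℕ)
    (h : ∀ n : ℕ, FlatMod.IsFinLocFreeOfRank r
      ((Scheme.Modules.pullback (FSch.completionToX X ((FSch.idealSpec A I).comap f) n)).obj F)) :
    FlatMod.IsFinLocFreeOfRank r F := by
  haveI := hF.1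
  haveI : IsNoetherianRing ↑(CommRingCat.of A) := ‹IsNoetherianRing A›
  haveI : IsLocallyNoetherian X := LocallyOfFiniteType.isLocallyNoetherian f
  haveI : CompactSpace X := QuasiCompact.compactSpace_of_compactSpace f
  obtain ⟨𝓘, h𝓘⟩ : ∃ 𝓘 : X.IdealSheafData, 𝓘 = (FSch.idealSpec A I).comap f := ⟨_, rfl⟩
  rw [← h𝓘] at h
  have key := exists_affine_equiv_of_mem_support 𝓘 F hF r h
  have hWo : IsOpen {x : X | ∃ U : X.Opens, IsAffineOpen U ∧ x ∈ U ∧
      Nonempty (Γ(F, U) ≃ₗ[Γ(X, U)] (Fin r → Γ(X, U)))} := by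
    rw [isOpen_iff_forall_mem_open]
    rintro x ⟨U, hU, hxU, he⟩
    exact ⟨U, fun y hy => ⟨U, hU, hy, he⟩, U.isOpen, hxU⟩
  have hW : ∀ x : X, x ∈ {x : X | ∃ U : X.Opens, IsAffineOpen U ∧ x ∈ U ∧
      Nonempty (Γ(F, U) ≃ₗ[Γ(X, U)] (Fin r → Γ(X, U)))} := by
    by_contra hne
    push_neg at hne
    obtain ⟨x₀, hx₀⟩ := hne
    obtain ⟨z, hzW, hzc⟩ := IsClosed.exists_closed_singleton hWo.isClosed_compl ⟨x₀, hx₀⟩
    apply hzW
    apply key z
    rw [h𝓘, Scheme.IdealSheafData.support_comap]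
    show f z ∈ (FSch.idealSpec A I).support
    have hfz : IsClosed ({f z} : Set (Spec (CommRingCat.of A))) := by
      have h1 := f.isClosedMap _ hzc
      rwa [Set.image_singleton] at h1
    have hmax : (f z : PrimeSpectrum A).asIdeal.IsMaximal :=
      (PrimeSpectrum.isClosed_singleton_iff_isMaximal _).mp hfz
    have hIle : I ≤ (f z : PrimeSpectrum A).asIdeal :=
      (IsAdicComplete.le_jacobson_bot I).trans (sInf_le ⟨bot_le, hmax⟩)
    apply (Spec.map (CommRingCat.ofHom (Ideal.Quotient.mk I))).range_subset_ker_support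
    have h2 : (f z : PrimeSpectrum A) ∈
        PrimeSpectrum.zeroLocus (RingHom.ker (Ideal.Quotient.mk I) : Set A) := by
      rw [Ideal.mk_ker]
      exact (PrimeSpectrum.mem_zeroLocus _ _).mpr (SetLike.coe_subset_coe.mpr hIle)
    rw [← _root_.range_comap_of_surjective _ (Ideal.Quotient.mk I)
      Ideal.Quotient.mk_surjective] at h2
    exact h2
  rw [Groth.Agent.H4.FittSheaf.isFinLocFreeOfRank_iff]
  exact hW

end Sch

end Groth.Agent.LD.FormalLF
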