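import Mathlib
import Groth.Agent.Lib.Helper5.HN.Main
import Groth.Agent.Lib.Helper5.VAmple.J
import Groth.Agent.Lib.Helper5.AG.ProjProper
import Groth.Agent.Lib.Lead.Misc3.MumB3
import Groth.Agent.Lib.Lead.QC.SuppSES
import Groth.Prelude.Def_W4c2simpsonmod1HP
import Groth.Prelude.Def_Twist2

/-!
# The Harder–Narasimhan filtration on projective space, recorded as a finite chain of subobjects
(translation of helper5's `existsUnique_isHNFiltration` into the `Finset` form of S14972).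
-/

set_option autoImplicit false
set_option linter.style.haveILetI false
set_option linter.unusedSectionVars false
universe u
open CategoryTheory CategoryTheory.Limits AlgebraicGeometry TopologicalSpace Opposite

namespace Groth.Agent.LD.HNPn

section order
variable {α : Type*} [PartialOrder α]

/-- a finite nonempty chain is the set of terms of a strictly increasing series. -/
theorem exists_ltSeries_of_chain : ∀ (m : ℕ) (C : Finset α), C.card = m + 1 →
    IsChain (fun a b : α => a ≤ b) (C : Set α) →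
    ∃ s : LTSeries α, (∀ x, x ∈ s ↔ x ∈ C) ∧ ∀ x ∈ C, x ≤ s.last := by
  classical
  intro m
  induction m with
  | zero =>
    intro C hC _
    obtain ⟨a, rfl⟩ := Finset.card_eq_one.mp hC
    refine ⟨RelSeries.singleton _ a, ?_, ?_⟩
    · intro x
      rw [RelSeries.mem_def]
      constructor
      · rintro ⟨i, rfl⟩
        simp
      · intro hx
        rw [Finset.mem_singleton] at hx
        exact ⟨0, by simp [hx]⟩
    · intro x hx
      rw [Finset.mem_singleton] at hx
      rw [RelSeries.last_singleton, hx]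
  | succ m ih =>
    intro C hC hch
    have hne : C.Nonempty := Finset.card_pos.mp (by omega)
    obtain ⟨M, hM, hmax⟩ := C.exists_maximal hne
    have hle : ∀ x ∈ C, x ≤ M := by
      intro x hx
      rcases hch.total hx hM with h | h
      · exact h
      · exact hmax hx h
    have hC' : (C.erase M).card = m + 1 := by
      rw [Finset.card_erase_of_mem hM, hC]
      rfl
    have hch' : IsChain (fun a b : α => a ≤ b) ((C.erase M : Finset α) : Set α) :=
      hch.mono (by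
        intro x hx
        exact Finset.mem_of_mem_erase hx)
    obtain ⟨s', hs', hlast'⟩ := ih (C.erase M) hC' hch'
    have hl : s'.last ∈ C.erase M := (hs' _).mp ⟨Fin.last _, rfl⟩
    have hlt : s'.last < M :=
      lt_of_le_of_ne (hle _ (Finset.mem_of_mem_erase hl)) (Finset.ne_of_mem_erase hl)
    refine ⟨s'.snoc M hlt, ?_, ?_⟩
    · intro x
      rw [RelSeries.mem_snoc, hs' x, Finset.mem_erase]
      constructor
      · rintro (⟨-, h⟩ | rfl)
        · exact h
        · exact hM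
      · intro hx
        by_cases hxM : x = M
        · exact Or.inr hxM
        · exact Or.inl ⟨hxM, hx⟩
    · intro x hx
      rw [RelSeries.last_snoc]
      exact hle x hx

/-- consecutive members of the range of a strictly increasing series are consecutive terms. -/
theorem exists_index_of_consecutive (s : LTSeries α) (A B : α) (hA : A ∈ s) (hB : B ∈ s)
    (hAB : A < B) (hno : ∀ D, D ∈ s → ¬ (A < D ∧ D < B)) :
    ∃ i : Fin s.length, A = s i.castSucc ∧ B = s i.succ := by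
  obtain ⟨a, rfl⟩ := hA
  obtain ⟨b, rfl⟩ := hB
  have hab : a < b := s.strictMono.lt_iff_lt.mp hAB
  have hb : b.val = a.val + 1 := by
    by_contra hne
    have h1 : a.val + 1 < b.val := by
      have : a.val < b.val := hab
      omega
    have h2 : a.val + 1 < s.length + 1 := lt_trans h1 b.isLt
    refine hno (s ⟨a.val + 1, h2⟩) ⟨_, rfl⟩ ⟨?_, ?_⟩
    · exact s.strictMono (by
        change a.val < a.val + 1
        omega)
    · exact s.strictMono (by
        change a.val + 1 < b.val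
        exact h1)
  have ha : a.val < s.length := by
    have := b.isLt
    omega
  refine ⟨⟨a.val, ha⟩, ?_, ?_⟩
  · congr 1
  · congr 1
    exact Fin.ext hb

theorem consecutive_of_index (s : LTSeries α) (i : Fin s.length) (D : α) (hD : D ∈ s) :
    ¬ (s i.castSucc < D ∧ D < s i.succ) := by
  obtain ⟨j, rfl⟩ := hD
  rintro ⟨h1, h2⟩
  have h1' : i.castSucc < j := s.strictMono.lt_iff_lt.mp h1
  have h2' : j < i.succ := s.strictMono.lt_iff_lt.mp h2
  have a1 : i.val < j.val := h1'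
  have a2 : j.val < i.val + 1 := h2'
  omega

end order

section poly
open Polynomial


lemma dim_eq_bot_of_isEmpty (T : Type*) [TopologicalSpace T] [IsEmpty T] :
    topologicalKrullDim T = ⊥ := by
  unfold topologicalKrullDim
  haveI : IsEmpty (TopologicalSpace.IrreducibleCloseds T) :=
    ⟨fun Z => by
      obtain ⟨x, -⟩ := Z.isIrreducible.nonempty
      exact isEmptyElim x⟩
  exact Order.krullDim_eq_bot

lemma rankOf_eq_alpha (d : ℕ) (φ : ℚ[X]) : W4c2simpsonmod1.rankOf d φ = StabCat.alpha d φ := rfl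

lemma w_of_s_le {d : ℕ} {ψ φ : ℚ[X]} (hψ : 0 < StabCat.alpha d ψ) (hφ : 0 < StabCat.alpha d φ)
    (h : StabCat.RedLE d ψ φ) : W4c2simpsonmod1.RedLE d ψ φ := by
  obtain ⟨N, hN⟩ := h
  refine ⟨(N : ℤ), fun m hm => ?_⟩
  obtain ⟨m', rfl⟩ : ∃ m' : ℕ, m = m' :=
    ⟨m.toNat, (Int.toNat_of_nonneg (le_trans (Int.natCast_nonneg N) hm)).symm⟩
  have h1 := hN m' (by exact_mod_cast hm)
  simp only [Polynomial.eval_smul, smul_eq_mul] at h1
  rw [Int.cast_natCast, rankOf_eq_alpha, rankOf_eq_alpha, div_le_div_iff₀ hψ hφ]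
  linarith

lemma s_of_w_le {d : ℕ} {ψ φ : ℚ[X]} (hψ : 0 < StabCat.alpha d ψ) (hφ : 0 < StabCat.alpha d φ)
    (h : W4c2simpsonmod1.RedLE d ψ φ) : StabCat.RedLE d ψ φ := by
  obtain ⟨N, hN⟩ := h
  refine ⟨N.toNat, fun m hm => ?_⟩
  have h1 := hN (m : ℤ) (by
    have := Int.self_le_toNat N
    omega)
  rw [Int.cast_natCast, rankOf_eq_alpha, rankOf_eq_alpha, div_le_div_iff₀ hψ hφ] at h1
  simp only [Polynomial.eval_smul, smul_eq_mul]
  linarith

lemma w_of_s_lt {d : ℕ} {ψ φ : ℚ[X]} (hψ : 0 < StabCat.alpha d ψ) (hφ : 0 < StabCat.alpha d φ)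
    (h : StabCat.RedLT d ψ φ) : W4c2simpsonmod1.RedLT d ψ φ := by
  obtain ⟨N, hN⟩ := h
  refine ⟨(N : ℤ), fun m hm => ?_⟩
  obtain ⟨m', rfl⟩ : ∃ m' : ℕ, m = m' :=
    ⟨m.toNat, (Int.toNat_of_nonneg (le_trans (Int.natCast_nonneg N) hm)).symm⟩
  have h1 := hN m' (by exact_mod_cast hm)
  simp only [Polynomial.eval_smul, smul_eq_mul] at h1
  rw [Int.cast_natCast, rankOf_eq_alpha, rankOf_eq_alpha, div_lt_div_iff₀ hψ hφ]
  linarith

lemma s_of_w_lt {d : ℕ} {ψ φ : ℚ[X]} (hψ : 0 < StabCat.alpha d ψ) (hφ : 0 < StabCat.alpha d φ)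
    (h : W4c2simpsonmod1.RedLT d ψ φ) : StabCat.RedLT d ψ φ := by
  obtain ⟨N, hN⟩ := h
  refine ⟨N.toNat, fun m hm => ?_⟩
  have h1 := hN (m : ℤ) (by
    have := Int.self_le_toNat N
    omega)
  rw [Int.cast_natCast, rankOf_eq_alpha, rankOf_eq_alpha, div_lt_div_iff₀ hψ hφ] at h1
  simp only [Polynomial.eval_smul, smul_eq_mul]
  linarith

lemma w_refl (d : ℕ) (φ : ℚ[X]) : W4c2simpsonmod1.RedLE d φ φ := ⟨0, fun _ _ => le_refl _⟩

end poly

section abstract

open Groth.Agent.H5 Groth.Agent.H5.HN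

variable (k : Type u) [Field k] (X : Scheme.{u}) [X.Over (Spec (CommRingCat.of k))]
  [IsProper (X ↘ Spec (CommRingCat.of k))] {L : X.Modules} (hA : CohB1.IsAmple L) (d : ℕ)
  {E : X.Modules}

/-- transport of a property of a subquotient along equalities of subobjects. -/
lemma cok_congr {A A' B B' : Subobject E} (eA : A = A') (eB : B = B') (h : A ≤ B) (h' : A' ≤ B')
    (P : X.Modules → Prop) :
    P (cokernel (Subobject.ofLE A B h)) ↔ P (cokernel (Subobject.ofLE A' B' h')) := by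
  subst eA
  subst eB
  exact Iff.rfl

/-- the conditions on a finite chain of subobjects saying that it is the Harder–Narasimhan
filtration (with the Hilbert polynomial relation `HPZ`). -/
def ChainCond (HPZ : X.Modules → Polynomial ℚ → Prop) (d : ℕ) (E : X.Modules)
    (C : Finset (Subobject E)) : Prop :=
  ⊥ ∈ C ∧ ⊤ ∈ C ∧ IsChain (fun A B : Subobject E => A ≤ B) (↑C : Set (Subobject E)) ∧
  (∀ A ∈ C, Coh.IsCoh (A : X.Modules)) ∧
  (∀ A ∈ C, ∀ B ∈ C, ∀ hAB : A < B, (∀ D ∈ C, ¬ (A < D ∧ D < B)) →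
    (topologicalKrullDim ↥(CohB1.support (cokernel (Subobject.ofLE A B hAB.le))) =
        (d : WithBot ℕ∞) ∧
      ∀ (G : X.Modules) (ι : G ⟶ (cokernel (Subobject.ofLE A B hAB.le))), Mono ι → Coh.IsCoh G →
        ¬ IsZero G → topologicalKrullDim ↥(CohB1.support G) = (d : WithBot ℕ∞)) ∧
    (∀ (G : X.Modules) (ι : G ⟶ (cokernel (Subobject.ofLE A B hAB.le))), Mono ι → Coh.IsCoh G →
      ¬ IsZero G → ∀ φ ψ : Polynomial ℚ, HPZ (cokernel (Subobject.ofLE A B hAB.le)) φ → HPZ G ψ →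
        W4c2simpsonmod1.RedLE d ψ φ)) ∧
  (∀ A ∈ C, ∀ B ∈ C, ∀ B' ∈ C, ∀ hAB : A < B, ∀ hBB : B < B',
    (∀ D ∈ C, ¬ (A < D ∧ D < B)) → (∀ D ∈ C, ¬ (B < D ∧ D < B')) →
    ∀ ψ ψ' : Polynomial ℚ, HPZ (cokernel (Subobject.ofLE A B hAB.le)) ψ →
      HPZ (cokernel (Subobject.ofLE B B' hBB.le)) ψ' → W4c2simpsonmod1.RedLT d ψ' ψ)

include hA in
/-- a Harder–Narasimhan filtration gives a chain satisfying the conditions. -/
theorem chainCond_of_isHN (HPZ : X.Modules → Polynomial ℚ → Prop)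
    (hHPZ : ∀ F : X.Modules, Coh.IsCoh F → ∀ φ : Polynomial ℚ,
      HPZ F φ ↔ ShStab.IsHilbPoly k X L F φ)
    (hE : Coh.IsCoh E) (s : LTSeries (Subobject E)) (hs : ShStab.IsHNFiltration k X L E d s)
    (C : Finset (Subobject E)) (hC : ∀ x, x ∈ s ↔ x ∈ C) : ChainCond X HPZ d E C := by
  obtain ⟨h0, h1, hss, hdec⟩ := hs
  have hcoh : ∀ j : Fin (s.length + 1), CohS X (s j) :=
    cohS_of_factors k X hE s h0 (fun i => (hss i).1)
  refine ⟨?_, ?_, ?_, ?_, ?_, ?_⟩
  · exact (hC _).mp (RelSeries.mem_def.mpr ⟨0, h0⟩)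
  · exact (hC _).mp (RelSeries.mem_def.mpr ⟨Fin.last _, h1⟩)
  · intro A hA' B hB' _
    obtain ⟨a, rfl⟩ := RelSeries.mem_def.mp ((hC A).mpr (Finset.mem_coe.mp hA'))
    obtain ⟨b, rfl⟩ := RelSeries.mem_def.mp ((hC B).mpr (Finset.mem_coe.mp hB'))
    rcases le_total a b with h | h
    · exact Or.inl (s.strictMono.monotone h)
    · exact Or.inr (s.strictMono.monotone h)
  · intro A hA'
    obtain ⟨a, rfl⟩ := RelSeries.mem_def.mp ((hC A).mpr hA')
    exact hcoh a
  · intro A hA' B hB' hAB hno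
    obtain ⟨i, rfl, rfl⟩ := exists_index_of_consecutive s A B ((hC A).mpr hA') ((hC B).mpr hB') hAB
      (fun D hD => hno D ((hC D).mp hD))
    obtain ⟨hc, hnz, hpu, hSS⟩ := hss i
    refine ⟨⟨Groth.Agent.H5.HP.dim_support_of_isPure X d hc hnz hpu, hpu⟩, ?_⟩
    intro G ι hι hG hG0 φ ψ hφ hψ
    haveI := hι
    have hφ' : ShStab.IsHilbPoly k X L (StabCat.factor s i) φ := (hHPZ _ hc φ).mp hφ
    have hψ' : ShStab.IsHilbPoly k X L G ψ := (hHPZ G hG ψ).mp hψ
    by_cases hiso : IsIso ι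
    · have e : ψ = φ := Groth.Agent.H5.HP.isHilbPoly_unique k X L _
        (Groth.Agent.H5.HP.isHilbPoly_of_iso k X L (asIso ι) hψ') hφ'
      rw [e]
      exact w_refl d φ
    · exact w_of_s_le (Groth.Agent.H5.Deg.alpha_pos k X hA G hG hG0 hψ' d (hpu G ι hι hG hG0))
        (Groth.Agent.H5.HP.alpha_pos_of_isSemistable k X hA d (hss i) hφ')
        (hSS G ι hι hG hG0 hiso ψ φ hψ' hφ')
  · intro A hA' B hB' B' hB'' hAB hBB hno hno' ψ ψ' hψ hψ'
    obtain ⟨i, rfl, rfl⟩ := exists_index_of_consecutive s A B ((hC A).mpr hA') ((hC B).mpr hB') hAB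
      (fun D hD => hno D ((hC D).mp hD))
    obtain ⟨j, hj1, rfl⟩ := exists_index_of_consecutive s (s i.succ) B' ((hC _).mpr hB')
      ((hC B').mpr hB'') hBB (fun D hD => hno' D ((hC D).mp hD))
    have hij : i.val + 1 = j.val := by
      have h2 := congrArg Fin.val (s.strictMono.injective hj1)
      simpa using h2
    have hψ'2 : HPZ (StabCat.factor s j) ψ' :=
      (cok_congr X hj1 rfl hBB.le (le_of_lt (s.step j)) (fun M => HPZ M ψ')).mp hψ'
    have hp : ShStab.IsHilbPoly k X L (StabCat.factor s i) ψ := (hHPZ _ (hss i).1 ψ).mp hψ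
    have hq : ShStab.IsHilbPoly k X L (StabCat.factor s j) ψ' := (hHPZ _ (hss j).1 ψ').mp hψ'2
    exact w_of_s_lt (Groth.Agent.H5.HP.alpha_pos_of_isSemistable k X hA d (hss j) hq)
      (Groth.Agent.H5.HP.alpha_pos_of_isSemistable k X hA d (hss i) hp) (hdec i j hij ψ ψ' hp hq)

include hA in
/-- a chain satisfying the conditions, enumerated as a series, is a Harder–Narasimhan filtration. -/
theorem isHN_of_chainCond (HPZ : X.Modules → Polynomial ℚ → Prop)
    (hHPZ : ∀ F : X.Modules, Coh.IsCoh F → ∀ φ : Polynomial ℚ,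
      HPZ F φ ↔ ShStab.IsHilbPoly k X L F φ)
    (C : Finset (Subobject E)) (hCC : ChainCond X HPZ d E C)
    (s : LTSeries (Subobject E)) (hC : ∀ x, x ∈ s ↔ x ∈ C) :
    ShStab.IsHNFiltration k X L E d s := by
  obtain ⟨hbot, htop, -, hcohC, hpair, htriple⟩ := hCC
  have hmem : ∀ a : Fin (s.length + 1), s a ∈ C :=
    fun a => (hC _).mp (RelSeries.mem_def.mpr ⟨a, rfl⟩)
  have hcoh : ∀ a : Fin (s.length + 1), CohS X (s a) := fun a => hcohC _ (hmem a)
  have hnoD : ∀ (i : Fin s.length), ∀ D ∈ C, ¬ (s i.castSucc < D ∧ D < s i.succ) :=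
    fun i D hD => consecutive_of_index s i D ((hC D).mpr hD)
  have hss : ∀ i : Fin s.length, ShStab.IsSemistable k X L (StabCat.factor s i) d := by
    intro i
    obtain ⟨⟨hdim, hpu⟩, hle⟩ := hpair _ (hmem i.castSucc) _ (hmem i.succ) (s.step i) (hnoD i)
    have hc : Coh.IsCoh (StabCat.factor s i) :=
      isCoh_sq (le_of_lt (s.step i)) (hcoh _) (hcoh _)
    have hnz : ¬ IsZero (StabCat.factor s i) := not_isZero_sq (s.step i)
    refine ⟨hc, hnz, hpu, ?_⟩
    intro G ι hι hG hG0 _ pF pE hpF hpE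
    exact s_of_w_le (Groth.Agent.H5.Deg.alpha_pos k X hA G hG hG0 hpF d (hpu G ι hι hG hG0))
      (Groth.Agent.H5.Deg.alpha_pos k X hA _ hc hnz hpE d hdim)
      (hle G ι hι hG hG0 pE pF ((hHPZ _ hc pE).mpr hpE) ((hHPZ G hG pF).mpr hpF))
  refine ⟨?_, ?_, hss, ?_⟩
  · obtain ⟨a, ha⟩ := RelSeries.mem_def.mp ((hC ⊥).mpr hbot)
    have h1 : s.head ≤ s a := s.strictMono.monotone (Fin.zero_le a)
    rw [ha] at h1
    exact le_bot_iff.mp h1
  · obtain ⟨a, ha⟩ := RelSeries.mem_def.mp ((hC ⊤).mpr htop)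
    have h1 : s a ≤ s.last := s.strictMono.monotone (Fin.le_last a)
    rw [ha] at h1
    exact top_le_iff.mp h1
  · intro i j hij p q hp hq
    have e1 : s i.succ = s j.castSucc := congrArg s.toFun (Fin.ext (by simpa using hij))
    have hBB : s i.succ < s j.succ :=
      s.strictMono (Fin.succ_lt_succ_iff.mpr (Fin.lt_def.mpr (by omega)))
    have hno' : ∀ D ∈ C, ¬ (s i.succ < D ∧ D < s j.succ) := by
      intro D hD
      rw [e1]
      exact hnoD j D hD
    have hψ : HPZ (cokernel (Subobject.ofLE (s i.castSucc) (s i.succ) (s.step i).le)) p :=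
      (hHPZ _ (hss i).1 p).mpr hp
    have hψ' : HPZ (cokernel (Subobject.ofLE (s i.succ) (s j.succ) hBB.le)) q :=
      (cok_congr X e1 rfl hBB.le (le_of_lt (s.step j)) (fun M => HPZ M q)).mpr
        ((hHPZ _ (hss j).1 q).mpr hq)
    have h3 := htriple _ (hmem i.castSucc) _ (hmem i.succ) _ (hmem j.succ) (s.step i) hBB
      (hnoD i) hno' p q hψ hψ'
    exact s_of_w_lt (Groth.Agent.H5.HP.alpha_pos_of_isSemistable k X hA d (hss j) hq)
      (Groth.Agent.H5.HP.alpha_pos_of_isSemistable k X hA d (hss i) hp) h3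

include hA in
/-- existence and uniqueness of the Harder–Narasimhan chain. -/
theorem existsUnique_chain (HPZ : X.Modules → Polynomial ℚ → Prop)
    (hHPZ : ∀ F : X.Modules, Coh.IsCoh F → ∀ φ : Polynomial ℚ,
      HPZ F φ ↔ ShStab.IsHilbPoly k X L F φ)
    (hE : Coh.IsCoh E) (h0 : ¬ IsZero E) (hp : ShStab.IsPure X E d) :
    ∃! C : Finset (Subobject E), ChainCond X HPZ d E C := by
  classical
  obtain ⟨s₀, hs₀, huniq⟩ := existsUnique_isHNFiltration k X hA d hE h0 hp
  have hC₀ : ∀ x, x ∈ s₀ ↔ x ∈ Finset.univ.image s₀.toFun := by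
    intro x
    rw [RelSeries.mem_def, Finset.mem_image]
    constructor
    · rintro ⟨a, rfl⟩
      exact ⟨a, Finset.mem_univ _, rfl⟩
    · rintro ⟨a, -, rfl⟩
      exact ⟨a, rfl⟩
  refine ⟨Finset.univ.image s₀.toFun, chainCond_of_isHN k X hA d HPZ hHPZ hE s₀ hs₀ _ hC₀, ?_⟩
  intro C hCC
  obtain ⟨m, hm⟩ : ∃ m, C.card = m + 1 :=
    ⟨C.card - 1, by
      have := Finset.card_pos.mpr ⟨_, hCC.1⟩
      omega⟩
  obtain ⟨s, hs, -⟩ := exists_ltSeries_of_chain m C hm hCC.2.2.1
  have hHN := isHN_of_chainCond k X hA d HPZ hHPZ C hCC s hs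
  have e : s = s₀ := huniq s hHN
  subst e
  ext x
  rw [← hs x, hC₀ x]

end abstract

section Pn

open Groth.Agent.LD.PN Twist

variable (n : ℕ) (k : Type u) [Field k]

/-- the integer Hilbert function condition on projective space. -/
def HPZn (F : (Proj (CohB1.polyGrading n k)).Modules) (φ : Polynomial ℚ) : Prop :=
  ∀ m : ℤ, ((Curv2.euler k (Proj (CohB1.polyGrading n k))
    (CohB1.tensorMod F (twist (CohB1.polyGrading n k) m)) : ℤ) : ℚ) = φ.eval (m : ℚ)

theorem hpzn_iff (F : (Proj (CohB1.polyGrading n k)).Modules) (hF : Coh.IsCoh F)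
    (φ : Polynomial ℚ) :
    HPZn n k F φ ↔ ShStab.IsHilbPoly k (Proj (CohB1.polyGrading n k))
      (twist (CohB1.polyGrading n k) 1) F φ := by
  haveI : IsProper ((Proj (CohB1.polyGrading n k)) ↘ Spec (CommRingCat.of k)) :=
    Groth.Agent.H5.AG.isProper_toSpec n k
  have key : ∀ l : ℕ, Curv2.euler k (Proj (CohB1.polyGrading n k))
      (CohB1.tensorMod F (twist (CohB1.polyGrading n k) ((l : ℕ) : ℤ))) =
      Curv2.euler k (Proj (CohB1.polyGrading n k))
        (ShStab.twist (Proj (CohB1.polyGrading n k)) (twist (CohB1.polyGrading n k) 1) F l) := by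
    intro l
    obtain ⟨e1⟩ := TW.nonempty_twist_iso_tensorPow (X_range_mem n k) (irrelevant_eq_span n k) l
    exact Curve.euler_iso k _ (QC.tensorIso' (Iso.refl F) e1)
  constructor
  · intro h l
    have h1 := h ((l : ℕ) : ℤ)
    rw [Int.cast_natCast, key l] at h1
    exact h1
  · intro h
    obtain ⟨Q, hQ⟩ := exists_hilbert_polynomial n k F hF
    have hQφ : Q = φ := by
      apply Polynomial.eq_of_infinite_eval_eq
      apply Set.infinite_of_injective_forall_mem (f := fun l : ℕ => (l : ℚ)) Nat.cast_injective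
      intro l
      change Q.eval (l : ℚ) = φ.eval (l : ℚ)
      rw [← h l, ← key l]
      have h1 := hQ ((l : ℕ) : ℤ)
      rw [Int.cast_natCast] at h1
      rw [← h1, MumB.chi_eq_euler n k (kG n k F ((l : ℕ) : ℤ)) (isCoh_twist n k F hF _), kG_eq]
    intro m
    rw [← hQφ, ← hQ m, MumB.chi_eq_euler n k (kG n k F m) (isCoh_twist n k F hF m), kG_eq]

/-- the Harder–Narasimhan chain on `Proj` of the polynomial ring. -/
theorem main' (d : ℕ) (E : (Proj (CohB1.polyGrading n k)).Modules) (hE : Coh.IsCoh E)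
    (hpure : topologicalKrullDim ↥(CohB1.support E) = (d : WithBot ℕ∞) ∧
      ∀ (G : (Proj (CohB1.polyGrading n k)).Modules) (ι : G ⟶ E), Mono ι → Coh.IsCoh G →
        ¬ IsZero G → topologicalKrullDim ↥(CohB1.support G) = (d : WithBot ℕ∞)) :
    ∃! C : Finset (Subobject E),
      ChainCond (Proj (CohB1.polyGrading n k)) (HPZn n k) d E C := by
  haveI : IsProper ((Proj (CohB1.polyGrading n k)) ↘ Spec (CommRingCat.of k)) :=
    Groth.Agent.H5.AG.isProper_toSpec n k
  have hA := Groth.Agent.H5.VAmple.isAmple_O1 n k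
  have h0 : ¬ IsZero E := by
    intro hz
    haveI hemp : IsEmpty ↥(CohB1.support E) := by
      rw [QC.support_eq_empty_of_isZero hz]
      exact Set.isEmpty_coe_sort.mpr rfl
    have h1 := dim_eq_bot_of_isEmpty ↥(CohB1.support E)
    rw [hpure.1] at h1
    exact WithBot.natCast_ne_bot d h1
  exact existsUnique_chain k _ hA d (HPZn n k) (hpzn_iff n k) hE h0 hpure.2

/-- **S14972** (over any field): the Harder–Narasimhan chain on projective space. -/
theorem main (n : ℕ) (k : Type u) [Field k] (d : ℕ)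
    (E : (CohB1.ProjSpace n k).Modules) (hE : Coh.IsCoh E)
    (hpure : (topologicalKrullDim ↥(CohB1.support E) = (d : WithBot ℕ∞) ∧
          ∀ (G : (CohB1.ProjSpace n k).Modules) (ι : G ⟶ E), Mono ι → Coh.IsCoh G → ¬ IsZero G → topologicalKrullDim ↥(CohB1.support G) = (d : WithBot ℕ∞))) :
    ∃! C : Finset (Subobject E),
      ⊥ ∈ C ∧ ⊤ ∈ C ∧ IsChain (fun A B : Subobject E => A ≤ B) (↑C : Set (Subobject E)) ∧
      (∀ A ∈ C, Coh.IsCoh (A : (CohB1.ProjSpace n k).Modules)) ∧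
      (∀ A ∈ C, ∀ B ∈ C, ∀ hAB : A < B, (∀ D ∈ C, ¬ (A < D ∧ D < B)) →
        (topologicalKrullDim ↥(CohB1.support (cokernel (Subobject.ofLE A B hAB.le))) = (d : WithBot ℕ∞) ∧
          ∀ (G : (CohB1.ProjSpace n k).Modules) (ι : G ⟶ (cokernel (Subobject.ofLE A B hAB.le))), Mono ι → Coh.IsCoh G → ¬ IsZero G → topologicalKrullDim ↥(CohB1.support G) = (d : WithBot ℕ∞)) ∧
        (∀ (G : (CohB1.ProjSpace n k).Modules) (ι : G ⟶ (cokernel (Subobject.ofLE A B hAB.le))), Mono ι → Coh.IsCoh G → ¬ IsZero G →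
          ∀ φ ψ : Polynomial ℚ, (∀ m : ℤ, (Curv2.euler k (CohB1.ProjSpace n k) (CohB1.tensorMod (cokernel (Subobject.ofLE A B hAB.le)) (Twist.twistProjSpace n k m)) : ℚ) = φ.eval (m : ℚ)) → (∀ m : ℤ, (Curv2.euler k (CohB1.ProjSpace n k) (CohB1.tensorMod G (Twist.twistProjSpace n k m)) : ℚ) = ψ.eval (m : ℚ)) →
            W4c2simpsonmod1.RedLE d ψ φ)) ∧
      (∀ A ∈ C, ∀ B ∈ C, ∀ B' ∈ C, ∀ hAB : A < B, ∀ hBB : B < B',
        (∀ D ∈ C, ¬ (A < D ∧ D < B)) → (∀ D ∈ C, ¬ (B < D ∧ D < B')) →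
        ∀ ψ ψ' : Polynomial ℚ, (∀ m : ℤ, (Curv2.euler k (CohB1.ProjSpace n k) (CohB1.tensorMod (cokernel (Subobject.ofLE A B hAB.le)) (Twist.twistProjSpace n k m)) : ℚ) = ψ.eval (m : ℚ)) →
          (∀ m : ℤ, (Curv2.euler k (CohB1.ProjSpace n k) (CohB1.tensorMod (cokernel (Subobject.ofLE B B' hBB.le)) (Twist.twistProjSpace n k m)) : ℚ) = ψ'.eval (m : ℚ)) →
          W4c2simpsonmod1.RedLT d ψ' ψ) := by
  have h := main' n k d E hE hpure
  exact h

end Pn

end Groth.Agent.LD.HNPn
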