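import Groth.Agent.Lib.Lead.Misc3.TrivLocus

/-!
# Local constancy of the index of a family with cohomology concentrated in one degree (lead)

If every fibre of a flat coherent module along a proper morphism to a locally Noetherian base has
cohomology in exactly one degree `idx t`, then `idx` is locally constant (semicontinuity).
-/

set_option autoImplicit false
universe u
open CategoryTheory CategoryTheory.Limits AlgebraicGeometry TopologicalSpace Opposite TensorProduct

namespace Groth.Agent.LD.IdxLC

section alg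

variable {A : Type u} [CommRing A]

lemma fibDim_eq_zero (C : Type u) [AddCommGroup C] [Module A C] [Subsingleton C]
    (x : PrimeSpectrum A) : Groth.Agent.H8.DRank.fibDim C x = 0 := by
  unfold Groth.Agent.H8.DRank.fibDim
  haveI : Subsingleton (x.asIdeal.ResidueField ⊗[A] C) := by
    have h : ∀ z : x.asIdeal.ResidueField ⊗[A] C, z = 0 := by
      intro z
      induction z using TensorProduct.induction_on with
      | zero => rfl
      | tmul r c => rw [Subsingleton.elim c 0, TensorProduct.tmul_zero]
      | add a b ha hb => rw [ha, hb, add_zero]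
    exact ⟨fun a b => by rw [h a, h b]⟩
  exact Module.finrank_zero_of_subsingleton

lemma dRank_eq_zero_of_isZero (P : ChainComplex (ModuleCat.{u} A) ℤ) (p : ℤ)
    [Module.Finite A (P.X p)] (h : IsZero (P.X p)) (x : PrimeSpectrum A) :
    CohIII.dRank P p x = 0 := by
  haveI : Subsingleton (P.X p) := ModuleCat.subsingleton_of_isZero h
  have h1 := Groth.Agent.H8.DRank.dRank_le_fibDim P p x
  have h2 := fibDim_eq_zero (P.X p) x
  omega

end alg

section main

variable {X Y : Scheme.{u}} (f : X ⟶ Y) [IsProper f] [IsLocallyNoetherian Y]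

/-- **the index of a family with cohomology concentrated in a single degree is locally
constant.** -/
theorem isLocallyConstant_idx (F : X.Modules) (hF : Coh.IsCoh F) (hfl : FlatMod.IsFlatOver f F)
    (idx : Y → ℕ)
    (hidx : ∀ t : Y, (∀ j : ℕ, j ≠ idx t → Subsingleton (CohIII.fiberH f F t j)) ∧
      Nontrivial (CohIII.fiberH f F t (idx t))) :
    IsLocallyConstant idx := by
  haveI := Groth.Agent.LD.QCQS.hasInjRes X
  have hnon : ∀ (t : Y) (j : ℕ), 1 ≤ CohIII.fiberRank f F j t ↔
      Nontrivial (CohIII.fiberH f F t j) := by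
    intro t j
    haveI := Groth.Agent.LD.TrivLocus.finite_fiberH f F hF hfl j t
    exact Module.finrank_pos_iff (R := Y.residueField t) (M := CohIII.fiberH f F t j)
  have key : ∀ (t : Y) (j : ℕ), 1 ≤ CohIII.fiberRank f F j t ↔ j = idx t := by
    intro t j
    rw [hnon]
    constructor
    · intro hnt
      by_contra hne
      haveI := (hidx t).1 j hne
      exact not_subsingleton _ ‹Subsingleton (CohIII.fiberH f F t j)›
    · rintro rfl
      exact (hidx t).2
  rw [IsLocallyConstant.iff_exists_open]
  intro t₀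
  obtain ⟨V, hV, ht₀V, -⟩ := exists_isAffineOpen_mem_and_subset (x := t₀) (U := ⊤) trivial
  obtain ⟨P, hP, ⟨b, hb⟩, -, hrank, -, -⟩ :=
    Groth.Agent.H2.RpC.exists_localData' f F hF hfl V hV
  obtain ⟨N, hN⟩ : ∃ N : ℕ, N = (-b).toNat := ⟨_, rfl⟩
  have hbound : ∀ t : Y, t ∈ V → idx t ≤ N := by
    intro t htV
    by_contra hlt
    rw [not_le] at hlt
    have h1 : 1 ≤ CohIII.fiberRank f F (idx t) t := (key t (idx t)).mpr rfl
    rw [hrank (idx t) t htV] at h1
    haveI := (hP (-((idx t : ℕ) : ℤ))).1
    have h2 := dRank_eq_zero_of_isZero P (-((idx t : ℕ) : ℤ)) (hb _ (by omega))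
      (V.toScheme.toSpecΓ ⟨t, htV⟩)
    omega
  refine ⟨(V : Set Y) ∩ ⋂ j ∈ (Finset.range (N + 1)).erase (idx t₀),
    {t : Y | 1 ≤ CohIII.fiberRank f F j t}ᶜ, ?_, ?_, ?_⟩
  · refine V.isOpen.inter (isOpen_biInter_finset fun j _ => ?_)
    exact (Groth.Agent.LD.TrivLocus.isClosed_le_fiberRank f F hF hfl j 1).isOpen_compl
  · refine ⟨ht₀V, ?_⟩
    simp only [Set.mem_iInter]
    intro j hj h1
    exact (Finset.mem_erase.mp hj).1 ((key t₀ j).mp h1)
  · rintro t ⟨htV, ht⟩
    simp only [Set.mem_iInter] at ht
    by_contra hne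
    have hmem : idx t ∈ (Finset.range (N + 1)).erase (idx t₀) := by
      rw [Finset.mem_erase, Finset.mem_range]
      exact ⟨hne, Nat.lt_succ_of_le (hbound t htV)⟩
    exact ht (idx t) hmem ((key t (idx t)).mpr rfl)

end main

end Groth.Agent.LD.IdxLC
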