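import Mathlib

/-!
# A binomial recurrence (lead)

If `a' : ℕ → A` vanishes below `n`, `a' n = u` and
`Σ_{k=0}^{n+1} (-1)^k binom(n+1,k) a'(e+k) = 0` for all `e`, then `a' t = binom(t, n) u`.
-/

set_option autoImplicit false

namespace Groth.Agent.LD.KRRAlg

open Finset

theorem fwdDiff_choose_zero (n : ℕ) :
    (fwdDiff (1 : ℕ))^[n + 1] (fun x : ℕ => ((x.choose n : ℕ) : ℤ)) = fun _ => 0 := by
  have h0 : (fwdDiff (1 : ℕ))^[n] (fun x : ℕ => ((x.choose n : ℕ) : ℤ)) = fun _ => 1 := by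
    have := fwdDiff_iter_choose 0 n
    simpa using this
  rw [Function.iterate_succ_apply', h0]
  ext x
  simp [fwdDiff]

theorem neg_one_pow_sub {m k : ℕ} (hk : k ≤ m) :
    (-1 : ℤ) ^ (m - k) = (-1) ^ m * (-1) ^ k := by
  have h1 : ((-1 : ℤ) ^ k) * ((-1 : ℤ) ^ k) = 1 := by
    rw [← mul_pow]
    norm_num
  calc (-1 : ℤ) ^ (m - k) = (-1 : ℤ) ^ (m - k) * (((-1 : ℤ) ^ k) * ((-1 : ℤ) ^ k)) := by
        rw [h1, mul_one]
    _ = ((-1 : ℤ) ^ (m - k) * (-1 : ℤ) ^ k) * (-1 : ℤ) ^ k := by ring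
    _ = (-1 : ℤ) ^ m * (-1 : ℤ) ^ k := by rw [← pow_add, Nat.sub_add_cancel hk]

theorem alt_choose_sum (n e : ℕ) :
    ∑ k ∈ range (n + 1 + 1), (-1 : ℤ) ^ k * (((n + 1).choose k : ℤ) * ((e + k).choose n : ℤ)) =
      0 := by
  have h2 := fwdDiff_iter_eq_sum_shift (1 : ℕ) (fun x : ℕ => ((x.choose n : ℕ) : ℤ)) (n + 1) e
  rw [fwdDiff_choose_zero n] at h2
  have h3 : (-1 : ℤ) ^ (n + 1) * ∑ k ∈ range (n + 1 + 1),
      (-1 : ℤ) ^ k * (((n + 1).choose k : ℤ) * ((e + k).choose n : ℤ)) = 0 := by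
    have h2' : ∑ k ∈ range (n + 1 + 1), ((-1 : ℤ) ^ (n + 1 - k) * ((n + 1).choose k : ℤ)) •
        (((e + k • 1).choose n : ℕ) : ℤ) = 0 := h2.symm
    rw [← h2', mul_sum]
    refine sum_congr rfl (fun k hk => ?_)
    have hk' : k ≤ n + 1 := by
      have := mem_range.1 hk
      omega
    rw [neg_one_pow_sub hk']
    simp only [smul_eq_mul, mul_one]
    ring
  rcases neg_one_pow_eq_or ℤ (n + 1) with h | h
  · rw [h, one_mul] at h3
    exact h3
  · rw [h, neg_one_mul, neg_eq_zero] at h3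
    exact h3

theorem solve_rec {A : Type*} [AddCommGroup A] (n : ℕ) (u : A) (a' : ℕ → A)
    (hlow : ∀ t, t < n → a' t = 0) (hn : a' n = u)
    (hrel : ∀ e : ℕ, ∑ k ∈ range (n + 1 + 1),
      (-1 : ℤ) ^ k • ((n + 1).choose k • a' (e + k)) = 0) :
    ∀ t, a' t = t.choose n • u := by
  have hb : ∀ e : ℕ, ∑ k ∈ range (n + 1 + 1),
      (-1 : ℤ) ^ k • ((n + 1).choose k • ((e + k).choose n • u)) = 0 := by
    intro e
    have h := congrArg (fun z : ℤ => z • u) (alt_choose_sum n e)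
    simp only [zero_smul, sum_smul] at h
    rw [← h]
    refine sum_congr rfl (fun k _ => ?_)
    rw [mul_smul, mul_smul, natCast_zsmul, natCast_zsmul]
  intro t
  induction t using Nat.strong_induction_on with
  | _ t ih =>
    rcases lt_trichotomy t n with hlt | heq | hgt
    · rw [hlow t hlt, Nat.choose_eq_zero_of_lt hlt, zero_smul]
    · subst heq
      rw [hn, Nat.choose_self, one_smul]
    · obtain ⟨e, rfl⟩ : ∃ e, t = e + (n + 1) := ⟨t - (n + 1), by omega⟩
      have hdiff : ∑ k ∈ range (n + 1 + 1), (-1 : ℤ) ^ k •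
          ((n + 1).choose k • (a' (e + k) - (e + k).choose n • u)) = 0 := by
        have h1 : ∀ k, (-1 : ℤ) ^ k • ((n + 1).choose k • (a' (e + k) - (e + k).choose n • u)) =
            (-1 : ℤ) ^ k • ((n + 1).choose k • a' (e + k)) -
              (-1 : ℤ) ^ k • ((n + 1).choose k • ((e + k).choose n • u)) :=
          fun k => by rw [smul_sub, smul_sub]
        simp only [h1, sum_sub_distrib, hrel e, hb e, sub_zero]
      have hz : ∑ k ∈ range (n + 1), (-1 : ℤ) ^ k •
          ((n + 1).choose k • (a' (e + k) - (e + k).choose n • u)) = 0 :=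
        sum_eq_zero (fun k hk => by
          have hk' : k < n + 1 := mem_range.1 hk
          rw [ih (e + k) (by omega), sub_self, smul_zero, smul_zero])
      rw [sum_range_succ, hz, zero_add, Nat.choose_self, one_smul] at hdiff
      rcases neg_one_pow_eq_or ℤ (n + 1) with h | h
      · rw [h, one_smul] at hdiff
        exact sub_eq_zero.1 hdiff
      · rw [h, neg_smul, one_smul, neg_eq_zero] at hdiff
        exact sub_eq_zero.1 hdiff

end Groth.Agent.LD.KRRAlg
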