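import Groth.Agent.Lib.Lead.Misc3.KRRPushTw
import Groth.Agent.Lib.Lead.PN.OverChart
import Groth.Agent.Lib.Lead.PN.Finite
import Groth.Agent.Lib.Lead.PN.AmpleSerreRel
import Groth.Agent.Lib.Lead.SC.RPushCover
import Groth.Agent.Lib.Lead.QC.TensorQC
import Groth.Agent.Lib.Lead.QC.TensorPow
import Groth.Agent.Lib.Lead.QC.SubExtRestrict
import Groth.Agent.H4.RT4

/-!
# Large twists of a coherent sheaf on `P^n_Y` are regular (lead)

`Y` Noetherian, `F` coherent on `P^n_Y`, `p : P^n_Y ⟶ Y`.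

* `isZero_RpushAb_of_gt`: `R^i p_* G = 0` for `i > n` and `G` quasi-coherent (the cohomology of
  `P^n_A` vanishes above degree `n`).
* `exists_isZero_RpushAb_tw`: relative Serre vanishing, `R^i p_* F(m) = 0` for `i > 0`, `m ≫ 0`.
* `exists_isRegSheaf_tw`: `F(m)` is regular (Castelnuovo–Mumford) for `m ≫ 0`.
-/

set_option autoImplicit false
universe u

open CategoryTheory CategoryTheory.Limits AlgebraicGeometry Opposite TopologicalSpace

namespace Groth.Agent.LD.KRRGen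

open Groth.Agent.LD.KRRReg Groth.Agent.LD.PN

variable (n : ℕ) (Y : Scheme.{u})

theorem isFinLocFree_twistOver (d : ℤ) : FlatMod.IsFinLocFree (Twist.twistOver n Y d) :=
  Groth.Agent.LD.QC.isFinLocFree_of_isInvertible _
    (Groth.Agent.H2.FlB.isInvertible_twistOver n Y d)

theorem isFinLocFree_twF (d : ℤ) (F : (KRR.PY n Y).Modules) (hF : FlatMod.IsFinLocFree F) :
    FlatMod.IsFinLocFree (KRR.twF n Y d F) :=
  Groth.Agent.H4.RT4.isFinLocFree_tensor _ _ (isFinLocFree_twistOver n Y d) hF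

theorem qc_twF (d : ℤ) (F : (KRR.PY n Y).Modules) [F.IsQuasicoherent] :
    (KRR.twF n Y d F).IsQuasicoherent := by
  haveI : (Twist.twistOver n Y d).IsQuasicoherent :=
    Groth.Agent.LD.QC.qc_of_isInvertible _ (Groth.Agent.H2.FlB.isInvertible_twistOver n Y d)
  exact Groth.Agent.LD.QC.tensorMod_isQuasicoherent (Twist.twistOver n Y d) F

/-- cohomology over the preimage of an affine open `V` of the base is cohomology of the chart
`P^n_{Γ(V)}` (as in helper2's `MReg.nonempty_HH_equiv`). -/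
theorem nonempty_HH_equiv {V : Y.Opens} (hV : IsAffineOpen V)
    (G : (CohB1.ProjSpaceOver n Y).Modules) (p : ℕ) :
    Nonempty (Coh.HH ((CohB1.ProjSpaceOver.toBase n Y) ⁻¹ᵁ V).toScheme
        (G.restrict ((CohB1.ProjSpaceOver.toBase n Y) ⁻¹ᵁ V).ι) p ≃+
      Coh.HH (CohB1.ProjSpace n Γ(Y, V)) (G.restrict (OC.chart n hV.fromSpec)) p) := by
  obtain ⟨e⟩ := Groth.Agent.LD.SC.HH_restrict_equiv (OC.chart n hV.fromSpec) G p
  rw [OC.opensRange_chart, hV.opensRange_fromSpec] at e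
  obtain ⟨e'⟩ := Groth.Agent.LD.SC.HH_restrict_equiv
    ((CohB1.ProjSpaceOver.toBase n Y) ⁻¹ᵁ V).ι G p
  rw [Scheme.Opens.opensRange_ι] at e'
  exact ⟨e'.trans e.symm⟩

/-- the cohomological dimension of `p : P^n_Y ⟶ Y` is at most `n`. -/
theorem isZero_RpushAb_of_gt (G : (KRR.PY n Y).Modules) [G.IsQuasicoherent] (i : ℕ)
    (hi : n < i) : IsZero ((Coh.RpushAb (KRR.pr n Y) i).obj (Coh.toAb G)) := by
  haveI := Groth.Agent.H5.AG.isProper_toBase n Y
  refine Groth.Agent.LD.SC.isZero_RpushAb_of_affine_cover (CohB1.ProjSpaceOver.toBase n Y) G i ?_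
  intro x
  obtain ⟨_, ⟨W, hW0, rfl⟩, hxW, -⟩ := (Scheme.isBasis_affineOpens Y).exists_subset_of_mem_open
    (Set.mem_univ x) isOpen_univ
  have hW : IsAffineOpen W := hW0
  refine ⟨W, hW, hxW, ?_⟩
  obtain ⟨e⟩ := nonempty_HH_equiv n Y hW G i
  have hqc : (G.restrict (OC.chart n hW.fromSpec)).IsQuasicoherent :=
    Groth.Agent.LD.QC.qc_restrict (OC.chart n hW.fromSpec) G
  haveI hs : Subsingleton (Coh.HH (CohB1.ProjSpace n Γ(Y, W))
      (G.restrict (OC.chart n hW.fromSpec)) i) :=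
    @Groth.Agent.LD.PN.subsingleton_HH_of_lt n Γ(Y, W) _ _ hqc i hi
  exact e.toEquiv.subsingleton

/-- relative Serre vanishing for the twists of a coherent module on `P^n_Y`. -/
theorem exists_isZero_RpushAb_tw [IsNoetherian Y] (F : (KRR.PY n Y).Modules)
    (hF : Coh.IsCoh F) :
    ∃ N : ℕ, ∀ m : ℕ, N ≤ m → ∀ p : ℕ, 0 < p →
      IsZero ((Coh.RpushAb (KRR.pr n Y) p).obj (Coh.toAb (KRR.twF n Y (m : ℤ) F))) := by
  haveI := Groth.Agent.H2.FlC.isProper_comp n (𝟙 (CohB1.ProjSpaceOver n Y))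
  have hid : 𝟙 (CohB1.ProjSpaceOver n Y) ≫ CohB1.ProjSpaceOver.toBase n Y =
      CohB1.ProjSpaceOver.toBase n Y := Category.id_comp _
  obtain ⟨N, hN⟩ := Groth.Agent.LD.PN.AmS.relative_serre_vanishing
    (𝟙 (CohB1.ProjSpaceOver n Y) ≫ CohB1.ProjSpaceOver.toBase n Y)
    (Groth.Agent.H2.FlB.LL n (𝟙 (CohB1.ProjSpaceOver n Y)))
    (Groth.Agent.H2.FlB.isInvertible_LL n (𝟙 (CohB1.ProjSpaceOver n Y)))
    (fun W hW => Groth.Agent.H2.FlC.isAmple_restrict_LL n (𝟙 (CohB1.ProjSpaceOver n Y)) W hW)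
    F hF
  refine ⟨N, fun m hm p hp => ?_⟩
  have h := hN m hm p hp
  rw [hid] at h
  obtain ⟨e⟩ := Groth.Agent.H2.FlB.nonempty_twist_iso n (𝟙 (CohB1.ProjSpaceOver n Y)) F m
  exact IsZero.of_iso h ((Coh.RpushAb (KRR.pr n Y) p).mapIso
    ((Tf n Y).mapIso ((Groth.Agent.LD.KRRPush.twFIdIso n Y (m : ℤ) F).symm ≪≫ e)))

/-- **the large twists of a coherent sheaf on `P^n_Y` are regular.** -/
theorem exists_isRegSheaf_tw [IsNoetherian Y] (F : (KRR.PY n Y).Modules) (hF : Coh.IsCoh F) :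
    ∃ m₀ : ℕ, ∀ m : ℕ, m₀ ≤ m → KRR.IsRegSheaf n Y (KRR.twF n Y (m : ℤ) F) := by
  obtain ⟨N, hN⟩ := exists_isZero_RpushAb_tw n Y F hF
  haveI : F.IsQuasicoherent := hF.1
  refine ⟨N + n, fun m hm i hi => ?_⟩
  by_cases hin : i ≤ n
  · have hc : (m : ℤ) + (-(i : ℤ)) = ((m - i : ℕ) : ℤ) := by omega
    have h1 := hN (m - i) (by omega) i (by omega)
    exact IsZero.of_iso h1 ((Coh.RpushAb (KRR.pr n Y) i).mapIso
      ((Tf n Y).mapIso (twIso n Y (-(i : ℤ)) (m : ℤ) ((m - i : ℕ) : ℤ) hc F)))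
  · haveI := qc_twF n Y (m : ℤ) F
    haveI := qc_twF n Y (-(i : ℤ)) (KRR.twF n Y (m : ℤ) F)
    exact isZero_RpushAb_of_gt n Y _ i (by omega)

end Groth.Agent.LD.KRRGen
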