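import Groth.Agent.Lib.Lead.Misc3.KRRGen1
import Groth.Agent.Lib.Lead.Misc3.KRRUnit
import Groth.Agent.Lib.Lead.DF.KNil
import Groth.Agent.Lib.Lead.PN.KoszulCx

/-!
# The Koszul relation in `K(P^n_Y)` (lead)

For `F` finite locally free on `P^n_Y` and `d : ℤ`,
`Σ_{k=0}^{n+1} (-1)^k binom(n+1, k) [F(d+k)] = 0` in `K(P^n_Y)`:
the Koszul complex `0 → O(d) → O(d+1)^{n+1} → ⋯ → O(d+n+1) → 0` of `P^n_ℤ` is exact with finite
locally free kernels, hence stays exact after pulling back to `P^n_Y` and tensoring with `F`.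
-/

set_option autoImplicit false
universe u

open CategoryTheory CategoryTheory.Limits AlgebraicGeometry Opposite TopologicalSpace

namespace Groth.Agent.LD.KRRGen

open Groth.Agent.LD.KRRReg Groth.Agent.LD.PN
open scoped ZeroObject

section K

variable {X : Scheme.{u}}

theorem cl_ses' (S : ShortComplex X.Modules) (hS : S.ShortExact)
    (h₁ : FlatMod.IsFinLocFree S.X₁) (h₂ : FlatMod.IsFinLocFree S.X₂)
    (h₃ : FlatMod.IsFinLocFree S.X₃) :
    KRR.cl X S.X₂ = KRR.cl X S.X₁ + KRR.cl X S.X₃ :=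
  Groth.Agent.H2.KThick.cl_ses (KRR.vbP X) S hS h₁ h₂ h₃

theorem cl_zero' {M : X.Modules} (hM : IsZero M) : KRR.cl X M = 0 := by
  haveI : (KRR.vbP X).IsClosedUnderIsomorphisms :=
    ⟨fun e h => Groth.Agent.H2.FlC.isFinLocFree_of_iso e h⟩
  haveI : (KRR.vbP X).ContainsZero :=
    ⟨⟨(0 : X.Modules), isZero_zero _, Groth.Agent.H4.PSch5.isFinLocFree_of_isZero (isZero_zero _)⟩⟩
  exact Groth.Agent.H2.KThick.cl_zero (KRR.vbP X) hM

/-- the class of the image of a finite direct sum of copies of an invertible module under an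
additive functor preserving finite locally free modules. -/
theorem cl_map_sigma {Z : Scheme.{u}} (Φ : Z.Modules ⥤ X.Modules) [Φ.Additive]
    (hΦ : ∀ M : Z.Modules, FlatMod.IsFinLocFree M → FlatMod.IsFinLocFree (Φ.obj M))
    (T : Z.Modules) (hT : PicF.IsInvertible T) (r : ℕ) :
    KRR.cl X (Φ.obj (∐ fun _ : Fin r => T)) = r • KRR.cl X (Φ.obj T) := by
  have hflf : ∀ r : ℕ, FlatMod.IsFinLocFree (∐ fun _ : Fin r => T) := fun r =>
    Groth.Agent.LD.SC.isFinLocFree_sigma_of_isInvertible T hT r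
  have hT' : FlatMod.IsFinLocFree T := Groth.Agent.LD.QC.isFinLocFree_of_isInvertible T hT
  induction r with
  | zero =>
    rw [zero_smul]
    exact cl_zero' (Φ.map_isZero (Groth.Agent.LD.DF.isZero_sigma_fin_zero T))
  | succ r ih =>
    have e : (∐ fun _ : Fin (r + 1) => T) ≅ T ⊞ (∐ fun _ : Fin r => T) :=
      Groth.Agent.LD.DF.KNil.sigmaSuccIso T r
    have hTQ : FlatMod.IsFinLocFree (T ⊞ (∐ fun _ : Fin r => T)) :=
      Groth.Agent.H2.FlC.isFinLocFree_of_iso e (hflf (r + 1))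
    have h1 : KRR.cl X (Φ.obj (∐ fun _ : Fin (r + 1) => T)) =
        KRR.cl X (Φ.obj (T ⊞ (∐ fun _ : Fin r => T))) :=
      Groth.Agent.LD.KRRUnit.cl_eq_of_iso (Φ.mapIso e) (hΦ _ (hflf (r + 1)))
    have hS : ((ShortComplex.mk (biprod.inl : T ⟶ T ⊞ (∐ fun _ : Fin r => T))
        (biprod.snd : T ⊞ (∐ fun _ : Fin r => T) ⟶ (∐ fun _ : Fin r => T))
        (by simp)).map Φ).ShortExact :=
      ((ShortComplex.Splitting.ofHasBinaryBiproduct T (∐ fun _ : Fin r => T)).map Φ).shortExact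
    have h2 : KRR.cl X (Φ.obj (T ⊞ (∐ fun _ : Fin r => T))) =
        KRR.cl X (Φ.obj T) + KRR.cl X (Φ.obj (∐ fun _ : Fin r => T)) :=
      cl_ses' _ hS (hΦ _ hT') (hΦ _ hTQ) (hΦ _ (hflf r))
    rw [h1, h2, ih, succ_nsmul, add_comm]

theorem telescope {G : Type*} [AddCommGroup G] (a z : ℕ → G)
    (h : ∀ i, a i = z i + z (i + 1)) (m : ℕ) :
    ∑ i ∈ Finset.range (m + 1), (-1 : ℤ) ^ i • a i = z 0 + (-1 : ℤ) ^ m • z (m + 1) := by
  induction m with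
  | zero => simp [h 0]
  | succ m ih =>
    have e1 : ((-1 : ℤ) ^ (m + 1)) = -((-1 : ℤ) ^ m) := by rw [pow_succ, mul_neg_one]
    rw [Finset.sum_range_succ, ih, h (m + 1), e1]
    simp only [neg_smul, smul_add]
    abel

end K

/-- the Koszul complex of `P^n_ℤ` with the facts needed below. -/
theorem exists_koszul_data (n : ℕ) (d : ℤ) :
    ∃ C : CochainComplex (Proj (CohB1.polyGrading n (ULift.{u} ℤ))).Modules ℤ,
      (∀ i : ℕ, i ≤ n + 1 → Nonempty (C.X (i : ℤ) ≅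
        ∐ fun _ : Fin (Nat.choose (n + 1) i) =>
          Twist.twist (CohB1.polyGrading n (ULift.{u} ℤ)) (d + i))) ∧
      (∀ i : ℤ, FlatMod.IsFinLocFree (C.X i)) ∧
      (∀ i : ℤ, -1 ≤ i → FlatMod.IsFinLocFree (kernel (C.d i (i + 1)))) ∧
      (∀ i : ℤ, ∃ (w : kernel.ι (C.d i (i + 1)) ≫
          kernel.lift (C.d (i + 1) (i + 1 + 1)) (C.d i (i + 1)) (C.d_comp_d _ _ _) = 0),
        (ShortComplex.mk _ _ w).ShortExact) ∧
      IsZero (kernel (C.d 0 (0 + 1))) ∧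
      IsZero (C.X ((n + 1 + 1 : ℕ) : ℤ)) := by
  obtain ⟨C, hex, hiso, hzero⟩ := Groth.Agent.LD.PN.exists_koszul_complex n (ULift.{u} ℤ) d
  have hperf : DCoh.IsStrictlyPerfect C := by
    refine ⟨⟨0, (n : ℤ) + 1, hzero⟩, fun i => ?_⟩
    by_cases hi : i < 0 ∨ (n : ℤ) + 1 < i
    · exact Groth.Agent.H4.PSch5.isFinLocFree_of_isZero (hzero i hi)
    · push_neg at hi
      obtain ⟨k, rfl⟩ := Int.eq_ofNat_of_zero_le hi.1
      have hk : k ≤ n + 1 := by omega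
      obtain ⟨φ⟩ := hiso k hk
      exact Groth.Agent.LD.QC.isFinLocFree_of_iso φ.symm
        (Groth.Agent.LD.SC.isFinLocFree_sigma_of_isInvertible _
          (Groth.Agent.LD.PN.isInvertible_twist n (ULift.{u} ℤ) _) _)
  refine ⟨C, hiso, hperf.2, fun i hi => ?_, fun i => ?_, ?_, ?_⟩
  · exact Groth.Agent.H4.PCS6.isFinLocFree_kernel_d C hperf (-1) (fun i _ => hex i) i hi
  · exact ⟨by apply (cancel_mono (kernel.ι (C.d (i + 1) (i + 1 + 1)))).mp; simp,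
      Groth.Agent.LD.PN.shortExact_kernel_lift (C.d i (i + 1)) (C.d (i + 1) (i + 1 + 1))
        (C.d_comp_d _ _ _)
        ((HomologicalComplex.exactAt_iff' C i (i + 1) (i + 1 + 1) (by simp) (by simp)).1
          (hex (i + 1)))⟩
  · have hex0 : (C.sc' (-1) 0 (0 + 1)).Exact :=
      (HomologicalComplex.exactAt_iff' C (-1) 0 (0 + 1) (by simp) (by simp)).1 (hex 0)
    haveI : Mono (C.d 0 (0 + 1)) :=
      hex0.mono_g ((hzero (-1) (Or.inl (by norm_num))).eq_of_src _ _)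
    exact isZero_kernel_of_mono _
  · exact hzero _ (Or.inr (by push_cast; omega))

/-- **the Koszul relation in `K(P^n_Y)`.** -/
theorem koszul_relation (n : ℕ) (Y : Scheme.{u}) (F : (KRR.PY n Y).Modules)
    (hF : FlatMod.IsFinLocFree F) (d : ℤ) :
    ∑ k ∈ Finset.range (n + 1 + 1), (-1 : ℤ) ^ k •
      ((n + 1).choose k • KRR.cl (KRR.PY n Y) (KRR.twF n Y (d + (k : ℤ)) F)) = 0 := by
  obtain ⟨C, hiso, hX, hW, hses, hW0, hz2⟩ := exists_koszul_data.{u} n d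
  have hΨ : ∀ M : (Proj (CohB1.polyGrading n (ULift.{u} ℤ))).Modules, FlatMod.IsFinLocFree M →
      FlatMod.IsFinLocFree ((Groth.Agent.LD.KRRKos.Ψ F).obj M) := fun M hM =>
    Groth.Agent.H4.RT4.isFinLocFree_tensor _ _
      (Groth.Agent.LD.QC.isFinLocFree_pullback (Groth.Agent.LD.KRRKos.qz n Y) M hM) hF
  -- the classes of the terms and of the kernels
  obtain ⟨aa, haa⟩ : ∃ aa : ℕ → SGA6.Kvb (KRR.PY n Y), ∀ i : ℕ, aa i =
      KRR.cl (KRR.PY n Y) ((Groth.Agent.LD.KRRKos.Ψ F).obj (C.X (i : ℤ))) := ⟨_, fun _ => rfl⟩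
  obtain ⟨zz, hzz⟩ : ∃ zz : ℕ → SGA6.Kvb (KRR.PY n Y), ∀ i : ℕ, zz i =
      KRR.cl (KRR.PY n Y) ((Groth.Agent.LD.KRRKos.Ψ F).obj
        (kernel (C.d (i : ℤ) ((i : ℤ) + 1)))) := ⟨_, fun _ => rfl⟩
  have hrel : ∀ i : ℕ, aa i = zz i + zz (i + 1) := by
    intro i
    rw [haa, hzz, hzz]
    obtain ⟨w, hse⟩ := hses (i : ℤ)
    have hA : FlatMod.IsFinLocFree ((Groth.Agent.LD.KRRKos.Ψ F).obj
        (kernel (C.d (i : ℤ) ((i : ℤ) + 1)))) := hΨ _ (hW (i : ℤ) (by omega))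
    have hB : FlatMod.IsFinLocFree ((Groth.Agent.LD.KRRKos.Ψ F).obj (C.X (i : ℤ))) :=
      hΨ _ (hX (i : ℤ))
    have hC : FlatMod.IsFinLocFree ((Groth.Agent.LD.KRRKos.Ψ F).obj
        (kernel (C.d ((i : ℤ) + 1) ((i : ℤ) + 1 + 1)))) := hΨ _ (hW ((i : ℤ) + 1) (by omega))
    have hSE := Groth.Agent.LD.KRRKos.shortExact_map_Ψ F _ hse (hW ((i : ℤ) + 1) (by omega))
    have h1 : KRR.cl (KRR.PY n Y) ((Groth.Agent.LD.KRRKos.Ψ F).obj (C.X (i : ℤ))) =
        KRR.cl (KRR.PY n Y) ((Groth.Agent.LD.KRRKos.Ψ F).obj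
          (kernel (C.d (i : ℤ) ((i : ℤ) + 1)))) +
        KRR.cl (KRR.PY n Y) ((Groth.Agent.LD.KRRKos.Ψ F).obj
          (kernel (C.d ((i : ℤ) + 1) ((i : ℤ) + 1 + 1)))) :=
      cl_ses' _ hSE hA hB hC
    have hc : ((i + 1 : ℕ) : ℤ) = (i : ℤ) + 1 := by push_cast; ring
    rw [hc]
    exact h1
  have htel := telescope aa zz hrel (n + 1)
  have hz0 : zz 0 = 0 := by
    rw [hzz]
    have hc : ((0 : ℕ) : ℤ) = 0 := Nat.cast_zero
    rw [hc]
    exact cl_zero' ((Groth.Agent.LD.KRRKos.Ψ F).map_isZero hW0)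
  have hzlast : zz (n + 1 + 1) = 0 := by
    rw [hzz]
    have hk : IsZero (kernel (C.d ((n + 1 + 1 : ℕ) : ℤ) (((n + 1 + 1 : ℕ) : ℤ) + 1))) :=
      IsZero.of_mono (kernel.ι _) hz2
    exact cl_zero' ((Groth.Agent.LD.KRRKos.Ψ F).map_isZero hk)
  have hterm : ∀ i ∈ Finset.range (n + 1 + 1), aa i =
      (n + 1).choose i • KRR.cl (KRR.PY n Y) (KRR.twF n Y (d + (i : ℤ)) F) := by
    intro i hi
    have hi' : i ≤ n + 1 := by
      have := Finset.mem_range.1 hi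
      omega
    obtain ⟨φ⟩ := hiso i hi'
    rw [haa]
    have hT : PicF.IsInvertible (Twist.twist (CohB1.polyGrading n (ULift.{u} ℤ)) (d + (i : ℤ))) :=
      Groth.Agent.LD.PN.isInvertible_twist n (ULift.{u} ℤ) _
    rw [Groth.Agent.LD.KRRUnit.cl_eq_of_iso ((Groth.Agent.LD.KRRKos.Ψ F).mapIso φ)
      (hΨ _ (hX (i : ℤ)))]
    exact cl_map_sigma (Groth.Agent.LD.KRRKos.Ψ F) hΨ _ hT _
  calc ∑ k ∈ Finset.range (n + 1 + 1), (-1 : ℤ) ^ k •
        ((n + 1).choose k • KRR.cl (KRR.PY n Y) (KRR.twF n Y (d + (k : ℤ)) F))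
      = ∑ k ∈ Finset.range (n + 1 + 1), (-1 : ℤ) ^ k • aa k :=
        Finset.sum_congr rfl (fun k hk => by rw [hterm k hk])
    _ = zz 0 + (-1 : ℤ) ^ (n + 1) • zz (n + 1 + 1) := htel
    _ = 0 := by rw [hz0, hzlast, smul_zero, add_zero]

end Groth.Agent.LD.KRRGen
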