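import Groth.Agent.Lib.Lead.Misc3.KRRGen2
import Groth.Agent.Lib.Lead.DF.KLoc

/-!
# `K(P^n_Y)` is generated by the classes of the regular sheaves (lead)

`Y` Noetherian.  The group `K(P^n_Y)` of finite locally free sheaves is generated by the classes of
the finite locally free sheaves which are regular relative to `p : P^n_Y ⟶ Y`: `F(m)` is regular
for `m ≫ 0`, and the Koszul relation expresses `[F(j)]` through `[F(j+1)], …, [F(j+n+1)]`.
-/

set_option autoImplicit false
universe u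

open CategoryTheory CategoryTheory.Limits AlgebraicGeometry Opposite TopologicalSpace

namespace Groth.Agent.LD.KRRGen

variable (n : ℕ) (Y : Scheme.{u})

/-- the subgroup of `K(P^n_Y)` generated by the classes of the regular finite locally free
sheaves. -/
noncomputable def Rgen : AddSubgroup (SGA6.Kvb (KRR.PY n Y)) :=
  AddSubgroup.closure {x | ∃ G : (KRR.PY n Y).Modules, FlatMod.IsFinLocFree G ∧
    KRR.IsRegSheaf n Y G ∧ x = KRR.cl (KRR.PY n Y) G}

theorem cl_mem_Rgen (G : (KRR.PY n Y).Modules) (hG : FlatMod.IsFinLocFree G)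
    (hreg : KRR.IsRegSheaf n Y G) : KRR.cl (KRR.PY n Y) G ∈ Rgen n Y :=
  AddSubgroup.subset_closure ⟨G, hG, hreg, rfl⟩

theorem cl_tw_mem [IsNoetherian Y] (F : (KRR.PY n Y).Modules) (hF : FlatMod.IsFinLocFree F)
    (j : ℤ) : KRR.cl (KRR.PY n Y) (KRR.twF n Y j F) ∈ Rgen n Y := by
  obtain ⟨m₀, hm₀⟩ := exists_isRegSheaf_tw n Y F
    (Groth.Agent.H4.PSch4.isCoh_of_isFinLocFree F hF)
  have key : ∀ t : ℕ, ∀ j : ℤ, (m₀ : ℤ) - (t : ℤ) ≤ j →
      KRR.cl (KRR.PY n Y) (KRR.twF n Y j F) ∈ Rgen n Y := by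
    intro t
    induction t with
    | zero =>
      intro j hj
      obtain ⟨m, rfl⟩ : ∃ m : ℕ, j = (m : ℤ) :=
        ⟨j.toNat, (Int.toNat_of_nonneg (by omega)).symm⟩
      exact cl_mem_Rgen n Y _ (isFinLocFree_twF n Y _ F hF) (hm₀ m (by omega))
    | succ t ih =>
      intro j hj
      by_cases hj' : (m₀ : ℤ) - (t : ℤ) ≤ j
      · exact ih j hj'
      · obtain ⟨f, hf⟩ : ∃ f : ℕ → SGA6.Kvb (KRR.PY n Y), ∀ k : ℕ, f k =
            (-1 : ℤ) ^ k • ((n + 1).choose k •
              KRR.cl (KRR.PY n Y) (KRR.twF n Y (j + (k : ℤ)) F)) := ⟨_, fun _ => rfl⟩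
        have hrel : ∑ k ∈ Finset.range (n + 1 + 1), f k = 0 :=
          (Finset.sum_congr rfl (fun k _ => hf k)).trans (koszul_relation n Y F hF j)
        rw [Finset.sum_range_succ'] at hrel
        have hf0 : f 0 = KRR.cl (KRR.PY n Y) (KRR.twF n Y j F) := by
          rw [hf 0, pow_zero, one_smul, Nat.choose_zero_right, one_smul, Nat.cast_zero,
            add_zero]
        have h1 : KRR.cl (KRR.PY n Y) (KRR.twF n Y j F) =
            -(∑ k ∈ Finset.range (n + 1), f (k + 1)) := by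
          rw [← hf0]
          exact eq_neg_of_add_eq_zero_right hrel
        rw [h1]
        refine neg_mem (sum_mem (fun k _ => ?_))
        rw [hf (k + 1)]
        refine zsmul_mem (nsmul_mem (ih _ ?_) _) _
        omega
  exact key (m₀ - j).toNat j (by omega)

/-- **`K(P^n_Y)` is generated by the classes of the regular sheaves.** -/
theorem mem_Rgen [IsNoetherian Y] (x : SGA6.Kvb (KRR.PY n Y)) : x ∈ Rgen n Y := by
  refine Groth.Agent.LD.DF.KLoc.mem_of_forall_cl (KRR.vbP (KRR.PY n Y)) (Rgen n Y)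
    (fun F hF => ?_) x
  have h := cl_tw_mem n Y F hF 0
  rwa [Groth.Agent.LD.KRRUnit.cl_eq_of_iso (Groth.Agent.LD.KRRKos.tw0Iso F)
    (isFinLocFree_twF n Y 0 F hF)] at h

end Groth.Agent.LD.KRRGen
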