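import Groth.Agent.Lib.Lead.PN.GlobGen
import Groth.Agent.Lib.Lead.PN.Compact
import Groth.Agent.Lib.Lead.TW.SerreGen
import Groth.Agent.Lib.Lead.QC.AmpleExt
import Groth.Agent.Lib.Lead.QC.InvBasis
import Groth.Agent.Lib.Lead.QC.TensorPow

/-!
# Mumford's theorem for arbitrary quasi-coherent regular modules on `P^n_R` (lead)

`epi_homOfFamily_of_tensorPow`: on a quasi-compact quasi-separated scheme with an invertible module
`L` whose sections `s i` have affine non-vanishing loci covering `X`, a quasi-coherent `G` such that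
all multiplication maps `H^0(G) ⊗ H^0(L^N) ⟶ H^0(G ⊗ L^N)` are surjective is generated by its global
sections (no finiteness assumption: local sections extend after multiplication by a power of `s i`).

`epi_homOfFamily_of_isReg_qc`: an `m`-regular quasi-coherent module `F` on `P^n_R` has `F(m)`
generated by its global sections.
-/

set_option autoImplicit false
universe u
open CategoryTheory Limits AlgebraicGeometry TopologicalSpace Opposite TensorProduct

namespace Groth.Agent.LD.QC
variable {X : Scheme.{u}}

lemma iso_hom_inv_app' {M N : X.Modules} (e : M ≅ N) (U : X.Opens) (t : Γ(N, U)) :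
    e.hom.app U (e.inv.app U t) = t := by
  rw [← ConcreteCategory.comp_apply, ← Scheme.Modules.Hom.comp_app, Iso.inv_hom_id]
  rfl

/-- surjectivity of the multiplication map on global sections is invariant under isomorphisms of
the second factor. -/
lemma surjective_tensorSec_of_iso (G : X.Modules) {L L' : X.Modules} (φ : L ≅ L')
    (h : Function.Surjective (tensorSec G L ⊤)) : Function.Surjective (tensorSec G L' ⊤) := by
  intro t'
  obtain ⟨w, hw⟩ := h ((tensorIso' (Iso.refl G) φ).inv.app ⊤ t')
  have key : ∀ w : Γ(G, ⊤) ⊗[Γ(X, ⊤)] Γ(L, ⊤), ∃ w' : Γ(G, ⊤) ⊗[Γ(X, ⊤)] Γ(L', ⊤),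
      tensorSec G L' ⊤ w' = (tensorIso' (Iso.refl G) φ).hom.app ⊤ (tensorSec G L ⊤ w) := by
    intro w
    induction w using TensorProduct.induction_on with
    | zero => exact ⟨0, by rw [map_zero, map_zero, map_zero]⟩
    | tmul a b =>
      refine ⟨a ⊗ₜ (φ.hom.app ⊤ b), ?_⟩
      rw [← tmul_eq_tensorSec, ← tmul_eq_tensorSec]
      exact (KoszTw.tensorMap_tmul (𝟙 G) φ.hom ⊤ a b).symm
    | add w1 w2 h1 h2 =>
      obtain ⟨a1, e1⟩ := h1
      obtain ⟨a2, e2⟩ := h2
      exact ⟨a1 + a2, by rw [map_add, map_add, map_add, e1, e2]⟩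
  obtain ⟨w', hw'⟩ := key w
  refine ⟨w', ?_⟩
  rw [hw', hw]
  exact iso_hom_inv_app' _ ⊤ t'

/-- **global generation without finiteness**: `L` invertible with sections `s i` whose
non-vanishing loci are affine and cover `X` (quasi-compact, quasi-separated); if all the
multiplication maps `H^0(G) ⊗ H^0(L^N) ⟶ H^0(G ⊗ L^N)` are surjective, the quasi-coherent module
`G` is generated by its global sections. -/
theorem epi_homOfFamily_of_tensorPow [CompactSpace X] [QuasiSeparatedSpace X]
    (G L : X.Modules) [G.IsQuasicoherent] (hL : PicF.IsInvertible L)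
    {ι : Type*} (s : ι → (unitMod X ⟶ L))
    (haff : ∀ i, IsAffineOpen (CohB1.genLocus L (s i)))
    (hcov : ∀ x : X, ∃ i, x ∈ CohB1.genLocus L (s i))
    (hsurj : ∀ N : ℕ, Function.Surjective (tensorSec G (CohB1.tensorPow L N) ⊤)) :
    Epi (homOfFamily G (fun a : Γ(G, ⊤) => a)) := by
  haveI : L.IsQuasicoherent := qc_of_isInvertible L hL
  apply epi_homOfFamily_of_span
  intro x U hxU
  obtain ⟨i, hxi⟩ := hcov x
  have hDaff : IsAffineOpen (CohB1.genLocus L (s i)) := haff i
  obtain ⟨a, haU, hxa⟩ := hDaff.exists_basicOpen_le ⟨x, hxU⟩ hxi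
  refine ⟨X.basicOpen a, haU, hxa, ?_⟩
  have hWD : X.basicOpen a ≤ CohB1.genLocus L (s i) := X.basicOpen_le a
  -- every restriction of a section over `X_{s i}` is in the span
  have step1 : ∀ g₀ : Γ(G, CohB1.genLocus L (s i)),
      G.presheaf.map (homOfLE hWD).op g₀ ∈ Submodule.span Γ(X, X.basicOpen a)
        (Set.range fun b : Γ(G, ⊤) =>
          G.presheaf.map (homOfLE (le_top : X.basicOpen a ≤ ⊤)).op b) := by
    intro g₀
    obtain ⟨N, -, t', ht'⟩ := exists_extension_twist L hL (s i) G g₀
    obtain ⟨w, hw⟩ := hsurj N t'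
    have he : IsBasisOver L (CohB1.genLocus L (s i)) (SecTwist.val (s i) (CohB1.genLocus L (s i))) :=
      (le_genLocus_iff_isBasisOver L (s i) (CohB1.genLocus L (s i))).mp le_rfl
    have hu : IsBasisOver (CohB1.tensorPow L N) (CohB1.genLocus L (s i))
        (secPow (SecTwist.val (s i) (CohB1.genLocus L (s i))) N) := he.secPow N
    have claim : ∀ w : Γ(G, ⊤) ⊗[Γ(X, ⊤)] Γ(CohB1.tensorPow L N, ⊤),
        ∃ g' ∈ Submodule.span Γ(X, CohB1.genLocus L (s i))
          (Set.range fun b : Γ(G, ⊤) =>
            G.presheaf.map (homOfLE (le_top : CohB1.genLocus L (s i) ≤ ⊤)).op b),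
        (CohB1.tensorMod G (CohB1.tensorPow L N)).presheaf.map
          (homOfLE (le_top : CohB1.genLocus L (s i) ≤ ⊤)).op
            (tensorSec G (CohB1.tensorPow L N) ⊤ w) =
          SecTwist.tmul G (CohB1.tensorPow L N) (CohB1.genLocus L (s i)) g'
            (secPow (SecTwist.val (s i) (CohB1.genLocus L (s i))) N) := by
      intro w
      induction w using TensorProduct.induction_on with
      | zero =>
        refine ⟨0, Submodule.zero_mem _, ?_⟩
        rw [map_zero, map_zero]
        exact (tmul_zero_left G _ _ _).symm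
      | tmul c b =>
        obtain ⟨β, hβ⟩ := (hu (CohB1.genLocus L (s i)) le_rfl).2
          ((CohB1.tensorPow L N).presheaf.map
            (homOfLE (le_top : CohB1.genLocus L (s i) ≤ ⊤)).op b)
        have hβ' : β • secPow (SecTwist.val (s i) (CohB1.genLocus L (s i))) N =
            (CohB1.tensorPow L N).presheaf.map
              (homOfLE (le_top : CohB1.genLocus L (s i) ≤ ⊤)).op b := by
          have h2 : β • (CohB1.tensorPow L N).presheaf.map
              (homOfLE (le_refl (CohB1.genLocus L (s i)))).op
              (secPow (SecTwist.val (s i) (CohB1.genLocus L (s i))) N) =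
            (CohB1.tensorPow L N).presheaf.map
              (homOfLE (le_top : CohB1.genLocus L (s i) ≤ ⊤)).op b := hβ
          rw [res_self] at h2
          exact h2
        refine ⟨β • G.presheaf.map (homOfLE (le_top : CohB1.genLocus L (s i) ≤ ⊤)).op c,
          Submodule.smul_mem _ β (Submodule.subset_span ⟨c, rfl⟩), ?_⟩
        rw [← tmul_eq_tensorSec, tmul_res, ← hβ', tmul_smul_right, tmul_smul_left]
      | add w1 w2 h1 h2 =>
        obtain ⟨g1, hg1, e1⟩ := h1
        obtain ⟨g2, hg2, e2⟩ := h2
        refine ⟨g1 + g2, Submodule.add_mem _ hg1 hg2, ?_⟩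
        rw [map_add, map_add, e1, e2]
        exact (tmul_add_left G _ _ g1 g2 _).symm
    obtain ⟨g', hg'S, hg'⟩ := claim w
    rw [hw, ht'] at hg'
    have h1 : SecTwist.twist (s i) N G (CohB1.genLocus L (s i)) g₀ =
        SecTwist.tmul G (CohB1.tensorPow L N) (CohB1.genLocus L (s i)) g₀
          (secPow (SecTwist.val (s i) (CohB1.genLocus L (s i))) N) := by
      rw [← pow_eq_secPow]
      rfl
    rw [h1] at hg'
    have hinj := (bijective_tmul_of_isBasisOver G (CohB1.tensorPow L N) hu
      (CohB1.genLocus L (s i)) le_rfl).1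
    have h2 : g₀ = g' := by
      apply hinj
      change SecTwist.tmul G (CohB1.tensorPow L N) (CohB1.genLocus L (s i)) g₀
          ((CohB1.tensorPow L N).presheaf.map (homOfLE (le_refl (CohB1.genLocus L (s i)))).op
            (secPow (SecTwist.val (s i) (CohB1.genLocus L (s i))) N)) =
        SecTwist.tmul G (CohB1.tensorPow L N) (CohB1.genLocus L (s i)) g'
          ((CohB1.tensorPow L N).presheaf.map (homOfLE (le_refl (CohB1.genLocus L (s i)))).op
            (secPow (SecTwist.val (s i) (CohB1.genLocus L (s i))) N))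
      rw [res_self]
      exact hg'
    rw [h2]
    -- restriction of the span over `D` lands in the span over `W`
    let T : Submodule Γ(X, CohB1.genLocus L (s i)) Γ(G, CohB1.genLocus L (s i)) :=
      { carrier := {g | G.presheaf.map (homOfLE hWD).op g ∈ Submodule.span Γ(X, X.basicOpen a)
          (Set.range fun b : Γ(G, ⊤) =>
            G.presheaf.map (homOfLE (le_top : X.basicOpen a ≤ ⊤)).op b)}
        add_mem' := by
          intro p q hp hq
          simp only [Set.mem_setOf_eq] at hp hq ⊢
          rw [map_add]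
          exact Submodule.add_mem _ hp hq
        zero_mem' := by
          simp only [Set.mem_setOf_eq]
          rw [map_zero]
          exact Submodule.zero_mem _
        smul_mem' := by
          intro c g hg
          simp only [Set.mem_setOf_eq] at hg ⊢
          rw [Scheme.Modules.map_smul]
          exact Submodule.smul_mem _ _ hg }
    have hle : Submodule.span Γ(X, CohB1.genLocus L (s i))
        (Set.range fun b : Γ(G, ⊤) =>
          G.presheaf.map (homOfLE (le_top : CohB1.genLocus L (s i) ≤ ⊤)).op b) ≤ T := by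
      rw [Submodule.span_le]
      rintro _ ⟨b, rfl⟩
      change G.presheaf.map (homOfLE hWD).op
        (G.presheaf.map (homOfLE (le_top : CohB1.genLocus L (s i) ≤ ⊤)).op b) ∈
          Submodule.span Γ(X, X.basicOpen a)
            (Set.range fun b : Γ(G, ⊤) =>
              G.presheaf.map (homOfLE (le_top : X.basicOpen a ≤ ⊤)).op b)
      rw [res_res]
      exact Submodule.subset_span ⟨b, rfl⟩
    exact hle hg'S
  rw [eq_top_iff]
  intro g _
  obtain ⟨k, m, hm⟩ := affine_surj G hDaff a g
  have hu : IsUnit (X.presheaf.map (homOfLE (X.basicOpen_le a)).op a) :=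
    RingedSpace.isUnit_res_basicOpen _ a
  obtain ⟨v, hv⟩ := hu
  have h1 : g = (↑(v⁻¹ ^ k) : Γ(X, X.basicOpen a)) •
      ((X.presheaf.map (homOfLE (X.basicOpen_le a)).op a) ^ k • g) := by
    rw [smul_smul, ← hv, ← Units.val_pow_eq_pow_val, ← Units.val_mul, ← mul_pow,
      inv_mul_cancel, one_pow, Units.val_one, one_smul]
  rw [h1, ← hm]
  exact Submodule.smul_mem _ _ (step1 m)

end Groth.Agent.LD.QC

namespace Groth.Agent.LD.PN

variable (n : ℕ) (R : Type u) [CommRing R]

open Twist TW CH

/-- **Mumford, quasi-coherent case**: if the quasi-coherent module `F` on `P^n_R` is `m`-regular,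
then `F(m)` is generated by its global sections. -/
theorem epi_homOfFamily_of_isReg_qc (F : (Proj (CohB1.polyGrading n R)).Modules)
    [F.IsQuasicoherent] (m : ℤ) (h : IsReg n R F m) :
    Epi (QC.homOfFamily (kG n R F m) (fun a : Γ(kG n R F m, ⊤) => a)) := by
  classical
  haveI : (kG n R F m).IsQuasicoherent := kG_qc n R F m
  have hs1 := X_range_mem n R
  have hs := irrelevant_eq_span n R
  refine QC.epi_homOfFamily_of_tensorPow (kG n R F m) (twist (CohB1.polyGrading n R) 1)
    (isInvertible_twist n R 1)
    (fun i : Fin (n+1) => secOne (MvPolynomial.X i : MvPolynomial (Fin (n+1)) R) (X_mem i))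
    ?_ ?_ ?_
  · intro i
    rw [genLocus_secOne hs1 hs]
    exact Proj.isAffineOpen_basicOpen _ _ (X_mem i) Nat.one_pos
  · intro x
    obtain ⟨f, ⟨i, rfl⟩, hx⟩ := exists_mem_basicOpen_of_span hs x
    refine ⟨i, ?_⟩
    rw [genLocus_secOne hs1 hs]
    exact hx
  · intro N
    obtain ⟨φ⟩ := nonempty_twist_iso_tensorPow hs1 hs N
    exact QC.surjective_tensorSec_of_iso _ φ (mul_surj_all n R F m m le_rfl h N)

end Groth.Agent.LD.PN
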