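import Groth.Agent.Lib.Lead.Misc3.KRRMum1
import Groth.Agent.Lib.Helper2.MRegA
import Groth.Agent.Lib.Lead.Misc2.KRRKos
import Groth.Agent.Lib.Lead.Misc3.KRRGen1

/-!
# Mumford's theorem relative to `p : P^n_T ⟶ T` (lead)

`T` any scheme, `F` quasi-coherent on `P^n_T` and regular relative to `p`.  Then
`p^* p_* F ⟶ F` is an epimorphism (`epi_counit_of_reg`, S19429): over an affine open `W` of `T`
the restriction of `F` to the chart `P^n_{Γ(W)}` is `0`-regular in the absolute sense, hence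
generated by its global sections (`PN.epi_homOfFamily_of_isReg_qc`).
-/

set_option autoImplicit false
set_option linter.style.haveILetI false
universe u

open CategoryTheory CategoryTheory.Limits AlgebraicGeometry Opposite TopologicalSpace

namespace Groth.Agent.LD.KRRMum

open Groth.Agent.LD Groth.Agent.LD.QC Groth.Agent.LD.PN Twist Groth.Agent.H2.MReg
  Groth.Agent.LD.KRRReg

variable (n : ℕ) (T : Scheme.{u})

/-- `O(d) ⊗ F ≅ F ⊗ O(d)`. -/
noncomputable def twFTwIso (d : ℤ) (F : (KRR.PY n T).Modules) :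
    KRR.twF n T d F ≅ tw T n F d :=
  (tensorCommGen F (Twist.twistOver n T d)).symm

variable {n T}

/-- the restriction of a relatively regular quasi-coherent module to a chart is `0`-regular. -/
theorem isReg_QV_of_reg (F : (KRR.PY n T).Modules) [F.IsQuasicoherent]
    (hreg : KRR.IsRegSheaf n T F) {W : T.Opens} (hW : IsAffineOpen W) :
    IsReg n Γ(T, W) (QV n F hW) 0 := by
  haveI := QCQS.hasInjRes (CohB1.ProjSpaceOver n T)
  haveI := Groth.Agent.H5.AG.isProper_toBase n T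
  intro i hi
  have hd : (0 : ℤ) - (i : ℤ) = -(i : ℤ) := zero_sub _
  rw [hd]
  have h0 := hreg i hi
  obtain ⟨e⟩ := RP.nonempty_toAb_Rpush_iso (KRR.pr n T) (KRR.twF n T (-(i : ℤ)) F) i
  have h1 : IsZero ((Coh.Rpush (KRR.pr n T) i).obj (KRR.twF n T (-(i : ℤ)) F)) :=
    RP.isZero_of_isZero_τ _ (IsZero.of_iso h0 e)
  have hz : IsZero ((Coh.Rpush (CohB1.ProjSpaceOver.toBase n T) i).obj (tw T n F (-(i : ℤ)))) :=
    IsZero.of_iso h1 ((Coh.Rpush (KRR.pr n T) i).mapIso (twFTwIso n T (-(i : ℤ)) F).symm)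
  have hinv := Groth.Agent.H2.FlB.isInvertible_twistOver n T (-(i : ℤ))
  haveI : (Twist.twistOver n T (-(i : ℤ))).IsQuasicoherent := qc_of_isInvertible _ hinv
  haveI : (tw T n F (-(i : ℤ))).IsQuasicoherent := tensorMod_isQuasicoherent _ _
  have h2 := AmS.subsingleton_HH_preimage_of_isZero_Rpush (CohB1.ProjSpaceOver.toBase n T)
    (tw T n F (-(i : ℤ))) i hz W hW
  exact subsingleton_chart_of_preimage n F hW (-(i : ℤ)) i h2

/-- `F(0) ≅ F` on projective space over a ring. -/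
noncomputable def kGZeroIso (R : Type u) [CommRing R] (G : (Proj (CohB1.polyGrading n R)).Modules) :
    kG n R G 0 ≅ G :=
  tensorIso' (Iso.refl G) (TW.twistZeroIso (CohB1.polyGrading n R)) ≪≫ SecTwist.unitorR G

/-- **S19429**: for a quasi-coherent module `F` on `P^n_T` regular relative to `p`, the counit
`p^* p_* F ⟶ F` is an epimorphism. -/
theorem epi_counit_of_reg (F : (KRR.PY n T).Modules) [F.IsQuasicoherent]
    (hreg : KRR.IsRegSheaf n T F) :
    Epi ((Scheme.Modules.pullbackPushforwardAdjunction (KRR.pr n T)).counit.app F) := by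
  apply epi_counit_of_local_epi_free
  intro x
  obtain ⟨W, hW, hxW⟩ : ∃ W : T.Opens, IsAffineOpen W ∧
      (CohB1.ProjSpaceOver.toBase n T) x ∈ W := by
    obtain ⟨_, ⟨W, hW, rfl⟩, hxW, -⟩ := (Scheme.isBasis_affineOpens T).exists_subset_of_mem_open
      (Set.mem_univ ((CohB1.ProjSpaceOver.toBase n T) x)) isOpen_univ
    exact ⟨W, hW, hxW⟩
  refine ⟨W, hxW, ?_⟩
  haveI : (QV n F hW).IsQuasicoherent := qc_restrict (OC.chart n hW.fromSpec) F
  have h0 := isReg_QV_of_reg F hreg hW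
  have hepi := epi_homOfFamily_of_isReg_qc n Γ(T, W) (QV n F hW) 0 h0
  have he2 : Epi (kGZeroIso Γ(T, W) (QV n F hW)).hom :=
    ⟨fun g g' w => (Iso.cancel_iso_hom_left (kGZeroIso Γ(T, W) (QV n F hW)) g g').1 w⟩
  have hepi2 : Epi (homOfFamily (kG n Γ(T, W) (QV n F hW) 0)
      (fun a : Γ(kG n Γ(T, W) (QV n F hW) 0, ⊤) => a) ≫
        (kGZeroIso Γ(T, W) (QV n F hW)).hom) :=
    epi_comp' hepi he2
  have key : ∃ (K : Type u) (p : (SheafOfModules.free K : (CohB1.ProjSpace n Γ(T, W)).Modules) ⟶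
      F.restrict (OC.chart n hW.fromSpec)), Epi p := ⟨_, _, hepi2⟩
  obtain ⟨K, p, hp⟩ := key
  refine exists_epi_free_restrict_of_range_le F (OC.chart n hW.fromSpec)
    ((CohB1.ProjSpaceOver.toBase n T) ⁻¹ᵁ W) ?_ K p hp
  intro y hy
  rw [OC.range_chart, hW.range_fromSpec]
  exact hy

end Groth.Agent.LD.KRRMum
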