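import Groth.Agent.Lib.Lead.Misc3.KRRMum2
import Groth.Agent.Lib.Lead.Misc2.KRRReg3
import Groth.Agent.Lib.Lead.PN.RegRes
import Groth.Agent.Lib.Lead.QC.SerreSupp
import Groth.Agent.Lib.Lead.QC.LocFree2
import Groth.Agent.H4.ProjSmooth
import Groth.Agent.H4.FlatPull1
import Groth.Agent.H4.FlatPull2
import Groth.Agent.H4.GenSec
import Groth.Agent.H4.PSch4
import Groth.Agent.S0036

/-!
# Pullbacks from the base are regular; the kernel of the counit (lead)

* `subsingleton_HH_pullback_twist`: `H^i(P^n_R, π^*N ⊗ O(d)) = 0` for `i ≥ 1`, `d ≥ -i`, `N`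
  coherent on `Spec R`, `R` Noetherian (descending induction on `i`, free presentations of `N`,
  flatness of `π`).
* `isRegSheaf_pullback`: for `Y` Noetherian and `M` coherent on `Y`, `p^* M` is regular relative to
  `p : P^n_Y ⟶ Y`.
* `main` (**S3755**): for `F` coherent and regular on `P^n_Y`, `p^* p_* F ⟶ F` is an epimorphism
  and its kernel `Z` has `Z(1)` regular.
-/

set_option autoImplicit false
set_option linter.style.haveILetI false
universe u

open CategoryTheory CategoryTheory.Limits AlgebraicGeometry Opposite TopologicalSpace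

namespace Groth.Agent.LD.KRRMum

open Groth.Agent.LD Groth.Agent.LD.QC Groth.Agent.LD.PN Twist Groth.Agent.H2.MReg
  Groth.Agent.LD.KRRReg

section affine

variable (n : ℕ) (R : Type u) [CommRing R]

/-- the structure morphism `P^n_R ⟶ Spec R`, with source written as `Proj`. -/
noncomputable abbrev πR : Proj (CohB1.polyGrading n R) ⟶ Spec (CommRingCat.of R) :=
  CohB1.ProjSpace.toSpec n R

lemma qc_pullback_twist (N : (Spec (CommRingCat.of R)).Modules) [N.IsQuasicoherent] (d : ℤ) :
    (CohB1.tensorMod ((Scheme.Modules.pullback (πR n R)).obj N)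
      (twist (CohB1.polyGrading n R) d)).IsQuasicoherent := by
  haveI : ((Scheme.Modules.pullback (πR n R)).obj N).IsQuasicoherent := qc_pullback (πR n R) N
  haveI := qc_twist n R d
  exact tensorMod_isQuasicoherent _ _

/-- `H^i(P^n_R, π^*N(d)) = 0` for `i ≥ 1`, `d ≥ -i` and `N` coherent on `Spec R`. -/
theorem subsingleton_HH_pullback_twist [IsNoetherianRing R] :
    ∀ (k i : ℕ), n + 1 ≤ i + k → 1 ≤ i → ∀ (N : (Spec (CommRingCat.of R)).Modules),
      Coh.IsCoh N → ∀ d : ℤ, -(i : ℤ) ≤ d →
      Subsingleton (Coh.HH (Proj (CohB1.polyGrading n R))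
        (CohB1.tensorMod ((Scheme.Modules.pullback (πR n R)).obj N)
          (twist (CohB1.polyGrading n R) d)) i) := by
  intro k
  induction k with
  | zero =>
    intro i hik hi N hN d hd
    haveI : N.IsQuasicoherent := hN.1
    haveI := qc_pullback_twist n R N d
    exact subsingleton_HH_of_lt n R _ i (by omega)
  | succ k ih =>
    intro i hik hi N hN d hd
    haveI : N.IsQuasicoherent := hN.1
    by_cases hni : n < i
    · haveI := qc_pullback_twist n R N d
      exact subsingleton_HH_of_lt n R _ i hni
    · haveI : Module.Finite Γ(Spec (CommRingCat.of R), ⊤) Γ(N, ⊤) :=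
        finite_sections_of_isFiniteType N hN.2 (isAffineOpen_top _)
      obtain ⟨b, t, ht⟩ := Module.Finite.exists_fin (R := Γ(Spec (CommRingCat.of R), ⊤))
        (M := Γ(N, ⊤))
      have hψ : Epi (homOfSections N t) :=
        Groth.Agent.H4.GenSec.epi_homOfSections_of_isAffine N t ht
      have hfree : Coh.IsCoh (freeMod (Spec (CommRingCat.of R)) b) :=
        Groth.Agent.H4.PSch4.isCoh_of_isFinLocFree _ (isFinLocFree_freeMod _ b)
      have hK : Coh.IsCoh (kernel (homOfSections N t)) :=
        Groth.Agent.LD.QC.isCoh_kernel (homOfSections N t) hfree hN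
      have hS : (ShortComplex.mk (kernel.ι (homOfSections N t)) (homOfSections N t)
          (kernel.condition (homOfSections N t))).ShortExact :=
        { exact := ShortComplex.exact_of_f_is_kernel _ (kernelIsKernel (homOfSections N t))
          mono_f := inferInstanceAs (Mono (kernel.ι (homOfSections N t)))
          epi_g := hψ }
      haveI : Smooth (πR n R) := Groth.Agent.H4.ProjSmooth.smooth_toSpec n R
      haveI : Flat (πR n R) := inferInstance
      haveI := Groth.Agent.H4.FlatPull1.preservesFiniteLimits_pullback_of_flat (πR n R)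
      haveI : PreservesFiniteColimits (Scheme.Modules.pullback (πR n R)) := by
        haveI : PreservesColimitsOfSize.{0, 0} (Scheme.Modules.pullback (πR n R)) :=
          (Scheme.Modules.pullbackPushforwardAdjunction (πR n R)).leftAdjoint_preservesColimits
        exact PreservesColimitsOfSize.preservesFiniteColimits.{0, 0} _
      have hS' := hS.map_of_exact (Scheme.Modules.pullback (πR n R))
      have hT := QC.shortExact_tensorMap_of_isInvertible hS' (twist (CohB1.polyGrading n R) d)
        (isInvertible_twist n R d)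
      have h2 : Subsingleton (Coh.HH (Proj (CohB1.polyGrading n R))
          (CohB1.tensorMod ((Scheme.Modules.pullback (πR n R)).obj
            (freeMod (Spec (CommRingCat.of R)) b)) (twist (CohB1.polyGrading n R) d)) i) :=
        CL.subsingleton_of_iso
          (tensorIso' (pullbackFreeModIso (πR n R) b) (Iso.refl _)).symm i
          (subsingleton_HH_free_twist n R b d i hi hd)
      have h1 : Subsingleton (Coh.HH (Proj (CohB1.polyGrading n R))
          (CohB1.tensorMod ((Scheme.Modules.pullback (πR n R)).obj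
            (kernel (homOfSections N t))) (twist (CohB1.polyGrading n R) d)) (i + 1)) :=
        ih (i + 1) (by omega) (by omega) (kernel (homOfSections N t)) hK d (by push_cast; omega)
      exact CL.subsingleton_right hT i h2 h1

end affine

section rel

variable (n : ℕ) (Y : Scheme.{u})

/-- the restriction to a chart of a module pulled back from the base is pulled back from the
affine base of the chart. -/
noncomputable def chartPullIso {W : Y.Opens} (hW : IsAffineOpen W) (M : Y.Modules) :
    QV n ((Scheme.Modules.pullback (CohB1.ProjSpaceOver.toBase n Y)).obj M) hW ≅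
      (Scheme.Modules.pullback (πR n Γ(Y, W))).obj
        ((Scheme.Modules.pullback hW.fromSpec).obj M) :=
  show (((Scheme.Modules.pullback (CohB1.ProjSpaceOver.toBase n Y)).obj M).restrict
      (OC.chart n hW.fromSpec) ≅
    (Scheme.Modules.pullback (CohB1.ProjSpace.toSpec n Γ(Y, W))).obj
      ((Scheme.Modules.pullback hW.fromSpec).obj M)) from
  (Scheme.Modules.restrictFunctorIsoPullback (OC.chart n hW.fromSpec)).app _ ≪≫
    (Scheme.Modules.pullbackComp (OC.chart n hW.fromSpec)
      (CohB1.ProjSpaceOver.toBase n Y)).app M ≪≫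
    (Scheme.Modules.pullbackCongr (OC.chart_toBase n hW.fromSpec)).app M ≪≫
    ((Scheme.Modules.pullbackComp (CohB1.ProjSpace.toSpec n Γ(Y, W)) hW.fromSpec).app M).symm

/-- **pullbacks from the base are regular** (`Y` Noetherian, `M` coherent). -/
theorem isRegSheaf_pullback [IsNoetherian Y] (M : Y.Modules) (hM : Coh.IsCoh M) :
    KRR.IsRegSheaf n Y ((Scheme.Modules.pullback (KRR.pr n Y)).obj M) := by
  haveI := Groth.Agent.H5.AG.isProper_toBase n Y
  haveI : M.IsQuasicoherent := hM.1
  haveI : ((Scheme.Modules.pullback (KRR.pr n Y)).obj M).IsQuasicoherent :=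
    qc_pullback (KRR.pr n Y) M
  intro i hi
  have hinv := Groth.Agent.H2.FlB.isInvertible_twistOver n Y (-(i : ℤ))
  haveI : (Twist.twistOver n Y (-(i : ℤ))).IsQuasicoherent := qc_of_isInvertible _ hinv
  haveI : (tw Y n ((Scheme.Modules.pullback (KRR.pr n Y)).obj M) (-(i : ℤ))).IsQuasicoherent :=
    tensorMod_isQuasicoherent _ _
  have h1 : IsZero ((Coh.RpushAb (CohB1.ProjSpaceOver.toBase n Y) i).obj
      (Coh.toAb (tw Y n ((Scheme.Modules.pullback (KRR.pr n Y)).obj M) (-(i : ℤ))))) := by
    refine SC.isZero_RpushAb_of_affine_cover (CohB1.ProjSpaceOver.toBase n Y) _ i ?_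
    intro x
    obtain ⟨_, ⟨W, hW0, rfl⟩, hxW, -⟩ := (Scheme.isBasis_affineOpens Y).exists_subset_of_mem_open
      (Set.mem_univ x) isOpen_univ
    have hW : IsAffineOpen W := hW0
    refine ⟨W, hW, hxW, ?_⟩
    haveI : IsNoetherianRing Γ(Y, W) := IsLocallyNoetherian.component_noetherian ⟨W, hW⟩
    apply subsingleton_preimage_of_chart n _ hW (-(i : ℤ)) i
    have hN : Coh.IsCoh ((Scheme.Modules.pullback hW.fromSpec).obj M) :=
      Groth.Agent.H4.FlatPull2.isCoh_pullback _ M hM
    have h2 := subsingleton_HH_pullback_twist n Γ(Y, W) (n + 1) i (by omega) hi _ hN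
      (-(i : ℤ)) le_rfl
    exact CL.subsingleton_of_iso
      (tensorIso' (chartPullIso n Y hW M) (Iso.refl _)).symm i h2
  exact IsZero.of_iso h1 ((Coh.RpushAb (KRR.pr n Y) i).mapIso
    ((Tf n Y).mapIso (twFTwIso n Y (-(i : ℤ)) _)))

/-- **S3755**. -/
theorem main [IsNoetherian Y] (F : (KRR.PY n Y).Modules) (hF : Coh.IsCoh F)
    (hreg : KRR.IsRegSheaf n Y F) :
    Epi ((Scheme.Modules.pullbackPushforwardAdjunction (KRR.pr n Y)).counit.app F) ∧
    KRR.IsRegSheaf n Y (KRR.twF n Y 1
      (kernel ((Scheme.Modules.pullbackPushforwardAdjunction (KRR.pr n Y)).counit.app F))) := by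
  haveI : F.IsQuasicoherent := hF.1
  have hepi := epi_counit_of_reg F hreg
  refine ⟨hepi, ?_⟩
  have hS : (ShortComplex.mk
      (kernel.ι ((Scheme.Modules.pullbackPushforwardAdjunction (KRR.pr n Y)).counit.app F))
      ((Scheme.Modules.pullbackPushforwardAdjunction (KRR.pr n Y)).counit.app F)
      (kernel.condition _)).ShortExact :=
    { exact := ShortComplex.exact_of_f_is_kernel _ (kernelIsKernel _)
      mono_f := inferInstanceAs (Mono (kernel.ι _))
      epi_g := hepi }
  haveI := QCQS.hasInjRes (CohB1.ProjSpaceOver n Y)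
  haveI := Groth.Agent.H5.AG.isProper_toBase n Y
  have hM : Coh.IsCoh ((Scheme.Modules.pushforward (KRR.pr n Y)).obj F) := by
    haveI : PreservesLimitsOfSize.{0, 0} (Scheme.Modules.pushforward (KRR.pr n Y)) :=
      (Scheme.Modules.pullbackPushforwardAdjunction (KRR.pr n Y)).rightAdjoint_preservesLimits
    haveI : PreservesFiniteLimits (Scheme.Modules.pushforward (KRR.pr n Y)) :=
      PreservesLimitsOfSize.preservesFiniteLimits.{0, 0} _
    exact Groth.Agent.LD.QC.isCoh_of_iso
      ((Functor.rightDerivedZeroIsoSelf (Scheme.Modules.pushforward (KRR.pr n Y))).app F)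
      (Groth.Agent.S0036.result (KRR.pr n Y) F hF 0)
  have hreg2 : KRR.IsRegSheaf n Y (KRR.twF n Y 1 ((Scheme.Modules.pullback (KRR.pr n Y)).obj
      ((Scheme.Modules.pushforward (KRR.pr n Y)).obj F))) :=
    Groth.Agent.LD.KRRKos.isRegSheaf_tw_one _ (isRegSheaf_pullback n Y _ hM)
  have hsplit : Epi ((Scheme.Modules.pushforward (KRR.pr n Y)).map
      ((Scheme.Modules.pullbackPushforwardAdjunction (KRR.pr n Y)).counit.app F)) := by
    have h := (Scheme.Modules.pullbackPushforwardAdjunction (KRR.pr n Y)).right_triangle_components F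
    exact epi_of_epi_fac h
  have h3 := isRegSheaf_tw_X₁ _ hS hreg2 hreg hsplit
  exact h3

end rel

end Groth.Agent.LD.KRRMum
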