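import Groth.Agent.Lib.Lead.Misc3.KRRGen3
import Groth.Agent.Lib.Lead.QC.ProjFormulaLF
import Groth.Agent.Lib.Lead.QC.InvInverse
import Groth.Agent.Lib.Lead.RP.Compare2
import Groth.Agent.Lib.Lead.RP.LemmaA

/-!
# The projection formula for `p_K : K(P^n_Y) → K(Y)` (S3762) (lead)

`Y` Noetherian, `p : P^n_Y ⟶ Y`.  For `F` regular finite locally free on `P^n_Y` and `E` finite
locally free on `Y`, `p^*E ⊗ F` is again regular (projection formula for the higher direct
images) and `p_*(p^*E ⊗ F) ≅ E ⊗ p_*F`; so `p_K(x · p^K y) = p_K(x) · y` for `x = [F]`, `y = [E]`.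
The classes of the regular sheaves generate `K(P^n_Y)` (`KRRGen.mem_Rgen`), which gives the
formula for all `x`, `y`.
-/

set_option autoImplicit false
universe u

open CategoryTheory CategoryTheory.Limits AlgebraicGeometry Opposite TopologicalSpace

namespace Groth.Agent.LD.KRRProj

open Groth.Agent.LD.KRRReg Groth.Agent.LD.KRRGen

variable (n : ℕ) (Y : Scheme.{u})

/-- `(E' ⊗ F)(d) ≅ E' ⊗ F(d)`. -/
noncomputable def twFSwapIso (d : ℤ) (E' F : (KRR.PY n Y).Modules) :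
    KRR.twF n Y d (((DCoh.tensorBi (X := KRR.PY n Y)).obj E').obj F) ≅
      ((DCoh.tensorBi (X := KRR.PY n Y)).obj E').obj (KRR.twF n Y d F) :=
  show ((DCoh.tensorBi (X := KRR.PY n Y)).obj (Twist.twistOver n Y d)).obj
      (((DCoh.tensorBi (X := KRR.PY n Y)).obj E').obj F) ≅
    ((DCoh.tensorBi (X := KRR.PY n Y)).obj E').obj
      (((DCoh.tensorBi (X := KRR.PY n Y)).obj (Twist.twistOver n Y d)).obj F) from
  assocIso (Twist.twistOver n Y d) E' F ≪≫
    ((DCoh.tensorBi (X := KRR.PY n Y)).mapIso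
      (Groth.Agent.LD.QC.tensorCommGen E' (Twist.twistOver n Y d))).app F ≪≫
    (assocIso E' (Twist.twistOver n Y d) F).symm

/-- `p^*E ⊗ F` is regular for `F` regular and `E` finite locally free on the base. -/
theorem isRegSheaf_tensor_pullback (F : (KRR.PY n Y).Modules) (hreg : KRR.IsRegSheaf n Y F)
    (E : Y.Modules) (hE : FlatMod.IsFinLocFree E) :
    KRR.IsRegSheaf n Y (((DCoh.tensorBi (X := KRR.PY n Y)).obj
      ((Scheme.Modules.pullback (KRR.pr n Y)).obj E)).obj F) := by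
  haveI := Groth.Agent.LD.QCQS.hasInjRes (CohB1.ProjSpaceOver n Y)
  intro i hi
  have h1 : IsZero ((Coh.Rpush (KRR.pr n Y) i).obj (KRR.twF n Y (-(i : ℤ)) F)) := by
    obtain ⟨e⟩ := Groth.Agent.LD.RP.nonempty_toAb_Rpush_iso (KRR.pr n Y)
      (KRR.twF n Y (-(i : ℤ)) F) i
    exact Groth.Agent.LD.RP.isZero_of_isZero_τ _ (IsZero.of_iso (hreg i hi) e)
  obtain ⟨e2⟩ := Groth.Agent.LD.QC.nonempty_tensor_Rpush_iso (KRR.pr n Y)
    (KRR.twF n Y (-(i : ℤ)) F) E hE i
  have h2 : IsZero (CohB1.tensorMod E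
      (((Scheme.Modules.pushforward (KRR.pr n Y)).rightDerived i).obj
        (KRR.twF n Y (-(i : ℤ)) F))) :=
    ((DCoh.tensorBi (X := Y)).obj E).map_isZero h1
  have h3 : IsZero (((Scheme.Modules.pushforward (KRR.pr n Y)).rightDerived i).obj
      (CohB1.tensorMod ((Scheme.Modules.pullback (KRR.pr n Y)).obj E)
        (KRR.twF n Y (-(i : ℤ)) F))) :=
    IsZero.of_iso h2 e2.symm
  obtain ⟨e3⟩ := Groth.Agent.LD.RP.nonempty_toAb_Rpush_iso (KRR.pr n Y)
    (CohB1.tensorMod ((Scheme.Modules.pullback (KRR.pr n Y)).obj E)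
      (KRR.twF n Y (-(i : ℤ)) F)) i
  have h4 : IsZero ((Coh.RpushAb (KRR.pr n Y) i).obj
      ((Groth.Agent.LD.RP.τ (KRR.PY n Y)).obj
        (CohB1.tensorMod ((Scheme.Modules.pullback (KRR.pr n Y)).obj E)
          (KRR.twF n Y (-(i : ℤ)) F)))) :=
    IsZero.of_iso ((Groth.Agent.LD.RP.τ Y).map_isZero h3) e3.symm
  exact IsZero.of_iso h4 ((Coh.RpushAb (KRR.pr n Y) i).mapIso
    ((Tf n Y).mapIso (twFSwapIso n Y (-(i : ℤ)) _ F)))

section Main

variable {n Y}
variable [IsNoetherian Y]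
  {KP : Type*} [CommRing KP] [LambdaRing.LambdaOps KP] {PP : LambdaRing.PosStructure KP}
  {φP : SGA6.Kvb (KRR.PY n Y) →+ KP} (hKP : KRR.IsModel (KRR.PY n Y) KP PP φP)
  {KY : Type*} [CommRing KY] [LambdaRing.LambdaOps KY] {PY : LambdaRing.PosStructure KY}
  {φY : SGA6.Kvb Y →+ KY} (hKY : KRR.IsModel Y KY PY φY)
  {g : KP →+ KY} (hg : KRR.IsPushPr n Y φP φY g) {q : KY →+ KP}
  (hq : KRR.IsPull (KRR.pr n Y) φY φP q)

include hKP hKY hg hq

/-- the projection formula on the classes of a regular sheaf and of a bundle on the base. -/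
theorem stepA (F : (KRR.PY n Y).Modules) (hF : FlatMod.IsFinLocFree F)
    (hreg : KRR.IsRegSheaf n Y F) (E : Y.Modules) (hE : FlatMod.IsFinLocFree E) :
    g (φP (KRR.cl (KRR.PY n Y) F) * q (φY (KRR.cl Y E))) =
      g (φP (KRR.cl (KRR.PY n Y) F)) * φY (KRR.cl Y E) := by
  have hE' : FlatMod.IsFinLocFree ((Scheme.Modules.pullback (KRR.pr n Y)).obj E) :=
    Groth.Agent.LD.QC.isFinLocFree_pullback (KRR.pr n Y) E hE
  have hT : FlatMod.IsFinLocFree (((DCoh.tensorBi (X := KRR.PY n Y)).obj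
      ((Scheme.Modules.pullback (KRR.pr n Y)).obj E)).obj F) :=
    Groth.Agent.H4.RT4.isFinLocFree_tensor _ _ hE' hF
  have hTreg := isRegSheaf_tensor_pullback n Y F hreg E hE
  have hpF : FlatMod.IsFinLocFree ((Scheme.Modules.pushforward (KRR.pr n Y)).obj F) :=
    Groth.Agent.LD.KRRPush.isFinLocFree_push_of_reg n Y F hF hreg
  have hEpF : FlatMod.IsFinLocFree (((DCoh.tensorBi (X := Y)).obj E).obj
      ((Scheme.Modules.pushforward (KRR.pr n Y)).obj F)) :=
    Groth.Agent.H4.RT4.isFinLocFree_tensor _ _ hE hpF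
  haveI := Groth.Agent.LD.QC.isIso_projHomL (KRR.pr n Y) F E hE
  have eiso : CohB1.tensorMod E ((Scheme.Modules.pushforward (KRR.pr n Y)).obj F) ≅
      (Scheme.Modules.pushforward (KRR.pr n Y)).obj
        (CohB1.tensorMod ((Scheme.Modules.pullback (KRR.pr n Y)).obj E) F) :=
    asIso (Groth.Agent.LD.QC.projHomL (KRR.pr n Y) F E)
  have hiso : KRR.cl Y (((DCoh.tensorBi (X := Y)).obj E).obj
      ((Scheme.Modules.pushforward (KRR.pr n Y)).obj F)) =
      KRR.cl Y ((Scheme.Modules.pushforward (KRR.pr n Y)).obj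
        (((DCoh.tensorBi (X := KRR.PY n Y)).obj
          ((Scheme.Modules.pullback (KRR.pr n Y)).obj E)).obj F)) :=
    Groth.Agent.LD.KRRUnit.cl_eq_of_iso eiso hEpF
  calc g (φP (KRR.cl (KRR.PY n Y) F) * q (φY (KRR.cl Y E)))
      = g (φP (KRR.cl (KRR.PY n Y) (((DCoh.tensorBi (X := KRR.PY n Y)).obj
          ((Scheme.Modules.pullback (KRR.pr n Y)).obj E)).obj F))) := by
        rw [hq E hE, mul_comm, hKP.map_mul _ _ hE' hF]
    _ = φY (KRR.cl Y ((Scheme.Modules.pushforward (KRR.pr n Y)).obj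
          (((DCoh.tensorBi (X := KRR.PY n Y)).obj
            ((Scheme.Modules.pullback (KRR.pr n Y)).obj E)).obj F))) := hg _ hT hTreg
    _ = φY (KRR.cl Y (((DCoh.tensorBi (X := Y)).obj E).obj
          ((Scheme.Modules.pushforward (KRR.pr n Y)).obj F))) := by rw [hiso]
    _ = φY (KRR.cl Y E) * φY (KRR.cl Y ((Scheme.Modules.pushforward (KRR.pr n Y)).obj F)) :=
        (hKY.map_mul _ _ hE hpF).symm
    _ = g (φP (KRR.cl (KRR.PY n Y) F)) * φY (KRR.cl Y E) := by
        rw [hg F hF hreg, mul_comm]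

/-- **S3762**: the projection formula `p_K(x · p^K y) = p_K(x) · y`. -/
theorem main (x : KP) (y : KY) : g (x * q y) = g x * y := by
  have hB : ∀ (E : Y.Modules), FlatMod.IsFinLocFree E → ∀ x : KP,
      g (x * q (φY (KRR.cl Y E))) = g x * φY (KRR.cl Y E) := by
    intro E hE x
    obtain ⟨x', rfl⟩ := hKP.bijective.2 x
    have hS : Rgen n Y ≤ AddMonoidHom.eqLocus
        ((g.comp (AddMonoidHom.mulRight (q (φY (KRR.cl Y E))))).comp φP)
        (((AddMonoidHom.mulRight (φY (KRR.cl Y E))).comp g).comp φP) := by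
      unfold Rgen
      rw [AddSubgroup.closure_le]
      rintro _ ⟨G, hG, hGreg, rfl⟩
      exact stepA hKP hKY hg hq G hG hGreg E hE
    exact hS (mem_Rgen n Y x')
  obtain ⟨y', rfl⟩ := hKY.bijective.2 y
  have hy : y' ∈ AddMonoidHom.eqLocus (((g.comp (AddMonoidHom.mulLeft x)).comp q).comp φY)
      ((AddMonoidHom.mulLeft (g x)).comp φY) :=
    Groth.Agent.LD.DF.KLoc.mem_of_forall_cl (KRR.vbP Y) _ (fun E hE => hB E hE x) y'
  exact hy

end Main

end Groth.Agent.LD.KRRProj
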