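import Groth.Agent.S2390
import Groth.Agent.Lib.Lead.Misc2.KRRKos
import Groth.Agent.Lib.Lead.RP.Compare2
import Groth.Agent.Lib.Lead.RP.LemmaA
import Groth.Agent.Lib.Lead.QCQS.Base
import Groth.Agent.Lib.Helper5.AG.ProjProper
import Groth.Agent.H4.PSch4
import Groth.Agent.H4.PSch7
import Groth.Agent.H4.ProjSmooth

/-!
# Direct images of regular finite locally free sheaves on `P^n_Y` (lead)

`Y` Noetherian, `F` finite locally free on `P^n_Y`, regular relative to `p : P^n_Y ⟶ Y`.  Then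
`R^i p_* F = 0` for `i ≥ 1` (Mumford, `KRRKos.isZero_RpushAb`), `F` is flat over `Y` (`p` is
smooth, hence flat), so Grauert's theorem in the form S2390 gives that `p_* F` is finite locally
free.
-/

set_option autoImplicit false
universe u

open CategoryTheory CategoryTheory.Limits AlgebraicGeometry Opposite TopologicalSpace

namespace Groth.Agent.LD.KRRPush

/-- a finite locally free module on `P^n_Y` is flat over `Y`. -/
theorem isFlatOver_pr (n : ℕ) (Y : Scheme.{u}) (F : (KRR.PY n Y).Modules)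
    (hF : FlatMod.IsFinLocFree F) : FlatMod.IsFlatOver (KRR.pr n Y) F := by
  haveI : Smooth (CohB1.ProjSpaceOver.toBase n Y) := Groth.Agent.H4.ProjSmooth.smooth_toBase n Y
  haveI : Flat (CohB1.ProjSpaceOver.toBase n Y) := inferInstance
  exact Groth.Agent.H4.PSch7.isFlatOver_of_isFinLocFree (CohB1.ProjSpaceOver.toBase n Y) F hF

/-- the higher direct images (as modules) of a regular sheaf vanish. -/
theorem isZero_Rpush_of_reg (n : ℕ) (Y : Scheme.{u})
    [HasInjectiveResolutions (KRR.PY n Y).Modules]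
    (F : (KRR.PY n Y).Modules) (hreg : KRR.IsRegSheaf n Y F) (i : ℕ) (hi : 1 ≤ i) :
    IsZero ((Coh.Rpush (KRR.pr n Y) i).obj F) := by
  have h1 := Groth.Agent.LD.KRRKos.isZero_RpushAb F hreg i hi
  obtain ⟨e⟩ := Groth.Agent.LD.RP.nonempty_toAb_Rpush_iso (KRR.pr n Y) F i
  exact Groth.Agent.LD.RP.isZero_of_isZero_τ _ (IsZero.of_iso h1 e)

/-- **S3756**. -/
theorem isFinLocFree_push_of_reg (n : ℕ) (Y : Scheme.{u}) [IsNoetherian Y]
    (F : (KRR.PY n Y).Modules) (hF : FlatMod.IsFinLocFree F) (hreg : KRR.IsRegSheaf n Y F) :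
    FlatMod.IsFinLocFree ((Scheme.Modules.pushforward (KRR.pr n Y)).obj F) := by
  haveI := Groth.Agent.LD.QCQS.hasInjRes (CohB1.ProjSpaceOver n Y)
  haveI := Groth.Agent.H5.AG.isProper_toBase n Y
  have hcoh : Coh.IsCoh F := Groth.Agent.H4.PSch4.isCoh_of_isFinLocFree F hF
  have hfl := isFlatOver_pr n Y F hF
  have hR : ∀ i : ℕ, 0 < i → IsZero ((Coh.Rpush (KRR.pr n Y) i).obj F) :=
    fun i hi => isZero_Rpush_of_reg n Y F hreg i hi
  obtain ⟨-, h2⟩ := Groth.Agent.S2390.result (KRR.pr n Y) F hcoh hfl hR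
  intro y
  obtain ⟨U, hyU, he⟩ := h2 y
  exact ⟨U, _, hyU, he⟩

end Groth.Agent.LD.KRRPush
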