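import Groth.Agent.Lib.Lead.Misc3.KRRPush
import Groth.Agent.Lib.Lead.QC.InvInverse
import Groth.Agent.Lib.Helper2.FlC

/-!
# Direct images of the large twists of a finite locally free sheaf on `P^n_Y` (lead)

`Y` Noetherian, `F` finite locally free on `P^n_Y`.  Then `p_*(F(m))` is finite locally free for
`m ≫ 0`: this is helper2's `FlC.forward` for the identity of `P^n_Y`, transported along the
isomorphisms `F ⊗ (𝟙^* O(m)) ≅ F ⊗ O(m) ≅ O(m) ⊗ F`.
-/

set_option autoImplicit false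
universe u

open CategoryTheory CategoryTheory.Limits AlgebraicGeometry Opposite TopologicalSpace

namespace Groth.Agent.LD.KRRPush

/-- `F ⊗ (𝟙^* L) ≅ L ⊗ F`. -/
noncomputable def twFIdIso (n : ℕ) (Y : Scheme.{u}) (d : ℤ) (F : (KRR.PY n Y).Modules) :
    CohB1.tensorMod F ((Scheme.Modules.pullback (𝟙 (CohB1.ProjSpaceOver n Y))).obj
      (Twist.twistOver n Y d)) ≅ KRR.twF n Y d F :=
  ((DCoh.tensorBi (X := KRR.PY n Y)).obj F).mapIso
      ((Scheme.Modules.pullbackId (CohB1.ProjSpaceOver n Y)).app (Twist.twistOver n Y d)) ≪≫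
    Groth.Agent.LD.QC.tensorCommGen F (Twist.twistOver n Y d)

/-- **S3757**. -/
theorem exists_isFinLocFree_push_tw (n : ℕ) (Y : Scheme.{u}) [IsNoetherian Y]
    (F : (KRR.PY n Y).Modules) (hF : FlatMod.IsFinLocFree F) :
    ∃ m₀ : ℕ, ∀ m : ℕ, m₀ ≤ m →
      FlatMod.IsFinLocFree
        ((Scheme.Modules.pushforward (KRR.pr n Y)).obj (KRR.twF n Y (m : ℤ) F)) := by
  have hcoh : Coh.IsCoh F := Groth.Agent.H4.PSch4.isCoh_of_isFinLocFree F hF
  have hfl := isFlatOver_pr n Y F hF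
  have hid : 𝟙 (CohB1.ProjSpaceOver n Y) ≫ CohB1.ProjSpaceOver.toBase n Y =
      CohB1.ProjSpaceOver.toBase n Y := Category.id_comp _
  have hfl' : FlatMod.IsFlatOver
      (𝟙 (CohB1.ProjSpaceOver n Y) ≫ CohB1.ProjSpaceOver.toBase n Y) F := by
    rw [hid]
    exact hfl
  obtain ⟨n₀, hn₀⟩ := Groth.Agent.H2.FlC.forward n (𝟙 (CohB1.ProjSpaceOver n Y)) F hcoh hfl'
  refine ⟨n₀.toNat, fun m hm => ?_⟩
  have hm' : n₀ ≤ (m : ℤ) := by
    have := Int.self_le_toNat n₀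
    omega
  have h := hn₀ (m : ℤ) hm'
  rw [hid] at h
  exact Groth.Agent.H2.FlC.isFinLocFree_of_iso
    ((Scheme.Modules.pushforward (KRR.pr n Y)).mapIso (twFIdIso n Y (m : ℤ) F)) h

end Groth.Agent.LD.KRRPush
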