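import Groth.Agent.Lib.Lead.Misc3.KRRProj

/-!
# `K₀` of the regular finite locally free sheaves on `P^n_Y`: the Koszul relation (lead)

`RegP n Y` is the property "finite locally free and regular relative to `p : P^n_Y ⟶ Y`".
For `G` regular finite locally free, the Koszul complex
`0 → G → G(1)^{n+1} → ⋯ → G(n+1) → 0` has regular finite locally free terms **and kernels**, so
in `K₀(RegP)` one has `[G] = Σ_{k=0}^{n} (-1)^k binom(n+1, k+1) [G(k+1)]` (`koszul_solve`).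
-/

set_option autoImplicit false
universe u

open CategoryTheory CategoryTheory.Limits AlgebraicGeometry Opposite TopologicalSpace

namespace Groth.Agent.LD.KRRQ

open Groth.Agent.LD.KRRReg Groth.Agent.LD.KRRGen
open scoped ZeroObject

variable (n : ℕ) (Y : Scheme.{u})

/-- finite locally free and regular relative to `P^n_Y ⟶ Y`. -/
abbrev RegP : ObjectProperty (KRR.PY n Y).Modules :=
  fun M => FlatMod.IsFinLocFree M ∧ KRR.IsRegSheaf n Y M

theorem isRegSheaf_of_isZero {F : (KRR.PY n Y).Modules} (h : IsZero F) :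
    KRR.IsRegSheaf n Y F :=
  fun i _ => (Gd n Y (-(i : ℤ)) ⋙ Coh.RpushAb (KRR.pr n Y) i).map_isZero h

instance regP_iso : (RegP n Y).IsClosedUnderIsomorphisms :=
  ⟨fun e h => ⟨Groth.Agent.H2.FlC.isFinLocFree_of_iso e h.1,
    Groth.Agent.LD.KRRKos.isRegSheaf_of_iso e h.2⟩⟩

instance regP_zero : (RegP n Y).ContainsZero :=
  ⟨⟨(0 : (KRR.PY n Y).Modules), isZero_zero _,
    Groth.Agent.H4.PSch5.isFinLocFree_of_isZero (isZero_zero _),
    isRegSheaf_of_isZero n Y (isZero_zero _)⟩⟩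

/-- the class in `K₀(RegP)` of the image of a finite direct sum of copies of `T` under an additive
functor. -/
theorem cl_map_sigma_R {Z : Scheme.{u}} (Φ : Z.Modules ⥤ (KRR.PY n Y).Modules) [Φ.Additive]
    (T : Z.Modules) (hQ : ∀ r : ℕ, RegP n Y (Φ.obj (∐ fun _ : Fin r => T)))
    (hQ1 : RegP n Y (Φ.obj T)) (r : ℕ) :
    KZero.clSub (RegP n Y) (Φ.obj (∐ fun _ : Fin r => T)) =
      r • KZero.clSub (RegP n Y) (Φ.obj T) := by
  induction r with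
  | zero =>
    rw [zero_smul]
    exact Groth.Agent.H2.KThick.cl_zero (RegP n Y)
      (Φ.map_isZero (Groth.Agent.LD.DF.isZero_sigma_fin_zero T))
  | succ r ih =>
    have e : (∐ fun _ : Fin (r + 1) => T) ≅ T ⊞ (∐ fun _ : Fin r => T) :=
      Groth.Agent.LD.DF.KNil.sigmaSuccIso T r
    have hTQ : RegP n Y (Φ.obj (T ⊞ (∐ fun _ : Fin r => T))) :=
      (RegP n Y).prop_of_iso (Φ.mapIso e) (hQ (r + 1))
    have h1 : KZero.clSub (RegP n Y) (Φ.obj (∐ fun _ : Fin (r + 1) => T)) =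
        KZero.clSub (RegP n Y) (Φ.obj (T ⊞ (∐ fun _ : Fin r => T))) :=
      Groth.Agent.H2.KThick.cl_iso (RegP n Y) (Φ.mapIso e) (hQ (r + 1))
    have hS : ((ShortComplex.mk (biprod.inl : T ⟶ T ⊞ (∐ fun _ : Fin r => T))
        (biprod.snd : T ⊞ (∐ fun _ : Fin r => T) ⟶ (∐ fun _ : Fin r => T))
        (by simp)).map Φ).ShortExact :=
      ((ShortComplex.Splitting.ofHasBinaryBiproduct T (∐ fun _ : Fin r => T)).map Φ).shortExact
    have h2 : KZero.clSub (RegP n Y) (Φ.obj (T ⊞ (∐ fun _ : Fin r => T))) =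
        KZero.clSub (RegP n Y) (Φ.obj T) +
          KZero.clSub (RegP n Y) (Φ.obj (∐ fun _ : Fin r => T)) :=
      Groth.Agent.H2.KThick.cl_ses (RegP n Y) _ hS hQ1 hTQ (hQ r)
    rw [h1, h2, ih, succ_nsmul, add_comm]

theorem isFinLocFree_Ψ (G : (KRR.PY n Y).Modules) (hG : FlatMod.IsFinLocFree G)
    (M : (Proj (CohB1.polyGrading n (ULift.{u} ℤ))).Modules) (hM : FlatMod.IsFinLocFree M) :
    FlatMod.IsFinLocFree ((Groth.Agent.LD.KRRKos.Ψ G).obj M) :=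
  Groth.Agent.H4.RT4.isFinLocFree_tensor _ _
    (Groth.Agent.LD.QC.isFinLocFree_pullback (Groth.Agent.LD.KRRKos.qz n Y) M hM) hG

/-- `q^*(O(i)^r) ⊗ G` is regular for `G` regular and `i ≥ 0`. -/
theorem isRegSheaf_Ψ_sigma (G : (KRR.PY n Y).Modules) (hreg : KRR.IsRegSheaf n Y G) (i r : ℕ) :
    KRR.IsRegSheaf n Y ((Groth.Agent.LD.KRRKos.Ψ G).obj
      (∐ fun _ : Fin r => Twist.twist (CohB1.polyGrading n (ULift.{u} ℤ)) (i : ℤ))) := by
  intro j hj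
  have h1 : KRR.IsRegSheaf n Y (KRR.twF n Y (i : ℤ) G) := Groth.Agent.LD.KRRKos.main G hreg i
  exact Groth.Agent.LD.KRRKos.isZero_obj_sigma
    (Groth.Agent.LD.KRRKos.Ψ G ⋙ Gd n Y (-(j : ℤ)) ⋙ Coh.RpushAb (KRR.pr n Y) j) r
    (Twist.twist (CohB1.polyGrading n (ULift.{u} ℤ)) (i : ℤ)) (h1 j hj)

/-- the kernels of the Koszul complex tensored with a regular sheaf are regular. -/
theorem isRegSheaf_Ψ_kernel
    (C : CochainComplex (Proj (CohB1.polyGrading n (ULift.{u} ℤ))).Modules ℤ)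
    (hiso : ∀ i : ℕ, i ≤ n + 1 → Nonempty (C.X (i : ℤ) ≅
      ∐ fun _ : Fin (Nat.choose (n + 1) i) =>
        Twist.twist (CohB1.polyGrading n (ULift.{u} ℤ)) (i : ℤ)))
    (hW : ∀ i : ℤ, -1 ≤ i → FlatMod.IsFinLocFree (kernel (C.d i (i + 1))))
    (hses : ∀ i : ℤ, ∃ (w : kernel.ι (C.d i (i + 1)) ≫
        kernel.lift (C.d (i + 1) (i + 1 + 1)) (C.d i (i + 1)) (C.d_comp_d _ _ _) = 0),
      (ShortComplex.mk _ _ w).ShortExact)
    (hW0 : IsZero (kernel (C.d 0 (0 + 1)))) :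
    ∀ i : ℕ, i ≤ n + 1 + 1 → ∀ G : (KRR.PY n Y).Modules, KRR.IsRegSheaf n Y G →
      KRR.IsRegSheaf n Y ((Groth.Agent.LD.KRRKos.Ψ G).obj
        (kernel (C.d (i : ℤ) ((i : ℤ) + 1)))) := by
  intro i
  induction i with
  | zero =>
    intro _ G _
    have hc : ((0 : ℕ) : ℤ) = 0 := Nat.cast_zero
    rw [hc]
    exact isRegSheaf_of_isZero n Y ((Groth.Agent.LD.KRRKos.Ψ G).map_isZero hW0)
  | succ i ih =>
    intro hi G hreg
    have hi' : i ≤ n + 1 := by omega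
    have hc : ((i + 1 : ℕ) : ℤ) = (i : ℤ) + 1 := by push_cast; ring
    rw [hc]
    obtain ⟨w, hse⟩ := hses (i : ℤ)
    obtain ⟨φ⟩ := hiso i hi'
    have hSE := Groth.Agent.LD.KRRKos.shortExact_map_Ψ G _ hse (hW ((i : ℤ) + 1) (by omega))
    have hreg₂ : KRR.IsRegSheaf n Y ((Groth.Agent.LD.KRRKos.Ψ G).obj (C.X (i : ℤ))) :=
      Groth.Agent.LD.KRRKos.isRegSheaf_of_iso ((Groth.Agent.LD.KRRKos.Ψ G).mapIso φ.symm)
        (isRegSheaf_Ψ_sigma n Y G hreg i _)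
    have hreg₁ : KRR.IsRegSheaf n Y (KRR.twF n Y 1
        ((Groth.Agent.LD.KRRKos.Ψ G).obj (kernel (C.d (i : ℤ) ((i : ℤ) + 1))))) :=
      Groth.Agent.LD.KRRKos.isRegSheaf_of_iso
        (Groth.Agent.LD.KRRProj.twFSwapIso n Y 1
          ((Scheme.Modules.pullback (Groth.Agent.LD.KRRKos.qz n Y)).obj
            (kernel (C.d (i : ℤ) ((i : ℤ) + 1)))) G).symm
        (ih (by omega) (KRR.twF n Y 1 G) (Groth.Agent.LD.KRRKos.isRegSheaf_tw_one G hreg))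
    have h3 := Groth.Agent.LD.KRRReg.isRegSheaf_X₃ _ hSE hreg₂ hreg₁
    exact h3

theorem telescope' {A : Type*} [AddCommGroup A] (a z : ℕ → A) (m : ℕ)
    (h : ∀ i, i ≤ m → a i = z i + z (i + 1)) :
    ∑ i ∈ Finset.range (m + 1), (-1 : ℤ) ^ i • a i = z 0 + (-1 : ℤ) ^ m • z (m + 1) := by
  induction m with
  | zero => simp [h 0 le_rfl]
  | succ m ih =>
    have e1 : ((-1 : ℤ) ^ (m + 1)) = -((-1 : ℤ) ^ m) := by rw [pow_succ, mul_neg_one]
    rw [Finset.sum_range_succ, ih (fun i hi => h i (by omega)), h (m + 1) le_rfl, e1]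
    simp only [neg_smul, smul_add]
    abel

/-- **the Koszul relation solved for `[G]` in `K₀` of the regular sheaves.** -/
theorem koszul_solve (G : (KRR.PY n Y).Modules) (hG : FlatMod.IsFinLocFree G)
    (hreg : KRR.IsRegSheaf n Y G) :
    KZero.clSub (RegP n Y) G = ∑ k ∈ Finset.range (n + 1), (-1 : ℤ) ^ k •
      ((n + 1).choose (k + 1) •
        KZero.clSub (RegP n Y) (KRR.twF n Y ((k + 1 : ℕ) : ℤ) G)) := by
  obtain ⟨C, hiso0, hX, hW, hses, hW0, hz2⟩ := exists_koszul_data.{u} n 0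
  have hiso : ∀ i : ℕ, i ≤ n + 1 → Nonempty (C.X (i : ℤ) ≅
      ∐ fun _ : Fin (Nat.choose (n + 1) i) =>
        Twist.twist (CohB1.polyGrading n (ULift.{u} ℤ)) (i : ℤ)) := by
    intro i hi
    have h := hiso0 i hi
    rwa [zero_add] at h
  have hker := isRegSheaf_Ψ_kernel n Y C hiso hW hses hW0
  have hPX : ∀ i : ℕ, i ≤ n + 1 →
      RegP n Y ((Groth.Agent.LD.KRRKos.Ψ G).obj (C.X (i : ℤ))) := by
    intro i hi
    obtain ⟨φ⟩ := hiso i hi
    exact ⟨isFinLocFree_Ψ n Y G hG _ (hX (i : ℤ)),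
      Groth.Agent.LD.KRRKos.isRegSheaf_of_iso ((Groth.Agent.LD.KRRKos.Ψ G).mapIso φ.symm)
        (isRegSheaf_Ψ_sigma n Y G hreg i _)⟩
  have hPZ : ∀ i : ℕ, i ≤ n + 1 + 1 →
      RegP n Y ((Groth.Agent.LD.KRRKos.Ψ G).obj (kernel (C.d (i : ℤ) ((i : ℤ) + 1)))) :=
    fun i hi => ⟨isFinLocFree_Ψ n Y G hG _ (hW (i : ℤ) (by omega)), hker i hi G hreg⟩
  obtain ⟨aa, haa⟩ : ∃ aa : ℕ → KZero.K0sub (RegP n Y), ∀ i : ℕ, aa i =
      KZero.clSub (RegP n Y) ((Groth.Agent.LD.KRRKos.Ψ G).obj (C.X (i : ℤ))) :=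
    ⟨_, fun _ => rfl⟩
  obtain ⟨zz, hzz⟩ : ∃ zz : ℕ → KZero.K0sub (RegP n Y), ∀ i : ℕ, zz i =
      KZero.clSub (RegP n Y) ((Groth.Agent.LD.KRRKos.Ψ G).obj
        (kernel (C.d (i : ℤ) ((i : ℤ) + 1)))) := ⟨_, fun _ => rfl⟩
  have hrel : ∀ i : ℕ, i ≤ n + 1 → aa i = zz i + zz (i + 1) := by
    intro i hi
    rw [haa, hzz, hzz]
    obtain ⟨w, hse⟩ := hses (i : ℤ)
    have hc : ((i + 1 : ℕ) : ℤ) = (i : ℤ) + 1 := by push_cast; ring
    have hC : RegP n Y ((Groth.Agent.LD.KRRKos.Ψ G).obj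
        (kernel (C.d ((i : ℤ) + 1) ((i : ℤ) + 1 + 1)))) := by
      have h := hPZ (i + 1) (by omega)
      rwa [hc] at h
    have hSE := Groth.Agent.LD.KRRKos.shortExact_map_Ψ G _ hse (hW ((i : ℤ) + 1) (by omega))
    have h1 : KZero.clSub (RegP n Y) ((Groth.Agent.LD.KRRKos.Ψ G).obj (C.X (i : ℤ))) =
        KZero.clSub (RegP n Y) ((Groth.Agent.LD.KRRKos.Ψ G).obj
          (kernel (C.d (i : ℤ) ((i : ℤ) + 1)))) +
        KZero.clSub (RegP n Y) ((Groth.Agent.LD.KRRKos.Ψ G).obj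
          (kernel (C.d ((i : ℤ) + 1) ((i : ℤ) + 1 + 1)))) :=
      Groth.Agent.H2.KThick.cl_ses (RegP n Y) _ hSE (hPZ i (by omega)) (hPX i hi) hC
    rw [hc]
    exact h1
  have htel := telescope' aa zz (n + 1) hrel
  have hz0 : zz 0 = 0 := by
    rw [hzz]
    have hc : ((0 : ℕ) : ℤ) = 0 := Nat.cast_zero
    rw [hc]
    exact Groth.Agent.H2.KThick.cl_zero (RegP n Y)
      ((Groth.Agent.LD.KRRKos.Ψ G).map_isZero hW0)
  have hzlast : zz (n + 1 + 1) = 0 := by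
    rw [hzz]
    have hk : IsZero (kernel (C.d ((n + 1 + 1 : ℕ) : ℤ) (((n + 1 + 1 : ℕ) : ℤ) + 1))) :=
      IsZero.of_mono (kernel.ι _) hz2
    exact Groth.Agent.H2.KThick.cl_zero (RegP n Y)
      ((Groth.Agent.LD.KRRKos.Ψ G).map_isZero hk)
  have hterm : ∀ i ∈ Finset.range (n + 1 + 1), aa i =
      (n + 1).choose i • KZero.clSub (RegP n Y) (KRR.twF n Y (i : ℤ) G) := by
    intro i hi
    have hi' : i ≤ n + 1 := by
      have := Finset.mem_range.1 hi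
      omega
    obtain ⟨φ⟩ := hiso i hi'
    rw [haa, Groth.Agent.H2.KThick.cl_iso (RegP n Y)
      ((Groth.Agent.LD.KRRKos.Ψ G).mapIso φ) (hPX i hi')]
    exact cl_map_sigma_R n Y (Groth.Agent.LD.KRRKos.Ψ G) _
      (fun r => ⟨isFinLocFree_Ψ n Y G hG _
        (Groth.Agent.LD.SC.isFinLocFree_sigma_of_isInvertible _
          (Groth.Agent.LD.PN.isInvertible_twist n (ULift.{u} ℤ) _) r),
        isRegSheaf_Ψ_sigma n Y G hreg i r⟩)
      ⟨isFinLocFree_twF n Y _ G hG, Groth.Agent.LD.KRRKos.main G hreg i⟩ _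
  obtain ⟨f, hf⟩ : ∃ f : ℕ → KZero.K0sub (RegP n Y), ∀ k : ℕ, f k =
      (-1 : ℤ) ^ k • ((n + 1).choose k •
        KZero.clSub (RegP n Y) (KRR.twF n Y (k : ℤ) G)) := ⟨_, fun _ => rfl⟩
  have hsum : ∑ k ∈ Finset.range (n + 1 + 1), f k = 0 := by
    calc ∑ k ∈ Finset.range (n + 1 + 1), f k
        = ∑ k ∈ Finset.range (n + 1 + 1), (-1 : ℤ) ^ k • aa k :=
          Finset.sum_congr rfl (fun k hk => by rw [hf k, hterm k hk])
      _ = zz 0 + (-1 : ℤ) ^ (n + 1) • zz (n + 1 + 1) := htel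
      _ = 0 := by rw [hz0, hzlast, smul_zero, add_zero]
  rw [Finset.sum_range_succ'] at hsum
  have hf0 : f 0 = KZero.clSub (RegP n Y) G := by
    rw [hf 0, pow_zero, one_smul, Nat.choose_zero_right, one_smul, Nat.cast_zero]
    exact Groth.Agent.H2.KThick.cl_iso (RegP n Y) (Groth.Agent.LD.KRRKos.tw0Iso G)
      ⟨isFinLocFree_twF n Y 0 G hG,
        Groth.Agent.LD.KRRKos.isRegSheaf_of_iso (Groth.Agent.LD.KRRKos.tw0Iso G).symm hreg⟩
  have h1 : KZero.clSub (RegP n Y) G = -(∑ k ∈ Finset.range (n + 1), f (k + 1)) := by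
    rw [← hf0]
    exact eq_neg_of_add_eq_zero_right hsum
  rw [h1, ← Finset.sum_neg_distrib]
  refine Finset.sum_congr rfl (fun k _ => ?_)
  have e1 : ((-1 : ℤ) ^ (k + 1)) = -((-1 : ℤ) ^ k) := by rw [pow_succ, mul_neg_one]
  rw [hf (k + 1), e1, neg_smul, neg_neg]

end Groth.Agent.LD.KRRQ
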