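import Groth.Agent.Lib.Lead.Misc3.KRRQ1
import Groth.Agent.Lib.Lead.PE.Shift

/-!
# `K₀(regular bundles on P^n_Y) ≅ K(P^n_Y)` and the push-forward `p_K` (S3758, S3798) (lead)

`Y` Noetherian.  On `K₀(RegP)` the twist `t : [G] ↦ [G(1)]` has the left inverse
`tinv = Σ_k (-1)^k binom(n+1,k+1) t^k` (Koszul).  For `F` finite locally free, `F(m)` is regular
for `m ≫ 0` and `ψ[F] := tinv^m [F(m)]` is a well defined additive left inverse of
`K₀(RegP) → K(P^n_Y)`, which is surjective since the regular classes generate.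
`p_K := [p_*(-)] ∘ ψ`.
-/

set_option autoImplicit false
universe u

open CategoryTheory CategoryTheory.Limits AlgebraicGeometry Opposite TopologicalSpace

namespace Groth.Agent.LD.KRRQ

open Groth.Agent.LD.KRRReg Groth.Agent.LD.KRRGen

variable (n : ℕ) (Y : Scheme.{u})

theorem shortExact_map_tw (S : ShortComplex (KRR.PY n Y).Modules) (hS : S.ShortExact) (d : ℤ) :
    (S.map ((DCoh.tensorBi (X := KRR.PY n Y)).obj (Twist.twistOver n Y d))).ShortExact := by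
  obtain ⟨h1, h2⟩ := exact_tensorBi_obj _
    (Groth.Agent.H4.FAmp2.isFlat_of_isFinLocFree _ (isFinLocFree_twistOver n Y d))
  haveI := h1
  haveI := h2
  exact hS.map_of_exact _

variable {n Y} in
theorem regP_tw1 {G : (KRR.PY n Y).Modules} (hG : RegP n Y G) :
    RegP n Y (KRR.twF n Y 1 G) :=
  ⟨isFinLocFree_twF n Y 1 G hG.1, Groth.Agent.LD.KRRKos.isRegSheaf_tw_one G hG.2⟩

variable {n Y} in
theorem regP_tw (d : ℕ) {G : (KRR.PY n Y).Modules} (hG : RegP n Y G) :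
    RegP n Y (KRR.twF n Y (d : ℤ) G) :=
  ⟨isFinLocFree_twF n Y _ G hG.1, Groth.Agent.LD.KRRKos.main G hG.2 d⟩

/-- the twist `[G] ↦ [G(1)]` on `K₀` of the regular sheaves. -/
noncomputable def tK : KZero.K0sub (RegP n Y) →+ KZero.K0sub (RegP n Y) :=
  Groth.Agent.LD.DF.KLoc.liftK (RegP n Y)
    (fun G => KZero.clSub (RegP n Y) (KRR.twF n Y 1 G.1))
    (fun S h₁ h₂ h₃ hS => Groth.Agent.H2.KThick.cl_ses (RegP n Y)
      (S.map ((DCoh.tensorBi (X := KRR.PY n Y)).obj (Twist.twistOver n Y 1)))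
      (shortExact_map_tw n Y S hS 1) (regP_tw1 h₁) (regP_tw1 h₂) (regP_tw1 h₃))

theorem tK_cl (G : (KRR.PY n Y).Modules) (hG : RegP n Y G) :
    tK n Y (KZero.clSub (RegP n Y) G) = KZero.clSub (RegP n Y) (KRR.twF n Y 1 G) :=
  Groth.Agent.LD.DF.KLoc.liftK_cl _ _ _ G hG

theorem iter_tK_cl (k : ℕ) (G : (KRR.PY n Y).Modules) (hG : RegP n Y G) :
    (⇑(tK n Y))^[k] (KZero.clSub (RegP n Y) G) =
      KZero.clSub (RegP n Y) (KRR.twF n Y (k : ℤ) G) := by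
  induction k with
  | zero =>
    show KZero.clSub (RegP n Y) G = _
    rw [Nat.cast_zero]
    exact Groth.Agent.H2.KThick.cl_iso (RegP n Y) (Groth.Agent.LD.KRRKos.tw0Iso G).symm hG
  | succ k ih =>
    rw [Function.iterate_succ_apply', ih, tK_cl n Y _ (regP_tw k hG)]
    exact Groth.Agent.H2.KThick.cl_iso (RegP n Y)
      (twIso n Y 1 (k : ℤ) ((k + 1 : ℕ) : ℤ) (by push_cast; ring) G) (regP_tw1 (regP_tw k hG))

/-- the inverse of the twist, from the Koszul relation. -/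
noncomputable def tinv : KZero.K0sub (RegP n Y) →+ KZero.K0sub (RegP n Y) :=
  AddMonoidHom.mk' (fun x => ∑ k ∈ Finset.range (n + 1), (-1 : ℤ) ^ k •
      ((n + 1).choose (k + 1) • (⇑(tK n Y))^[k] x))
    (fun x y => by
      show ∑ k ∈ Finset.range (n + 1), (-1 : ℤ) ^ k •
          ((n + 1).choose (k + 1) • (⇑(tK n Y))^[k] (x + y)) =
        (∑ k ∈ Finset.range (n + 1), (-1 : ℤ) ^ k •
          ((n + 1).choose (k + 1) • (⇑(tK n Y))^[k] x)) +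
        (∑ k ∈ Finset.range (n + 1), (-1 : ℤ) ^ k •
          ((n + 1).choose (k + 1) • (⇑(tK n Y))^[k] y))
      rw [← Finset.sum_add_distrib]
      refine Finset.sum_congr rfl (fun k _ => ?_)
      rw [iterate_map_add, smul_add, smul_add])

theorem tinv_apply (x : KZero.K0sub (RegP n Y)) :
    tinv n Y x = ∑ k ∈ Finset.range (n + 1), (-1 : ℤ) ^ k •
      ((n + 1).choose (k + 1) • (⇑(tK n Y))^[k] x) := rfl

theorem tinv_tK (x : KZero.K0sub (RegP n Y)) : tinv n Y (tK n Y x) = x := by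
  have h : x ∈ AddMonoidHom.eqLocus ((tinv n Y).comp (tK n Y)) (AddMonoidHom.id _) := by
    refine Groth.Agent.LD.DF.KLoc.mem_of_forall_cl (RegP n Y) _ (fun G hG => ?_) x
    show tinv n Y (tK n Y (KZero.clSub (RegP n Y) G)) = KZero.clSub (RegP n Y) G
    rw [tinv_apply]
    refine (Finset.sum_congr rfl (fun k _ => ?_)).trans (koszul_solve n Y G hG.1 hG.2).symm
    have e : (⇑(tK n Y))^[k] (tK n Y (KZero.clSub (RegP n Y) G)) =
        (⇑(tK n Y))^[k + 1] (KZero.clSub (RegP n Y) G) :=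
      (Function.iterate_succ_apply _ _ _).symm
    rw [e, iter_tK_cl n Y (k + 1) G hG]
  exact h

theorem iter_tinv_tK (m : ℕ) (x : KZero.K0sub (RegP n Y)) :
    (⇑(tinv n Y))^[m] ((⇑(tK n Y))^[m] x) = x := by
  induction m with
  | zero => rfl
  | succ m ih =>
    have e1 : (⇑(tK n Y))^[m + 1] x = tK n Y ((⇑(tK n Y))^[m] x) :=
      Function.iterate_succ_apply' _ _ _
    have e2 : (⇑(tinv n Y))^[m + 1] (tK n Y ((⇑(tK n Y))^[m] x)) =
        (⇑(tinv n Y))^[m] (tinv n Y (tK n Y ((⇑(tK n Y))^[m] x))) :=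
      Function.iterate_succ_apply _ _ _
    rw [e1, e2, tinv_tK]
    exact ih

section Noeth

variable [IsNoetherian Y]

theorem exists_m0 (F : Subtype (KRR.vbP (KRR.PY n Y))) :
    ∃ m₀ : ℕ, ∀ m : ℕ, m₀ ≤ m → KRR.IsRegSheaf n Y (KRR.twF n Y (m : ℤ) F.1) :=
  exists_isRegSheaf_tw n Y F.1 (Groth.Agent.H4.PSch4.isCoh_of_isFinLocFree F.1 F.2)

/-- a twist from which on `F(m)` is regular. -/
noncomputable def m0 (F : Subtype (KRR.vbP (KRR.PY n Y))) : ℕ := (exists_m0 n Y F).choose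

theorem m0_spec (F : Subtype (KRR.vbP (KRR.PY n Y))) (m : ℕ) (hm : m0 n Y F ≤ m) :
    RegP n Y (KRR.twF n Y (m : ℤ) F.1) :=
  ⟨isFinLocFree_twF n Y _ F.1 F.2, (exists_m0 n Y F).choose_spec m hm⟩

/-- `[F] ↦ t^{-m} [F(m)]`, `m ≫ 0`. -/
noncomputable def psiFun (F : Subtype (KRR.vbP (KRR.PY n Y))) : KZero.K0sub (RegP n Y) :=
  (⇑(tinv n Y))^[m0 n Y F] (KZero.clSub (RegP n Y) (KRR.twF n Y (m0 n Y F : ℤ) F.1))

theorem psiFun_eq (F : Subtype (KRR.vbP (KRR.PY n Y))) (m : ℕ) (hm : m0 n Y F ≤ m) :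
    (⇑(tinv n Y))^[m] (KZero.clSub (RegP n Y) (KRR.twF n Y (m : ℤ) F.1)) = psiFun n Y F := by
  induction m, hm using Nat.le_induction with
  | base => rfl
  | succ m hm ih =>
    have e1 : KZero.clSub (RegP n Y) (KRR.twF n Y ((m + 1 : ℕ) : ℤ) F.1) =
        tK n Y (KZero.clSub (RegP n Y) (KRR.twF n Y (m : ℤ) F.1)) := by
      rw [tK_cl n Y _ (m0_spec n Y F m hm)]
      exact (Groth.Agent.H2.KThick.cl_iso (RegP n Y)
        (twIso n Y 1 (m : ℤ) ((m + 1 : ℕ) : ℤ) (by push_cast; ring) F.1)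
        (regP_tw1 (m0_spec n Y F m hm))).symm
    rw [Function.iterate_succ_apply, e1, tinv_tK]
    exact ih

theorem psiFun_add (S : ShortComplex (KRR.PY n Y).Modules)
    (h₁ : KRR.vbP (KRR.PY n Y) S.X₁) (h₂ : KRR.vbP (KRR.PY n Y) S.X₂)
    (h₃ : KRR.vbP (KRR.PY n Y) S.X₃) (hS : S.ShortExact) :
    psiFun n Y ⟨S.X₂, h₂⟩ = psiFun n Y ⟨S.X₁, h₁⟩ + psiFun n Y ⟨S.X₃, h₃⟩ := by
  obtain ⟨m, hm1, hm2, hm3⟩ : ∃ m : ℕ, m0 n Y ⟨S.X₁, h₁⟩ ≤ m ∧ m0 n Y ⟨S.X₂, h₂⟩ ≤ m ∧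
      m0 n Y ⟨S.X₃, h₃⟩ ≤ m :=
    ⟨max (max (m0 n Y ⟨S.X₁, h₁⟩) (m0 n Y ⟨S.X₂, h₂⟩)) (m0 n Y ⟨S.X₃, h₃⟩),
      le_trans (le_max_left _ _) (le_max_left _ _),
      le_trans (le_max_right _ _) (le_max_left _ _), le_max_right _ _⟩
  have key : KZero.clSub (RegP n Y) (KRR.twF n Y (m : ℤ) S.X₂) =
      KZero.clSub (RegP n Y) (KRR.twF n Y (m : ℤ) S.X₁) +
        KZero.clSub (RegP n Y) (KRR.twF n Y (m : ℤ) S.X₃) :=
    Groth.Agent.H2.KThick.cl_ses (RegP n Y)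
      (S.map ((DCoh.tensorBi (X := KRR.PY n Y)).obj (Twist.twistOver n Y (m : ℤ))))
      (shortExact_map_tw n Y S hS (m : ℤ)) (m0_spec n Y ⟨S.X₁, h₁⟩ m hm1)
      (m0_spec n Y ⟨S.X₂, h₂⟩ m hm2) (m0_spec n Y ⟨S.X₃, h₃⟩ m hm3)
  calc psiFun n Y ⟨S.X₂, h₂⟩
      = (⇑(tinv n Y))^[m] (KZero.clSub (RegP n Y) (KRR.twF n Y (m : ℤ) S.X₂)) :=
        (psiFun_eq n Y ⟨S.X₂, h₂⟩ m hm2).symm
    _ = (⇑(tinv n Y))^[m] (KZero.clSub (RegP n Y) (KRR.twF n Y (m : ℤ) S.X₁) +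
          KZero.clSub (RegP n Y) (KRR.twF n Y (m : ℤ) S.X₃)) := by rw [key]
    _ = (⇑(tinv n Y))^[m] (KZero.clSub (RegP n Y) (KRR.twF n Y (m : ℤ) S.X₁)) +
          (⇑(tinv n Y))^[m] (KZero.clSub (RegP n Y) (KRR.twF n Y (m : ℤ) S.X₃)) :=
        iterate_map_add (tinv n Y) m _ _
    _ = psiFun n Y ⟨S.X₁, h₁⟩ + psiFun n Y ⟨S.X₃, h₃⟩ :=
        congrArg₂ (· + ·) (psiFun_eq n Y ⟨S.X₁, h₁⟩ m hm1) (psiFun_eq n Y ⟨S.X₃, h₃⟩ m hm3)

/-- the inverse `K(P^n_Y) → K₀(RegP)`. -/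
noncomputable def psi : SGA6.Kvb (KRR.PY n Y) →+ KZero.K0sub (RegP n Y) :=
  Groth.Agent.LD.DF.KLoc.liftK (KRR.vbP (KRR.PY n Y)) (psiFun n Y)
    (fun S h₁ h₂ h₃ hS => psiFun_add n Y S h₁ h₂ h₃ hS)

theorem psi_cl (F : (KRR.PY n Y).Modules) (hF : FlatMod.IsFinLocFree F) :
    psi n Y (KRR.cl (KRR.PY n Y) F) = psiFun n Y ⟨F, hF⟩ :=
  Groth.Agent.LD.DF.KLoc.liftK_cl _ _ _ F hF

theorem psi_cl_reg (G : (KRR.PY n Y).Modules) (hG : RegP n Y G) :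
    psi n Y (KRR.cl (KRR.PY n Y) G) = KZero.clSub (RegP n Y) G := by
  rw [psi_cl n Y G hG.1]
  show (⇑(tinv n Y))^[m0 n Y ⟨G, hG.1⟩]
    (KZero.clSub (RegP n Y) (KRR.twF n Y (m0 n Y ⟨G, hG.1⟩ : ℤ) G)) = KZero.clSub (RegP n Y) G
  rw [← iter_tK_cl n Y _ G hG]
  exact iter_tinv_tK n Y _ _

/-- **S3758**: `K₀(regular bundles) → K(P^n_Y)` is bijective. -/
theorem bijective_mapSub (h : ∀ M : (KRR.PY n Y).Modules, RegP n Y M → KRR.vbP (KRR.PY n Y) M) :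
    Function.Bijective (SGA6.mapSub (𝟭 (KRR.PY n Y).Modules) (RegP n Y)
      (KRR.vbP (KRR.PY n Y)) h) := by
  constructor
  · have hleft : ∀ x, psi n Y (SGA6.mapSub (𝟭 (KRR.PY n Y).Modules) (RegP n Y)
        (KRR.vbP (KRR.PY n Y)) h x) = x := by
      intro x
      have hx : x ∈ AddMonoidHom.eqLocus ((psi n Y).comp
          (SGA6.mapSub (𝟭 (KRR.PY n Y).Modules) (RegP n Y) (KRR.vbP (KRR.PY n Y)) h))
          (AddMonoidHom.id _) := by
        refine Groth.Agent.LD.DF.KLoc.mem_of_forall_cl (RegP n Y) _ (fun G hG => ?_) x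
        show psi n Y (SGA6.mapSub (𝟭 (KRR.PY n Y).Modules) (RegP n Y)
          (KRR.vbP (KRR.PY n Y)) h (KZero.clSub (RegP n Y) G)) = KZero.clSub (RegP n Y) G
        rw [Groth.Agent.LD.DF.KLoc.mapSub_clSub (𝟭 (KRR.PY n Y).Modules) (RegP n Y)
          (KRR.vbP (KRR.PY n Y)) h G hG]
        exact psi_cl_reg n Y G hG
      exact hx
    exact Function.LeftInverse.injective hleft
  · intro y
    have hle : Rgen n Y ≤ (SGA6.mapSub (𝟭 (KRR.PY n Y).Modules) (RegP n Y)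
        (KRR.vbP (KRR.PY n Y)) h).range := by
      unfold Rgen
      rw [AddSubgroup.closure_le]
      rintro _ ⟨G, hG, hGreg, rfl⟩
      exact ⟨KZero.clSub (RegP n Y) G,
        Groth.Agent.LD.DF.KLoc.mapSub_clSub (𝟭 (KRR.PY n Y).Modules) (RegP n Y)
          (KRR.vbP (KRR.PY n Y)) h G ⟨hG, hGreg⟩⟩
    have hy := hle (mem_Rgen n Y y)
    exact hy

theorem piK_add (S : ShortComplex (KRR.PY n Y).Modules) (h₁ : RegP n Y S.X₁)
    (h₂ : RegP n Y S.X₂) (h₃ : RegP n Y S.X₃) (hS : S.ShortExact) :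
    KRR.cl Y ((Scheme.Modules.pushforward (KRR.pr n Y)).obj S.X₂) =
      KRR.cl Y ((Scheme.Modules.pushforward (KRR.pr n Y)).obj S.X₁) +
        KRR.cl Y ((Scheme.Modules.pushforward (KRR.pr n Y)).obj S.X₃) := by
  haveI := Groth.Agent.LD.QCQS.hasInjRes (CohB1.ProjSpaceOver n Y)
  haveI : PreservesLimitsOfSize.{0, 0} (Scheme.Modules.pushforward (KRR.pr n Y)) :=
    (Scheme.Modules.pullbackPushforwardAdjunction (KRR.pr n Y)).rightAdjoint_preservesLimits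
  haveI : PreservesFiniteLimits (Scheme.Modules.pushforward (KRR.pr n Y)) :=
    PreservesLimitsOfSize.preservesFiniteLimits.{0, 0} _
  have hSE : (S.map (Scheme.Modules.pushforward (KRR.pr n Y))).ShortExact :=
    Groth.Agent.LD.PE.shortExact_map_of_isZero_R1 (Scheme.Modules.pushforward (KRR.pr n Y)) hS
      (Groth.Agent.LD.KRRPush.isZero_Rpush_of_reg n Y S.X₁ h₁.2 1 le_rfl)
  have h := cl_ses' _ hSE
    (Groth.Agent.LD.KRRPush.isFinLocFree_push_of_reg n Y S.X₁ h₁.1 h₁.2)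
    (Groth.Agent.LD.KRRPush.isFinLocFree_push_of_reg n Y S.X₂ h₂.1 h₂.2)
    (Groth.Agent.LD.KRRPush.isFinLocFree_push_of_reg n Y S.X₃ h₃.1 h₃.2)
  exact h

/-- `[G] ↦ [p_* G]` on `K₀` of the regular sheaves. -/
noncomputable def piK : KZero.K0sub (RegP n Y) →+ SGA6.Kvb Y :=
  Groth.Agent.LD.DF.KLoc.liftK (RegP n Y)
    (fun G => KRR.cl Y ((Scheme.Modules.pushforward (KRR.pr n Y)).obj G.1))
    (fun S h₁ h₂ h₃ hS => piK_add n Y S h₁ h₂ h₃ hS)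

theorem piK_cl (G : (KRR.PY n Y).Modules) (hG : RegP n Y G) :
    piK n Y (KZero.clSub (RegP n Y) G) =
      KRR.cl Y ((Scheme.Modules.pushforward (KRR.pr n Y)).obj G) :=
  Groth.Agent.LD.DF.KLoc.liftK_cl _ _ _ G hG

variable {n Y}
variable {KP : Type*} [CommRing KP] {KY : Type*} [CommRing KY]
  {φP : SGA6.Kvb (KRR.PY n Y) →+ KP} {φY : SGA6.Kvb Y →+ KY}

/-- existence of `p_K`. -/
theorem exists_pushPr (hbij : Function.Bijective φP) :
    ∃ g : KP →+ KY, KRR.IsPushPr n Y φP φY g := by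
  refine ⟨(φY.comp ((piK n Y).comp (psi n Y))).comp
    (AddEquiv.ofBijective φP hbij).symm.toAddMonoidHom, ?_⟩
  intro F hF hreg
  have he : (AddEquiv.ofBijective φP hbij).symm (φP (KRR.cl (KRR.PY n Y) F)) =
      KRR.cl (KRR.PY n Y) F :=
    (AddEquiv.ofBijective φP hbij).symm_apply_apply (KRR.cl (KRR.PY n Y) F)
  show φY (piK n Y (psi n Y ((AddEquiv.ofBijective φP hbij).symm
    (φP (KRR.cl (KRR.PY n Y) F))))) = _
  rw [he, psi_cl_reg n Y F ⟨hF, hreg⟩, piK_cl n Y F ⟨hF, hreg⟩]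

/-- uniqueness of `p_K`. -/
theorem pushPr_unique (hsurj : Function.Surjective φP) (g g' : KP →+ KY)
    (hg : KRR.IsPushPr n Y φP φY g) (hg' : KRR.IsPushPr n Y φP φY g') : g = g' := by
  have hle : Rgen n Y ≤ AddMonoidHom.eqLocus (g.comp φP) (g'.comp φP) := by
    unfold Rgen
    rw [AddSubgroup.closure_le]
    rintro _ ⟨G, hG, hGreg, rfl⟩
    show g (φP (KRR.cl (KRR.PY n Y) G)) = g' (φP (KRR.cl (KRR.PY n Y) G))
    rw [hg G hG hGreg, hg' G hG hGreg]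
  refine AddMonoidHom.ext (fun x => ?_)
  obtain ⟨x', rfl⟩ := hsurj x
  exact hle (mem_Rgen n Y x')

/-- **S3798**. -/
theorem existsUnique_pushPr (hbij : Function.Bijective φP) :
    ∃! g : KP →+ KY, KRR.IsPushPr n Y φP φY g := by
  obtain ⟨g, hg⟩ := exists_pushPr (φY := φY) hbij
  exact ⟨g, hg, fun g' hg' => pushPr_unique hbij.2 g' g hg' hg⟩

end Noeth

end Groth.Agent.LD.KRRQ
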