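import Groth.Agent.Lib.Lead.Misc3.KRRQ2
import Groth.Agent.Lib.Lead.Misc3.KRRAlg

/-!
# `p_K [O(m)] = binom(n+m, m)` and `p_K [O(-i)] = 0` (S3760, S3761) (lead)

`Y` Noetherian, `p : P^n_Y ⟶ Y`.  The Koszul complex `O(d) → O(d+1)^{n+1} → ⋯ → O(d+n+1)`
(`-n ≤ d`) is pushed forward: the terms `O(j)`, `-n ≤ j < 0`, have no cohomology at all, the
terms `O(j)`, `j ≥ 0`, are regular; chasing the kernels one gets in `K(Y)` the relations
`Σ_k (-1)^k binom(n+1,k) a(d+k) = 0` with `a(j) = [p_* O(j)]` (`j ≥ 0`), `a(j) = 0` (`-n ≤ j < 0`).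
With `a(0) = 1` these determine `a(m) = binom(n+m, n)`.
-/

set_option autoImplicit false
universe u

open CategoryTheory CategoryTheory.Limits AlgebraicGeometry Opposite TopologicalSpace

namespace Groth.Agent.LD.KRRTw

open Groth.Agent.LD.KRRReg Groth.Agent.LD.KRRGen Groth.Agent.LD.KRRQ
open scoped ZeroObject

section K

variable {X : Scheme.{u}}

/-- the class of the image of a finite direct sum of copies of `T` under an additive functor to
`X.Modules`, in `K(X)`. -/
theorem cl_map_sigma_vb {Z : Scheme.{u}} (Φ : Z.Modules ⥤ X.Modules) [Φ.Additive]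
    (T : Z.Modules) (hQ : ∀ r : ℕ, FlatMod.IsFinLocFree (Φ.obj (∐ fun _ : Fin r => T)))
    (hQ1 : FlatMod.IsFinLocFree (Φ.obj T)) (r : ℕ) :
    KRR.cl X (Φ.obj (∐ fun _ : Fin r => T)) = r • KRR.cl X (Φ.obj T) := by
  induction r with
  | zero =>
    rw [zero_smul]
    exact cl_zero' (Φ.map_isZero (Groth.Agent.LD.DF.isZero_sigma_fin_zero T))
  | succ r ih =>
    have e : (∐ fun _ : Fin (r + 1) => T) ≅ T ⊞ (∐ fun _ : Fin r => T) :=
      Groth.Agent.LD.DF.KNil.sigmaSuccIso T r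
    have hTQ : FlatMod.IsFinLocFree (Φ.obj (T ⊞ (∐ fun _ : Fin r => T))) :=
      Groth.Agent.H2.FlC.isFinLocFree_of_iso (Φ.mapIso e) (hQ (r + 1))
    have h1 : KRR.cl X (Φ.obj (∐ fun _ : Fin (r + 1) => T)) =
        KRR.cl X (Φ.obj (T ⊞ (∐ fun _ : Fin r => T))) :=
      Groth.Agent.LD.KRRUnit.cl_eq_of_iso (Φ.mapIso e) (hQ (r + 1))
    have hS : ((ShortComplex.mk (biprod.inl : T ⟶ T ⊞ (∐ fun _ : Fin r => T))
        (biprod.snd : T ⊞ (∐ fun _ : Fin r => T) ⟶ (∐ fun _ : Fin r => T))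
        (by simp)).map Φ).ShortExact :=
      ((ShortComplex.Splitting.ofHasBinaryBiproduct T (∐ fun _ : Fin r => T)).map Φ).shortExact
    have h2 := cl_ses' _ hS hQ1 hTQ (hQ r)
    have h2' : KRR.cl X (Φ.obj (T ⊞ (∐ fun _ : Fin r => T))) =
        KRR.cl X (Φ.obj T) + KRR.cl X (Φ.obj (∐ fun _ : Fin r => T)) := h2
    rw [h1, h2', ih, succ_nsmul, add_comm]

end K

section Van

variable (n : ℕ) (Y : Scheme.{u}) [HasInjectiveResolutions (KRR.PY n Y).Modules]

/-- the higher direct images (as modules) vanish in positive degrees. -/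
def Acyc (F : (KRR.PY n Y).Modules) : Prop :=
  ∀ q : ℕ, 1 ≤ q → IsZero ((Coh.Rpush (KRR.pr n Y) q).obj F)

/-- all the direct images vanish. -/
def Van (F : (KRR.PY n Y).Modules) : Prop :=
  ∀ q : ℕ, IsZero ((Coh.Rpush (KRR.pr n Y) q).obj F)

variable {n Y}

theorem van_X₃ {S : ShortComplex (KRR.PY n Y).Modules} (hS : S.ShortExact)
    (h1 : Van n Y S.X₁) (h2 : Van n Y S.X₂) : Van n Y S.X₃ := by
  intro q
  have hex := Groth.Agent.H2.RDer.LES.exact₃ (Scheme.Modules.pushforward (KRR.pr n Y)) hS q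
  exact hex.isZero_of_both_zeros ((h2 q).eq_of_src _ _) ((h1 (q + 1)).eq_of_tgt _ _)

theorem acyc_X₃ {S : ShortComplex (KRR.PY n Y).Modules} (hS : S.ShortExact)
    (h1 : Acyc n Y S.X₁) (h2 : Acyc n Y S.X₂) : Acyc n Y S.X₃ := by
  intro q hq
  have hex := Groth.Agent.H2.RDer.LES.exact₃ (Scheme.Modules.pushforward (KRR.pr n Y)) hS q
  exact hex.isZero_of_both_zeros ((h2 q hq).eq_of_src _ _)
    ((h1 (q + 1) (by omega)).eq_of_tgt _ _)

theorem acyc_of_van {F : (KRR.PY n Y).Modules} (h : Van n Y F) : Acyc n Y F := fun q _ => h q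

theorem acyc_of_reg {F : (KRR.PY n Y).Modules} (h : KRR.IsRegSheaf n Y F) : Acyc n Y F :=
  fun q hq => Groth.Agent.LD.KRRPush.isZero_Rpush_of_reg n Y F h q hq

theorem van_of_isZero {F : (KRR.PY n Y).Modules} (h : IsZero F) : Van n Y F :=
  fun q => (Coh.Rpush (KRR.pr n Y) q).map_isZero h

theorem van_of_iso {F G : (KRR.PY n Y).Modules} (e : F ≅ G) (h : Van n Y F) : Van n Y G :=
  fun q => IsZero.of_iso (h q) ((Coh.Rpush (KRR.pr n Y) q).mapIso e.symm)

theorem isZero_push_of_van {F : (KRR.PY n Y).Modules} (h : Van n Y F) :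
    IsZero ((Scheme.Modules.pushforward (KRR.pr n Y)).obj F) := by
  haveI : PreservesLimitsOfSize.{0, 0} (Scheme.Modules.pushforward (KRR.pr n Y)) :=
    (Scheme.Modules.pullbackPushforwardAdjunction (KRR.pr n Y)).rightAdjoint_preservesLimits
  haveI : PreservesFiniteLimits (Scheme.Modules.pushforward (KRR.pr n Y)) :=
    PreservesLimitsOfSize.preservesFiniteLimits.{0, 0} _
  exact IsZero.of_iso (h 0)
    ((Functor.rightDerivedZeroIsoSelf (Scheme.Modules.pushforward (KRR.pr n Y))).app F).symm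

theorem shortExact_push {S : ShortComplex (KRR.PY n Y).Modules} (hS : S.ShortExact)
    (h1 : Acyc n Y S.X₁) : (S.map (Scheme.Modules.pushforward (KRR.pr n Y))).ShortExact := by
  haveI : PreservesLimitsOfSize.{0, 0} (Scheme.Modules.pushforward (KRR.pr n Y)) :=
    (Scheme.Modules.pullbackPushforwardAdjunction (KRR.pr n Y)).rightAdjoint_preservesLimits
  haveI : PreservesFiniteLimits (Scheme.Modules.pushforward (KRR.pr n Y)) :=
    PreservesLimitsOfSize.preservesFiniteLimits.{0, 0} _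
  exact Groth.Agent.LD.PE.shortExact_map_of_isZero_R1
    (Scheme.Modules.pushforward (KRR.pr n Y)) hS (h1 1 le_rfl)

theorem isFinLocFree_push_of_acyc [IsNoetherian Y] {F : (KRR.PY n Y).Modules}
    (hF : FlatMod.IsFinLocFree F) (h : Acyc n Y F) :
    FlatMod.IsFinLocFree ((Scheme.Modules.pushforward (KRR.pr n Y)).obj F) := by
  haveI := Groth.Agent.H5.AG.isProper_toBase n Y
  have hcoh : Coh.IsCoh F := Groth.Agent.H4.PSch4.isCoh_of_isFinLocFree F hF
  have hfl := Groth.Agent.LD.KRRPush.isFlatOver_pr n Y F hF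
  have hR : ∀ i : ℕ, 0 < i → IsZero ((Coh.Rpush (KRR.pr n Y) i).obj F) := fun i hi => h i hi
  obtain ⟨-, h2⟩ := Groth.Agent.S2390.result (KRR.pr n Y) F hcoh hfl hR
  intro y
  obtain ⟨U, hyU, he⟩ := h2 y
  exact ⟨U, _, hyU, he⟩

/-- `O(d)`, `-n ≤ d < 0`, has no relative cohomology at all. -/
theorem van_twF (d : ℤ) (h1 : d < 0) (h2 : -(n : ℤ) ≤ d) :
    Van n Y (KRR.twF n Y d (Coh.structureModule (KRR.PY n Y))) := by
  intro q
  have h0 := Groth.Agent.LD.PN.OC.isZero_RpushAb_twistOver n Y d q (by rintro ⟨-, h⟩; omega)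
    (by rintro ⟨-, h⟩; omega)
  have h3 : IsZero ((Coh.RpushAb (KRR.pr n Y) q).obj
      (Coh.toAb (KRR.twF n Y d (Coh.structureModule (KRR.PY n Y))))) :=
    IsZero.of_iso h0 ((Coh.RpushAb (KRR.pr n Y) q).mapIso
      ((SheafOfModules.toSheaf.{u} (KRR.PY n Y).ringCatSheaf).mapIso
        (Groth.Agent.LD.KRRUnit.twFStructureIso n Y d)))
  obtain ⟨e⟩ := Groth.Agent.LD.RP.nonempty_toAb_Rpush_iso (KRR.pr n Y)
    (KRR.twF n Y d (Coh.structureModule (KRR.PY n Y))) q
  exact Groth.Agent.LD.RP.isZero_of_isZero_τ _ (IsZero.of_iso h3 e)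

end Van

section Rel

variable (n : ℕ) (Y : Scheme.{u})

/-- `a'(t) = [p_* O(t - n)]` for `t ≥ n` and `0` for `t < n`. -/
noncomputable def aP (t : ℕ) : SGA6.Kvb Y :=
  if t < n then 0 else KRR.cl Y ((Scheme.Modules.pushforward (KRR.pr n Y)).obj
    (KRR.twF n Y ((t - n : ℕ) : ℤ) (Coh.structureModule (KRR.PY n Y))))

/-- **the Koszul relations among the classes `[p_* O(j)]` in `K(Y)`.** -/
theorem koszul_push_relation [IsNoetherian Y] (e : ℕ) :
    ∑ k ∈ Finset.range (n + 1 + 1), (-1 : ℤ) ^ k • ((n + 1).choose k • aP n Y (e + k)) = 0 := by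
  haveI := Groth.Agent.LD.QCQS.hasInjRes (CohB1.ProjSpaceOver n Y)
  have hOflf : FlatMod.IsFinLocFree (Coh.structureModule (KRR.PY n Y)) :=
    Groth.Agent.LD.KRRUnit.isFinLocFree_structureModule _
  have hOreg : KRR.IsRegSheaf n Y (Coh.structureModule (KRR.PY n Y)) :=
    Groth.Agent.LD.KRRUnit.isRegSheaf_structureModule n Y
  obtain ⟨Ψ, hΨ⟩ : ∃ Ψ : (Proj (CohB1.polyGrading n (ULift.{u} ℤ))).Modules ⥤
      (KRR.PY n Y).Modules, Ψ = Groth.Agent.LD.KRRKos.Ψ (Coh.structureModule (KRR.PY n Y)) :=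
    ⟨_, rfl⟩
  obtain ⟨C, hiso, hX, hW, hses, hW0, hz2⟩ := exists_koszul_data.{u} n ((e : ℤ) - (n : ℤ))
  -- the terms without cohomology
  have hVanT : ∀ k : ℕ, k ≤ n + 1 → e + k < n →
      Van n Y ((Groth.Agent.LD.KRRKos.Ψ (Coh.structureModule (KRR.PY n Y))).obj
        (C.X (k : ℤ))) := by
    intro k hk hek
    obtain ⟨φ⟩ := hiso k hk
    have hv := van_twF (n := n) (Y := Y) ((e : ℤ) - (n : ℤ) + (k : ℤ)) (by omega) (by omega)
    have hv2 : Van n Y ((Groth.Agent.LD.KRRKos.Ψ (Coh.structureModule (KRR.PY n Y))).obj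
        (∐ fun _ : Fin (Nat.choose (n + 1) k) =>
          Twist.twist (CohB1.polyGrading n (ULift.{u} ℤ)) ((e : ℤ) - (n : ℤ) + (k : ℤ)))) :=
      fun q => Groth.Agent.LD.KRRKos.isZero_obj_sigma
        (Groth.Agent.LD.KRRKos.Ψ (Coh.structureModule (KRR.PY n Y)) ⋙
          Coh.Rpush (KRR.pr n Y) q) _ _ (hv q)
    exact van_of_iso
      ((Groth.Agent.LD.KRRKos.Ψ (Coh.structureModule (KRR.PY n Y))).mapIso φ.symm) hv2
  -- the regular terms
  have hRegT : ∀ k : ℕ, k ≤ n + 1 → n ≤ e + k →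
      RegP n Y ((Groth.Agent.LD.KRRKos.Ψ (Coh.structureModule (KRR.PY n Y))).obj
        (C.X (k : ℤ))) := by
    intro k hk hek
    obtain ⟨φ⟩ := hiso k hk
    have hd : ((e : ℤ) - (n : ℤ) + (k : ℤ)) = ((e + k - n : ℕ) : ℤ) := by omega
    rw [hd] at φ
    exact ⟨isFinLocFree_Ψ n Y _ hOflf _ (hX (k : ℤ)),
      Groth.Agent.LD.KRRKos.isRegSheaf_of_iso
        ((Groth.Agent.LD.KRRKos.Ψ (Coh.structureModule (KRR.PY n Y))).mapIso φ.symm)
        (isRegSheaf_Ψ_sigma n Y _ hOreg (e + k - n) _)⟩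
  have hflfW : ∀ z : ℤ, -1 ≤ z → FlatMod.IsFinLocFree
      ((Groth.Agent.LD.KRRKos.Ψ (Coh.structureModule (KRR.PY n Y))).obj
        (kernel (C.d z (z + 1)))) :=
    fun z hz => isFinLocFree_Ψ n Y _ hOflf _ (hW z hz)
  -- the kernels without cohomology
  have hVanW : ∀ k : ℕ, e + k ≤ n →
      Van n Y ((Groth.Agent.LD.KRRKos.Ψ (Coh.structureModule (KRR.PY n Y))).obj
        (kernel (C.d (k : ℤ) ((k : ℤ) + 1)))) := by
    intro k
    induction k with
    | zero =>
      intro _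
      rw [Nat.cast_zero]
      exact van_of_isZero
        ((Groth.Agent.LD.KRRKos.Ψ (Coh.structureModule (KRR.PY n Y))).map_isZero hW0)
    | succ k ih =>
      intro hek
      have hc : ((k + 1 : ℕ) : ℤ) = (k : ℤ) + 1 := by push_cast; ring
      rw [hc]
      obtain ⟨w, hse⟩ := hses (k : ℤ)
      have hSE := Groth.Agent.LD.KRRKos.shortExact_map_Ψ (Coh.structureModule (KRR.PY n Y)) _
        hse (hW ((k : ℤ) + 1) (by omega))
      have h3 := van_X₃ hSE (ih (by omega)) (hVanT k (by omega) (by omega))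
      exact h3
  -- all the kernels are acyclic
  have hAcW : ∀ k : ℕ, k ≤ n + 1 + 1 →
      Acyc n Y ((Groth.Agent.LD.KRRKos.Ψ (Coh.structureModule (KRR.PY n Y))).obj
        (kernel (C.d (k : ℤ) ((k : ℤ) + 1)))) := by
    intro k
    induction k with
    | zero =>
      intro _
      rw [Nat.cast_zero]
      exact acyc_of_van (van_of_isZero
        ((Groth.Agent.LD.KRRKos.Ψ (Coh.structureModule (KRR.PY n Y))).map_isZero hW0))
    | succ k ih =>
      intro hk
      by_cases hek : e + (k + 1) ≤ n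
      · exact acyc_of_van (hVanW (k + 1) hek)
      · have hc : ((k + 1 : ℕ) : ℤ) = (k : ℤ) + 1 := by push_cast; ring
        rw [hc]
        obtain ⟨w, hse⟩ := hses (k : ℤ)
        have hSE := Groth.Agent.LD.KRRKos.shortExact_map_Ψ (Coh.structureModule (KRR.PY n Y)) _
          hse (hW ((k : ℤ) + 1) (by omega))
        have h3 := acyc_X₃ hSE (ih (by omega))
          (acyc_of_reg (hRegT k (by omega) (by omega)).2)
        exact h3
  -- the classes
  obtain ⟨aa, haa⟩ : ∃ aa : ℕ → SGA6.Kvb Y, ∀ k : ℕ, aa k =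
      if e + k < n then 0 else KRR.cl Y ((Scheme.Modules.pushforward (KRR.pr n Y)).obj
        ((Groth.Agent.LD.KRRKos.Ψ (Coh.structureModule (KRR.PY n Y))).obj (C.X (k : ℤ)))) :=
    ⟨_, fun _ => rfl⟩
  obtain ⟨zz, hzz⟩ : ∃ zz : ℕ → SGA6.Kvb Y, ∀ k : ℕ, zz k =
      if e + k < n then 0 else KRR.cl Y ((Scheme.Modules.pushforward (KRR.pr n Y)).obj
        ((Groth.Agent.LD.KRRKos.Ψ (Coh.structureModule (KRR.PY n Y))).obj
          (kernel (C.d (k : ℤ) ((k : ℤ) + 1))))) := ⟨_, fun _ => rfl⟩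
  have hrel : ∀ k : ℕ, k ≤ n + 1 → aa k = zz k + zz (k + 1) := by
    intro k hk
    rw [haa, hzz, hzz]
    by_cases h1 : e + k < n
    · by_cases h2 : e + (k + 1) < n
      · simp only [if_pos h1, if_pos h2, add_zero]
      · simp only [if_pos h1, if_neg h2, zero_add]
        exact (cl_zero' (isZero_push_of_van (hVanW (k + 1) (by omega)))).symm
    · have h2 : ¬ (e + (k + 1) < n) := by omega
      simp only [if_neg h1, if_neg h2]
      have hc : ((k + 1 : ℕ) : ℤ) = (k : ℤ) + 1 := by push_cast; ring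
      rw [hc]
      obtain ⟨w, hse⟩ := hses (k : ℤ)
      have hSE := Groth.Agent.LD.KRRKos.shortExact_map_Ψ (Coh.structureModule (KRR.PY n Y)) _
        hse (hW ((k : ℤ) + 1) (by omega))
      have hAk := hAcW k (by omega)
      have hAk1 := hAcW (k + 1) (by omega)
      rw [hc] at hAk1
      have hSEp := shortExact_push hSE hAk
      have h := cl_ses' _ hSEp
        (isFinLocFree_push_of_acyc (hflfW (k : ℤ) (by omega)) hAk)
        (Groth.Agent.LD.KRRPush.isFinLocFree_push_of_reg n Y _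
          (hRegT k hk (by omega)).1 (hRegT k hk (by omega)).2)
        (isFinLocFree_push_of_acyc (hflfW ((k : ℤ) + 1) (by omega)) hAk1)
      exact h
  have htel := telescope' aa zz (n + 1) hrel
  have hz0 : zz 0 = 0 := by
    rw [hzz]
    by_cases h1 : e + 0 < n
    · simp only [if_pos h1]
    · simp only [if_neg h1]
      rw [Nat.cast_zero]
      exact cl_zero' ((Scheme.Modules.pushforward (KRR.pr n Y)).map_isZero
        ((Groth.Agent.LD.KRRKos.Ψ (Coh.structureModule (KRR.PY n Y))).map_isZero hW0))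
  have hzlast : zz (n + 1 + 1) = 0 := by
    rw [hzz]
    have h1 : ¬ (e + (n + 1 + 1) < n) := by omega
    simp only [if_neg h1]
    have hk : IsZero (kernel (C.d ((n + 1 + 1 : ℕ) : ℤ) (((n + 1 + 1 : ℕ) : ℤ) + 1))) :=
      IsZero.of_mono (kernel.ι _) hz2
    exact cl_zero' ((Scheme.Modules.pushforward (KRR.pr n Y)).map_isZero
      ((Groth.Agent.LD.KRRKos.Ψ (Coh.structureModule (KRR.PY n Y))).map_isZero hk))
  have hterm : ∀ k ∈ Finset.range (n + 1 + 1), aa k = (n + 1).choose k • aP n Y (e + k) := by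
    intro k hk
    have hk' : k ≤ n + 1 := by
      have := Finset.mem_range.1 hk
      omega
    rw [haa]
    unfold aP
    by_cases h1 : e + k < n
    · simp only [if_pos h1, smul_zero]
    · simp only [if_neg h1]
      obtain ⟨φ⟩ := hiso k hk'
      have hd : ((e : ℤ) - (n : ℤ) + (k : ℤ)) = ((e + k - n : ℕ) : ℤ) := by omega
      rw [hd] at φ
      have hreg := hRegT k hk' (by omega)
      rw [Groth.Agent.LD.KRRUnit.cl_eq_of_iso
        ((Scheme.Modules.pushforward (KRR.pr n Y)).mapIso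
          ((Groth.Agent.LD.KRRKos.Ψ (Coh.structureModule (KRR.PY n Y))).mapIso φ))
        (Groth.Agent.LD.KRRPush.isFinLocFree_push_of_reg n Y _ hreg.1 hreg.2)]
      have hsig := cl_map_sigma_vb (X := Y)
        (Groth.Agent.LD.KRRKos.Ψ (Coh.structureModule (KRR.PY n Y)) ⋙
          Scheme.Modules.pushforward (KRR.pr n Y))
        (Twist.twist (CohB1.polyGrading n (ULift.{u} ℤ)) ((e + k - n : ℕ) : ℤ))
        (fun r => Groth.Agent.LD.KRRPush.isFinLocFree_push_of_reg n Y _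
          (isFinLocFree_Ψ n Y _ hOflf _
            (Groth.Agent.LD.SC.isFinLocFree_sigma_of_isInvertible _
              (Groth.Agent.LD.PN.isInvertible_twist n (ULift.{u} ℤ) _) r))
          (isRegSheaf_Ψ_sigma n Y _ hOreg (e + k - n) r))
        (Groth.Agent.LD.KRRPush.isFinLocFree_push_of_reg n Y _
          (isFinLocFree_twF n Y _ _ hOflf)
          (Groth.Agent.LD.KRRKos.main _ hOreg (e + k - n)))
        (Nat.choose (n + 1) k)
      exact hsig
  calc ∑ k ∈ Finset.range (n + 1 + 1), (-1 : ℤ) ^ k • ((n + 1).choose k • aP n Y (e + k))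
      = ∑ k ∈ Finset.range (n + 1 + 1), (-1 : ℤ) ^ k • aa k :=
        Finset.sum_congr rfl (fun k hk => by rw [hterm k hk])
    _ = zz 0 + (-1 : ℤ) ^ (n + 1) • zz (n + 1 + 1) := htel
    _ = 0 := by rw [hz0, hzlast, smul_zero, add_zero]

theorem aP_low (t : ℕ) (ht : t < n) : aP n Y t = 0 := by
  unfold aP
  rw [if_pos ht]

theorem aP_n : aP n Y n = KRR.cl Y (Coh.structureModule Y) := by
  unfold aP
  rw [if_neg (lt_irrefl n), Nat.sub_self, Nat.cast_zero]
  rw [Groth.Agent.LD.KRRUnit.cl_eq_of_iso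
    ((Scheme.Modules.pushforward (KRR.pr n Y)).mapIso
      (Groth.Agent.LD.KRRKos.tw0Iso (Coh.structureModule (KRR.PY n Y))))
    ?_]
  · exact Groth.Agent.LD.KRRUnit.cl_eq_of_iso (Groth.Agent.LD.KRRUnit.pushStructureIso n Y)
      (Groth.Agent.H2.FlC.isFinLocFree_of_iso (Groth.Agent.LD.KRRUnit.pushStructureIso n Y).symm
        (Groth.Agent.LD.KRRUnit.isFinLocFree_structureModule Y))
  · exact Groth.Agent.H2.FlC.isFinLocFree_of_iso
      ((Scheme.Modules.pushforward (KRR.pr n Y)).mapIso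
        (Groth.Agent.LD.KRRKos.tw0Iso (Coh.structureModule (KRR.PY n Y))) ≪≫
        Groth.Agent.LD.KRRUnit.pushStructureIso n Y).symm
      (Groth.Agent.LD.KRRUnit.isFinLocFree_structureModule Y)

/-- **`[p_* O(m)] = binom(n+m, n) [O_Y]`.** -/
theorem cl_push_tw [IsNoetherian Y] (m : ℕ) :
    KRR.cl Y ((Scheme.Modules.pushforward (KRR.pr n Y)).obj
      (KRR.twF n Y (m : ℤ) (Coh.structureModule (KRR.PY n Y)))) =
      (n + m).choose n • KRR.cl Y (Coh.structureModule Y) := by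
  have h := Groth.Agent.LD.KRRAlg.solve_rec n (KRR.cl Y (Coh.structureModule Y)) (aP n Y)
    (aP_low n Y) (aP_n n Y) (koszul_push_relation n Y) (n + m)
  unfold aP at h
  rw [if_neg (by omega), Nat.add_sub_cancel_left] at h
  exact h

end Rel

section Main

variable {n : ℕ} {Y : Scheme.{u}} [IsNoetherian Y]
  {KP : Type*} [CommRing KP] {KY : Type*} [CommRing KY] [LambdaRing.LambdaOps KY]
  {PY : LambdaRing.PosStructure KY}
  {φP : SGA6.Kvb (KRR.PY n Y) →+ KP} {φY : SGA6.Kvb Y →+ KY} (hKY : KRR.IsModel Y KY PY φY)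
  {g : KP →+ KY} (hg : KRR.IsPushPr n Y φP φY g)

include hKY hg

/-- **S3760**. -/
theorem pushK_tw (m : ℕ) :
    g (φP (KRR.cl (KRR.PY n Y) (KRR.twF n Y (m : ℤ) (Coh.structureModule (KRR.PY n Y))))) =
      (Nat.choose (n + m) m : KY) := by
  have hOflf : FlatMod.IsFinLocFree (Coh.structureModule (KRR.PY n Y)) :=
    Groth.Agent.LD.KRRUnit.isFinLocFree_structureModule _
  have hOreg : KRR.IsRegSheaf n Y (Coh.structureModule (KRR.PY n Y)) :=
    Groth.Agent.LD.KRRUnit.isRegSheaf_structureModule n Y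
  rw [hg _ (isFinLocFree_twF n Y _ _ hOflf) (Groth.Agent.LD.KRRKos.main _ hOreg m),
    cl_push_tw n Y m, map_nsmul, hKY.map_one, nsmul_one, Nat.choose_symm_add]

/-- **S3761**. -/
theorem pushK_tw_neg : ∀ i : ℕ, 1 ≤ i → i ≤ n →
    g (φP (KRR.cl (KRR.PY n Y) (KRR.twF n Y (-(i : ℤ)) (Coh.structureModule (KRR.PY n Y))))) =
      0 := by
  have hOflf : FlatMod.IsFinLocFree (Coh.structureModule (KRR.PY n Y)) :=
    Groth.Agent.LD.KRRUnit.isFinLocFree_structureModule _
  have hOreg : KRR.IsRegSheaf n Y (Coh.structureModule (KRR.PY n Y)) :=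
    Groth.Agent.LD.KRRUnit.isRegSheaf_structureModule n Y
  intro i
  induction i using Nat.strong_induction_on with
  | _ i ih =>
    intro hi hin
    -- the relation in `K(P)`, pushed to `KY`
    have hP := koszul_relation n Y (Coh.structureModule (KRR.PY n Y)) hOflf (-(i : ℤ))
    have hP2 := congrArg (fun x => g (φP x)) hP
    simp only [map_sum, map_zsmul, map_nsmul, map_zero] at hP2
    -- the relation in `K(Y)`
    have hY := koszul_push_relation n Y (n - i)
    have hY2 := congrArg (fun x => φY x) hY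
    simp only [map_sum, map_zsmul, map_nsmul, map_zero] at hY2
    rw [Finset.sum_range_succ'] at hP2 hY2
    have hcongr : ∑ k ∈ Finset.range (n + 1), (-1 : ℤ) ^ (k + 1) • ((n + 1).choose (k + 1) •
        g (φP (KRR.cl (KRR.PY n Y) (KRR.twF n Y (-(i : ℤ) + ((k + 1 : ℕ) : ℤ))
          (Coh.structureModule (KRR.PY n Y)))))) =
        ∑ k ∈ Finset.range (n + 1), (-1 : ℤ) ^ (k + 1) • ((n + 1).choose (k + 1) •
          φY (aP n Y (n - i + (k + 1)))) := by
      refine Finset.sum_congr rfl (fun k hk => ?_)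
      have hk' : k < n + 1 := Finset.mem_range.1 hk
      congr 2
      by_cases hki : k + 1 < i
      · -- both vanish
        have hd : (-(i : ℤ) + ((k + 1 : ℕ) : ℤ)) = -((i - (k + 1) : ℕ) : ℤ) := by omega
        rw [hd, ih (i - (k + 1)) (by omega) (by omega) (by omega),
          aP_low n Y _ (by omega), map_zero]
      · -- regular
        have hd : (-(i : ℤ) + ((k + 1 : ℕ) : ℤ)) = ((n - i + (k + 1) - n : ℕ) : ℤ) := by omega
        rw [hd, hg _ (isFinLocFree_twF n Y _ _ hOflf)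
          (Groth.Agent.LD.KRRKos.main _ hOreg (n - i + (k + 1) - n))]
        unfold aP
        rw [if_neg (by omega)]
    rw [hcongr] at hP2
    have h0 : φY (aP n Y (n - i + 0)) = 0 := by
      rw [aP_low n Y _ (by omega), map_zero]
    rw [h0, smul_zero, smul_zero, add_zero] at hY2
    rw [hY2, zero_add, pow_zero, one_smul, Nat.choose_zero_right, one_smul, Nat.cast_zero,
      add_zero] at hP2
    exact hP2

end Main

end Groth.Agent.LD.KRRTw
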