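import Mathlib
import Groth.Agent.Lib.Helper5.SD.PencilA
import Groth.Agent.Lib.Helper5.GG.Tensor
import Groth.Agent.Lib.Helper5.GG.Ext
import Groth.Agent.Lib.Lead.QC.AmpleGG
import Groth.Agent.Lib.Lead.QC.ProjFormulaLF

/-! # The kernel of an evaluation map `O^{n+1} ↠ L`, twisted by `L`, is globally generated

The Koszul map `E ⊗ E ⟶ E ⊗ L`, `e ⊗ e' ↦ e ⊗ p e' - e' ⊗ p e` lands in `ker p ⊗ L` and is an
epimorphism onto it. -/

set_option autoImplicit false
set_option linter.style.haveILetI false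
noncomputable section
universe u
open CategoryTheory Limits AlgebraicGeometry TopologicalSpace Opposite

namespace Groth.Agent.LD.KerEvGG
open Groth.Agent.LD Groth.Agent.LD.QC

variable {X : Scheme.{u}}

lemma tensorMap_left_tmul (E : X.Modules) {N N' : X.Modules} (g : N ⟶ N') (U : X.Opens)
    (a : Γ(E, U)) (b : Γ(N, U)) :
    (KoszTw.tensorMap (𝟙 E) g).app U (SecTwist.tmul E N U a b) =
      SecTwist.tmul E N' U a (g.app U b) := by
  rw [KoszTw.tensorMap_tmul]; rfl

lemma tensorMap_right_tmul {M M' : X.Modules} (f : M ⟶ M') (N : X.Modules) (U : X.Opens)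
    (a : Γ(M, U)) (b : Γ(N, U)) :
    (KoszTw.tensorMap f (𝟙 N)).app U (SecTwist.tmul M N U a b) =
      SecTwist.tmul M' N U (f.app U a) b := by
  rw [KoszTw.tensorMap_tmul]; rfl

theorem tensorMap_zero_id' {G H M : X.Modules} :
    KoszTw.tensorMap (0 : G ⟶ H) (𝟙 M) = 0 := by
  apply hom_ext_tmul
  intro U g m
  rw [KoszTw.tensorMap_tmul]
  change SecTwist.tmul H M U 0 _ = 0
  exact tmul_zero_left H M U _

/-- **the Koszul trick**: if `p : E ↠ L` with `L` invertible and `E ⊗ E` is globally generated then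
`ker p ⊗ L` is globally generated. -/
theorem main {E L : X.Modules} (hL : PicF.IsInvertible L) (p : E ⟶ L) (hp : Epi p)
    (hE : Curv2.IsGloballyGenerated (CohB1.tensorMod E E)) :
    Curv2.IsGloballyGenerated (CohB1.tensorMod (kernel p) L) := by
  haveI := hp
  have hS : (ShortComplex.mk (kernel.ι p) p (kernel.condition p)).ShortExact :=
    { exact := ShortComplex.exact_kernel p
      mono_f := inferInstanceAs (Mono (kernel.ι p))
      epi_g := hp }
  have hS' := shortExact_tensorMap_of_isInvertible hS L hL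
  haveI : Mono (KoszTw.tensorMap (kernel.ι p) (𝟙 L)) := hS'.mono_f
  have hcomm : KoszTw.tensorMap (𝟙 E) p ≫ KoszTw.tensorMap p (𝟙 L) =
      (KoszTw.tensorMap p (𝟙 E) ≫ (tensorCommAll L E).hom) ≫ KoszTw.tensorMap p (𝟙 L) := by
    apply hom_ext_tmul
    intro U a b
    rw [Scheme.Modules.Hom.comp_app, Scheme.Modules.Hom.comp_app, Scheme.Modules.Hom.comp_app,
      ConcreteCategory.comp_apply, ConcreteCategory.comp_apply, ConcreteCategory.comp_apply,
      tensorMap_left_tmul, tensorMap_right_tmul, tensorMap_right_tmul,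
      tensorCommAll_hom_app_tmul, tensorMap_right_tmul]
    exact H5.SD.tmul_comm_of_isInvertible hL U _ _
  obtain ⟨Φ, hΦdef⟩ : ∃ Φ : CohB1.tensorMod E E ⟶ CohB1.tensorMod E L,
      Φ = KoszTw.tensorMap (𝟙 E) p - KoszTw.tensorMap p (𝟙 E) ≫ (tensorCommAll L E).hom :=
    ⟨_, rfl⟩
  have hΦ : Φ ≫ KoszTw.tensorMap p (𝟙 L) = 0 := by
    rw [hΦdef, Preadditive.sub_comp, hcomm, sub_self]
  have hlift := hS'.exact.lift' Φ hΦ
  obtain ⟨Φ', hΦ'⟩ := hlift
  change Φ' ≫ KoszTw.tensorMap (kernel.ι p) (𝟙 L) = Φ at hΦ'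
  have e1 : KoszTw.tensorMap (kernel.ι p) (𝟙 E) ≫ KoszTw.tensorMap (𝟙 E) p =
      KoszTw.tensorMap (kernel.ι p) p := by
    rw [← KoszTw.tensorMap_comp, Category.comp_id, Category.id_comp]
  have e2 : KoszTw.tensorMap (kernel.ι p) (𝟙 E) ≫ KoszTw.tensorMap p (𝟙 E) = 0 := by
    rw [← KoszTw.tensorMap_comp, kernel.condition, Category.comp_id, tensorMap_zero_id']
  have e3 : KoszTw.tensorMap (𝟙 (kernel p)) p ≫ KoszTw.tensorMap (kernel.ι p) (𝟙 L) =
      KoszTw.tensorMap (kernel.ι p) p := by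
    rw [← KoszTw.tensorMap_comp, Category.comp_id, Category.id_comp]
  have hres : KoszTw.tensorMap (kernel.ι p) (𝟙 E) ≫ Φ' = KoszTw.tensorMap (𝟙 (kernel p)) p := by
    apply (cancel_mono (KoszTw.tensorMap (kernel.ι p) (𝟙 L))).mp
    rw [Category.assoc, hΦ', e3, hΦdef, Preadditive.comp_sub, e1, ← Category.assoc, e2, zero_comp,
      sub_zero]
  haveI : Epi (KoszTw.tensorMap (𝟙 (kernel p)) p) := by
    rw [← KoszTw.tensorBi_obj_map]
    exact (inferInstance : Epi ((LT (kernel p)).map p))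
  haveI : Epi Φ' := epi_of_epi_fac hres
  exact H5.GG.isGloballyGenerated_of_epi Φ' inferInstance hE

/-- the case of a finite free `E`. -/
theorem main' (L : X.Modules) (hL : PicF.IsInvertible L) (n : ℕ) (p : FlatMod.freeMod X n ⟶ L)
    (hp : Epi p) : Curv2.IsGloballyGenerated (CohB1.tensorMod (kernel p) L) :=
  main hL p hp (H5.GG.isGloballyGenerated_tensorMod_of_epi_freeMod _ _
    (isGloballyGenerated_of_epi_freeMod (𝟙 (FlatMod.freeMod X n)) inferInstance) n (𝟙 _)
    inferInstance)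

end Groth.Agent.LD.KerEvGG
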