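import Groth.Agent.Lib.Lead.KS.Chase

/-!
# Koszul systems: exactness in a range of degrees, and a finite chase (lead)

Variants of `KS.Base.koszul_exact` and `KS.Base.koszul_surj` for graded families `G e` whose
operators are only known to be locally bijective for `e ≥ e₀`, and with cohomology vanishing
hypotheses only in the range given by the length of the Koszul complex.
-/

universe u
open CategoryTheory Limits AlgebraicGeometry TopologicalSpace Opposite ZeroObject

namespace Groth.Agent.LD.KS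

open QC

variable {X : Scheme.{u}} {ι : Type}

/-- `T l` is bijective on sections over opens inside `V`, in degrees `e ≥ e₀`. -/
def KSys.TBge (S : KSys X ι) (e₀ : ℤ) (l : ι) (V : X.Opens) : Prop :=
  ∀ (e p : ℤ), e₀ ≤ e → ∀ (W : X.Opens), W ≤ V → Function.Bijective ((S.T l e p).app W)

/-- local exactness over `V`, in degrees `e ≥ e₀`. -/
def KSys.LEge (S : KSys X ι) (e₀ : ℤ) (V : X.Opens) : Prop :=
  ∀ (e p : ℤ), e₀ ≤ e → ∀ (W : X.Opens), W ≤ V → ∀ t : Γ(S.K e (p+1), W),
    (S.d e (p+1)).app W t = 0 →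
    ∀ x : X, x ∈ W → ∃ (W' : X.Opens) (hW' : W' ≤ W), x ∈ W' ∧ ∃ s : Γ(S.K e p, W'),
      (S.d e p).app W' s = (S.K e (p+1)).presheaf.map (homOfLE hW').op t

theorem KSys.TBge.cone {S : KSys X ι} {e₀ : ℤ} {l : ι} {V : X.Opens} (h : S.TBge e₀ l V) (k : ι) :
    (S.cone k).TBge e₀ l V := by
  intro e p he W hW
  have h1 := h e (p+1) he W hW
  have h2 := h (e+1) p (by omega) W hW
  constructor
  · intro t t' htt
    apply bext
    · apply h1.1
      rw [← cone_T_fst, ← cone_T_fst, htt]
    · apply h2.1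
      rw [← cone_T_snd, ← cone_T_snd, htt]
  · intro u
    obtain ⟨a, ha⟩ := h1.2 ((biprod.fst : S.K (e+1) (p+1) ⊞ S.K (e+1+1) p ⟶ _).app W u)
    obtain ⟨b, hb⟩ := h2.2 ((biprod.snd : S.K (e+1) (p+1) ⊞ S.K (e+1+1) p ⟶ _).app W u)
    refine ⟨bmk _ _ W a b, ?_⟩
    apply bext
    · rw [cone_T_fst, bfst_bmk, ha]
    · rw [cone_T_snd, bsnd_bmk, hb]

/-- the cone of an operator which is bijective on sections is locally exact. -/
theorem KSys.LEge_cone_of_TBge {S : KSys X ι} {e₀ : ℤ} {k : ι} {V : X.Opens}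
    (h : S.TBge e₀ k V) : (S.cone k).LEge e₀ V := by
  intro e p he W hW t ht x hx
  obtain ⟨hfst, hsnd⟩ := cone_d_zero S k e (p+1) W t ht
  obtain ⟨a', ha'⟩ := (h e (p+1) he W hW).2
    ((biprod.snd : S.K e (p+1+1) ⊞ S.K (e+1) (p+1) ⟶ _).app W t)
  refine ⟨W, le_rfl, hx, bmk _ _ W a' 0, ?_⟩
  rw [res_self]
  apply bext
  · rw [cone_d_fst, bfst_bmk]
    apply (h e (p+1+1) he W hW).1
    rw [map_neg, ← Td_app, ha']
    have h3 := eq_neg_of_add_eq_zero_left hsnd
    rw [h3]
  · rw [cone_d_snd, bfst_bmk, bsnd_bmk, map_zero, add_zero, ha']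

/-- the cone of an operator on a locally exact system is locally exact. -/
theorem KSys.LEge.cone {S : KSys X ι} {e₀ : ℤ} {V : X.Opens} (h : S.LEge e₀ V) (k : ι) :
    (S.cone k).LEge e₀ V := by
  intro e p he W hW t ht x hx
  obtain ⟨hda, hsnd⟩ := cone_d_zero S k e (p+1) W t ht
  set a := (biprod.fst : S.K e (p+1+1) ⊞ S.K (e+1) (p+1) ⟶ _).app W t with ha
  set b := (biprod.snd : S.K e (p+1+1) ⊞ S.K (e+1) (p+1) ⟶ _).app W t with hb
  obtain ⟨W₁, hW₁, hxW₁, a₁, ha₁⟩ := h e (p+1) he W hW a hda x hx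
  have hc : (S.d (e+1) (p+1)).app W₁ ((S.K (e+1) (p+1)).presheaf.map (homOfLE hW₁).op b +
      (S.T k e (p+1)).app W₁ a₁) = 0 := by
    rw [map_add, Td_app, ha₁, app_res, app_res, ← map_add]
    have h4 : (S.d (e+1) (p+1)).app W b + (S.T k e (p+1+1)).app W a = 0 :=
      (add_comm _ _).trans hsnd
    rw [h4, map_zero]
  obtain ⟨W₂, hW₂, hxW₂, b', hb'⟩ := h (e+1) p (by omega) W₁ (hW₁.trans hW) _ hc x hxW₁
  refine ⟨W₂, hW₂.trans hW₁, hxW₂,
    bmk _ _ W₂ (-((S.K e (p+1)).presheaf.map (homOfLE hW₂).op a₁)) b', ?_⟩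
  have hR1 : (biprod.fst : S.K e (p+1+1) ⊞ S.K (e+1) (p+1) ⟶ _).app W₂
      (((S.cone k).K e (p+1)).presheaf.map (homOfLE (hW₂.trans hW₁)).op t) =
      (S.K e (p+1+1)).presheaf.map (homOfLE (hW₂.trans hW₁)).op a :=
    app_res (biprod.fst : S.K e (p+1+1) ⊞ S.K (e+1) (p+1) ⟶ _) _ t
  have hR2 : (biprod.snd : S.K e (p+1+1) ⊞ S.K (e+1) (p+1) ⟶ _).app W₂
      (((S.cone k).K e (p+1)).presheaf.map (homOfLE (hW₂.trans hW₁)).op t) =
      (S.K (e+1) (p+1)).presheaf.map (homOfLE (hW₂.trans hW₁)).op b :=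
    app_res (biprod.snd : S.K e (p+1+1) ⊞ S.K (e+1) (p+1) ⟶ _) _ t
  apply bext
  · rw [cone_d_fst, bfst_bmk, map_neg, neg_neg, app_res, ha₁, res_res]
    exact hR1.symm
  · rw [cone_d_snd, bfst_bmk, bsnd_bmk, hb', map_neg, map_add, app_res, res_res]
    refine Eq.trans ?_ hR2.symm
    abel

namespace Base
variable (B : Base X ι)

lemma sys_TBge (e₀ : ℤ) (l : ι) (V : X.Opens)
    (hbij : ∀ (e : ℤ), e₀ ≤ e → ∀ (W : X.Opens), W ≤ V → Function.Bijective ((B.t l e).app W)) :
    B.sys.TBge e₀ l V := by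
  intro e p he W hW
  match p with
  | Int.ofNat 0 => exact hbij e he W hW
  | Int.ofNat (_+1) =>
    refine ⟨fun a b _ => ?_, fun b => ⟨0, ?_⟩⟩
    · rw [section_eq_zero_of_isZero _ (isZero_zero _) a,
        section_eq_zero_of_isZero _ (isZero_zero _) b]
    · exact (map_zero _).trans (section_eq_zero_of_isZero _ (isZero_zero _) b).symm
  | Int.negSucc _ =>
    refine ⟨fun a b _ => ?_, fun b => ⟨0, ?_⟩⟩
    · rw [section_eq_zero_of_isZero _ (isZero_zero _) a,
        section_eq_zero_of_isZero _ (isZero_zero _) b]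
    · exact (map_zero _).trans (section_eq_zero_of_isZero _ (isZero_zero _) b).symm

lemma koszul_TBge (e₀ : ℤ) (l : ι) (V : X.Opens)
    (hbij : ∀ (e : ℤ), e₀ ≤ e → ∀ (W : X.Opens), W ≤ V → Function.Bijective ((B.t l e).app W))
    (L : List ι) : (B.koszul L).TBge e₀ l V := by
  induction L with
  | nil => exact B.sys_TBge e₀ l V hbij
  | cons m L ih => exact ih.cone m

lemma koszul_LEge (e₀ : ℤ) (l : ι) (V : X.Opens)
    (hbij : ∀ (e : ℤ), e₀ ≤ e → ∀ (W : X.Opens), W ≤ V → Function.Bijective ((B.t l e).app W))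
    (L : List ι) (hl : l ∈ L) : (B.koszul L).LEge e₀ V := by
  induction L with
  | nil => exact absurd hl (List.not_mem_nil)
  | cons m L ih =>
    by_cases hm : m = l
    · subst hm
      exact KSys.LEge_cone_of_TBge (B.koszul_TBge e₀ m V hbij L)
    · have : l ∈ L := by
        rcases List.mem_cons.1 hl with h | h
        · exact absurd h.symm hm
        · exact h
      exact (ih this).cone m

/-- **exactness of the Koszul system in degrees `e ≥ e₀`**: if every point has a neighbourhood on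
which one of the operators of the list is bijective on sections in all degrees `≥ e₀`, then the
Koszul complexes in degrees `≥ e₀` are exact. -/
theorem koszul_exact_ge (e₀ : ℤ) (L : List ι) (D : ι → X.Opens)
    (hcov : ∀ x : X, ∃ l ∈ L, x ∈ D l)
    (hbij : ∀ (l : ι) (e : ℤ), e₀ ≤ e → ∀ (W : X.Opens), W ≤ D l →
      Function.Bijective ((B.t l e).app W))
    (e p : ℤ) (he : e₀ ≤ e) :
    (ShortComplex.mk ((B.koszul L).d e p) ((B.koszul L).d e (p+1)) ((B.koszul L).dd e p)).Exact := by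
  apply exact_of_local
  intro U t ht x hx
  obtain ⟨l, hl, hxl⟩ := hcov x
  have hLE := B.koszul_LEge e₀ l (D l) (hbij l) L hl
  have ht' : ((B.koszul L).d e (p+1)).app (U ⊓ D l)
      (((B.koszul L).K e (p+1)).presheaf.map (homOfLE (inf_le_left : U ⊓ D l ≤ U)).op t) = 0 := by
    rw [app_res]
    exact (congrArg _ ht).trans (map_zero _)
  obtain ⟨W', hW', hxW', s, hs⟩ := hLE e p he (U ⊓ D l) inf_le_right _ ht' x ⟨hx, hxl⟩
  refine ⟨W', hW'.trans inf_le_left, hxW', s, ?_⟩
  rw [hs, res_res]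

end Base

section Chase
variable (K : ℤ → X.Modules) (d : ∀ p, K p ⟶ K (p+1)) (dd : ∀ p, d p ≫ d (p+1) = 0)
  (hex : ∀ p, (ShortComplex.mk (d p) (d (p+1)) (dd p)).Exact)

include hex in
/-- in an exact complex, the cycles after a zero term vanish. -/
theorem isZero_kernel_succ (p : ℤ) (hz : IsZero (K p)) : IsZero (kernel (d (p+1))) := by
  haveI : Mono (d (p+1)) := (hex p).mono_g (hz.eq_of_src _ _)
  exact isZero_kernel_of_mono _

include hex in
/-- the finite chase: vanishing of the cohomology of the cycles from finitely many terms. -/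
theorem chase_vanish' :
    ∀ (m s : ℕ) (q p : ℤ) (s' : ℕ), p + m = q → s' = s + m →
      Subsingleton (Coh.HH X (kernel (d p)) s') →
      (∀ (j : ℕ) (r : ℤ) (t : ℕ), j < m → r + 1 + j = q → t = s + j →
        Subsingleton (Coh.HH X (K r) t)) →
      Subsingleton (Coh.HH X (kernel (d q)) s) := by
  intro m
  induction m with
  | zero =>
    intro s q p s' hp hs' h0 _
    have hpq : p = q := by simpa using hp
    subst hpq
    subst hs'
    exact h0
  | succ m ih =>
    intro s q p s' hp hs' h0 hv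
    refine vanish_step K d dd hex (q - 1) q (by ring) s
      (hv 0 (q - 1) s (by omega) (by simp) (by simp)) ?_
    refine ih (s + 1) (q - 1) p s' (by push_cast at hp; omega) (by omega) h0
      (fun j r t hj hr ht => ?_)
    exact hv (j + 1) r t (by omega) (by push_cast; omega) (by omega)

end Chase

namespace Base
variable (B : Base X ι) (L : List ι) (e : ℤ)
  (hex : ∀ p : ℤ, (ShortComplex.mk ((B.koszul L).d e p) ((B.koszul L).d e (p+1))
    ((B.koszul L).dd e p)).Exact)

include hex in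
/-- **generation from the Koszul system, finite form**: every global section of `G g` is a sum of
images of global sections of `G (g-1)` under the operators, as soon as `H^{1+j}(G (g-2-j)) = 0`
for `0 ≤ j < m`, where `m + 1` is at least the number of operators. Only the exactness of the
Koszul complex in degree `e = g - |L|` is used. -/
theorem koszul_surj' (g : ℤ) (hg : g = e + L.length) (m : ℕ) (hm : L.length ≤ m + 1)
    (hv : ∀ j : ℕ, j < m → ∀ e' : ℤ, e' + 2 + j = g →
      Subsingleton (Coh.HH X (B.G e') (1 + j)))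
    (x : Γ(B.G g, ⊤)) : x ∈ B.imgT g ⊤ := by
  have hp : (-1 : ℤ) + 1 = 0 := by norm_num
  have hz : IsZero ((B.koszul L).K e (-1 - m - 1)) :=
    B.koszul_isZero L _ _ (Or.inr (by omega))
  have hzk : IsZero (kernel ((B.koszul L).d e (-1 - m - 1 + 1))) :=
    isZero_kernel_succ (fun p => (B.koszul L).K e p) (fun p => (B.koszul L).d e p)
      (fun p => (B.koszul L).dd e p) hex _ hz
  have h1 : Subsingleton (Coh.HH X (kernel ((B.koszul L).d e (-1))) 1) := by
    refine chase_vanish' (fun p => (B.koszul L).K e p) (fun p => (B.koszul L).d e p)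
      (fun p => (B.koszul L).dd e p) hex m 1 (-1) (-1 - m - 1 + 1) (1 + m) (by ring) rfl
      (CL.subsingleton_HH_of_isZero hzk _) (fun j r t hj hr ht => ?_)
    subst ht
    apply B.koszul_prop (fun M => Subsingleton (Coh.HH X M (1 + j)))
      (fun Z hZ => CL.subsingleton_HH_of_isZero hZ _)
      (fun A C hA hC => CL.subsingleton_HH_biprod A C _ hA hC) L
    intro e' he'
    apply hv j hj e'
    rw [he', hg]
    linarith
  have hS := shortExact_kernel_lift _ _ ((B.koszul L).dd e (-1)) (hex (-1))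
  have hsurj := SC.surjective_app_top_of_h1Zero hS (SC.h1Zero_of_HH _ h1)
  set y := (B.topInv L e (-1+1) hp g hg).app ⊤ x with hy
  have hz' : IsZero ((B.koszul L).K e (-1+1+1)) :=
    B.koszul_isZero L _ _ (Or.inl (by norm_num))
  have hdy : ((B.koszul L).d e (-1+1)).app ⊤ y = 0 :=
    section_eq_zero_of_isZero _ hz' _
  obtain ⟨y', hy'⟩ := exists_kernel_section _ ⊤ y hdy
  obtain ⟨a, ha⟩ := hsurj y'
  have hda : ((B.koszul L).d e (-1)).app ⊤ a = y := by
    rw [← hy', ← ha, ← comp_app']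
    change _ = (kernel.lift ((B.koszul L).d e (-1+1))
      ((B.koszul L).d e (-1)) _ ≫ kernel.ι _).app ⊤ a
    rw [kernel.lift_ι]
  have hx : x = (B.topMap L e (-1+1) hp g hg).app ⊤ y := by
    rw [hy, ← comp_app', B.topInv_topMap]
    rfl
  rw [hx, ← hda]
  exact B.topMap_d_mem L e (-1) hp g hg ⊤ a

end Base

end Groth.Agent.LD.KS
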