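import Groth.Agent.Lib.Lead.Misc3.KosR1
import Groth.Agent.Lib.Lead.Misc3.KRRMum1
import Groth.Agent.Lib.Helper5.SD.KoszB
import Groth.Agent.Lib.Helper5.SD.PencilC
import Groth.Agent.Lib.Helper5.PicLaw.Law
import Groth.Agent.Lib.Helper5.Split.Split2

/-!
# Surjectivity of the multiplication of sections from Koszul vanishing (lead)

`X` proper over a field `k`, `L` a globally generated invertible module with inverse `M`,
`r = h⁰(L)`, `b` an integer with `H^q(L^{b-q}) = 0` for `1 ≤ q ≤ r - 1`: then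
`H⁰(L^b) ⊗ H⁰(L) ⟶ H⁰(L^b ⊗ L)` is surjective (`surjective_tensorSec_of_vanishing`).
The Koszul complex of a basis of `H⁰(L)` is built directly on `X` from the abstract Koszul systems
`KS.Base` and helper5's multiplication maps `mulS`.
-/

set_option autoImplicit false
universe u
open CategoryTheory Limits AlgebraicGeometry TopologicalSpace Opposite TensorProduct ZeroObject

namespace Groth.Agent.LD.KosR

open Groth.Agent.LD Groth.Agent.LD.QC Groth.Agent.H5.SD Groth.Agent.H5.Glue

section General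
variable {X : Scheme.{u}}

/-- surjectivity of the multiplication map on global sections is invariant under isomorphisms of
the first factor. -/
lemma surjective_tensorSec_of_iso_left {G G' : X.Modules} (L : X.Modules) (ψ : G ≅ G')
    (h : Function.Surjective (tensorSec G L ⊤)) : Function.Surjective (tensorSec G' L ⊤) := by
  intro t'
  obtain ⟨w, hw⟩ := h ((tensorIso' ψ (Iso.refl L)).inv.app ⊤ t')
  have key : ∀ w : Γ(G, ⊤) ⊗[Γ(X, ⊤)] Γ(L, ⊤), ∃ w' : Γ(G', ⊤) ⊗[Γ(X, ⊤)] Γ(L, ⊤),
      tensorSec G' L ⊤ w' = (tensorIso' ψ (Iso.refl L)).hom.app ⊤ (tensorSec G L ⊤ w) := by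
    intro w
    induction w using TensorProduct.induction_on with
    | zero => exact ⟨0, by rw [map_zero, map_zero, map_zero]⟩
    | tmul a b =>
      refine ⟨(ψ.hom.app ⊤ a) ⊗ₜ b, ?_⟩
      rw [← tmul_eq_tensorSec, ← tmul_eq_tensorSec]
      exact (KoszTw.tensorMap_tmul ψ.hom (𝟙 L) ⊤ a b).symm
    | add w1 w2 h1 h2 =>
      obtain ⟨a1, e1⟩ := h1
      obtain ⟨a2, e2⟩ := h2
      exact ⟨a1 + a2, by rw [map_add, map_add, map_add, e1, e2]⟩
  obtain ⟨w', hw'⟩ := key w
  refine ⟨w', ?_⟩
  rw [hw', hw]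
  exact iso_hom_inv_app' _ ⊤ t'

/-- `N ⊗ L ⊗ ⋯ ⊗ L` (`n` factors `L`, bracketed to the left). -/
noncomputable def P (N L : X.Modules) : ℕ → X.Modules
  | 0 => N
  | n + 1 => CohB1.tensorMod (P N L n) L

lemma isInvertible_P {N L : X.Modules} (hN : PicF.IsInvertible N) (hL : PicF.IsInvertible L)
    (n : ℕ) : PicF.IsInvertible (P N L n) := by
  induction n with
  | zero => exact hN
  | succ n ih => exact isInvertible_tensorMod ih hL

section Cls
open Groth.Agent.H5.PicLaw

lemma clsOf_P {N L : X.Modules} (hN : PicF.IsInvertible N) (hL : PicF.IsInvertible L)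
    (n : ℕ) : clsOf (P N L n) = clsOf N * clsOf L ^ n := by
  induction n with
  | zero =>
    rw [pow_zero, mul_one]
    rfl
  | succ n ih =>
    change clsOf (CohB1.tensorMod (P N L n) L) = _
    rw [clsOf_tensor (isInvertible_P hN hL n) hL, ih, pow_succ, mul_assoc]

lemma nonempty_P_iso_pow_L {L M : X.Modules} (hL : PicF.IsInvertible L)
    (hMi : PicF.IsInvertible M) (hM : ClSub.IsInverseOf M L) (r n j : ℕ) (h : n = r + j) :
    Nonempty (P (CohB1.tensorPow M r) L n ≅ CohB1.tensorPow L j) := by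
  subst h
  have hinv : clsOf M = (clsOf L)⁻¹ := clsOf_eq_inv hMi hL hM
  refine (clsOf_eq_iff (isInvertible_P (isInvertible_tensorPow hMi r) hL (r + j))
    (isInvertible_tensorPow hL j)).mp ?_
  rw [clsOf_P (isInvertible_tensorPow hMi r) hL (r + j), clsOf_pow hMi r, clsOf_pow hL j, hinv,
    pow_add, ← mul_assoc, ← mul_pow, inv_mul_cancel, one_pow, one_mul]

lemma nonempty_P_iso_pow_M {L M : X.Modules} (hL : PicF.IsInvertible L)
    (hMi : PicF.IsInvertible M) (hM : ClSub.IsInverseOf M L) (r n j : ℕ) (h : r = n + j) :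
    Nonempty (P (CohB1.tensorPow M r) L n ≅ CohB1.tensorPow M j) := by
  subst h
  have hinv : clsOf M = (clsOf L)⁻¹ := clsOf_eq_inv hMi hL hM
  refine (clsOf_eq_iff (isInvertible_P (isInvertible_tensorPow hMi (n + j)) hL n)
    (isInvertible_tensorPow hMi j)).mp ?_
  rw [clsOf_P (isInvertible_tensorPow hMi (n + j)) hL n, clsOf_pow hMi (n + j), clsOf_pow hMi j,
    hinv, pow_add, mul_right_comm, ← mul_pow, inv_mul_cancel, one_pow, one_mul]

end Cls

/-- the graded family: `P n` in degree `n ≥ 0`, zero in negative degrees. -/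
noncomputable def Gz (N L : X.Modules) : ℤ → X.Modules
  | Int.ofNat n => P N L n
  | Int.negSucc _ => 0

/-- multiplication by a section of `L`, as an operator of degree one on the graded family. -/
noncomputable def tz (N L : X.Modules) (t : unitMod X ⟶ L) : ∀ e : ℤ, Gz N L e ⟶ Gz N L (e+1)
  | Int.ofNat n => (mulS L (P N L n) t : P N L n ⟶ P N L (n+1))
  | Int.negSucc _ => 0

/-- the graded family with the commuting multiplication operators. -/
noncomputable def base {r : ℕ} (N L : X.Modules) (hN : PicF.IsInvertible N)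
    (hL : PicF.IsInvertible L) (s : Fin r → (unitMod X ⟶ L)) : KS.Base X (Fin r) where
  G := Gz N L
  t l := tz N L (s l)
  tt l m e := by
    match e with
    | Int.ofNat n =>
      haveI : (P N L n).IsQuasicoherent := qc_of_isInvertible _ (isInvertible_P hN hL n)
      exact mulS_comm hL (P N L n) (s l) (s m)
    | Int.negSucc n =>
      change (0 : _ ⟶ _) ≫ _ = (0 : _ ⟶ _) ≫ _
      rw [zero_comp, zero_comp]

lemma base_G_natCast {r : ℕ} (N L : X.Modules) (hN : PicF.IsInvertible N)
    (hL : PicF.IsInvertible L) (s : Fin r → (unitMod X ⟶ L)) (n : ℕ) :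
    (base N L hN hL s).G (n : ℤ) = P N L n := rfl

lemma base_t_natCast {r : ℕ} (N L : X.Modules) (hN : PicF.IsInvertible N)
    (hL : PicF.IsInvertible L) (s : Fin r → (unitMod X ⟶ L)) (l : Fin r) (n : ℕ) :
    (base N L hN hL s).t l (n : ℤ) = mulS L (P N L n) (s l) := rfl

lemma base_bij {r : ℕ} (N L : X.Modules) (hN : PicF.IsInvertible N)
    (hL : PicF.IsInvertible L) (s : Fin r → (unitMod X ⟶ L)) (l : Fin r) (e : ℤ) (he : 0 ≤ e)
    (W : X.Opens) (hW : W ≤ CohB1.genLocus L (s l)) :
    Function.Bijective (((base N L hN hL s).t l e).app W) := by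
  match e, he with
  | Int.ofNat n, _ => exact bijective_mulS_app L (P N L n) (s l) W hW
  | Int.negSucc n, he => exact absurd he (not_le.mpr (Int.negSucc_lt_zero n))

/-- from the Koszul generation statement to the surjectivity of the multiplication map. -/
lemma surjective_tensorSec_P {r : ℕ} (N L : X.Modules) (hN : PicF.IsInvertible N)
    (hL : PicF.IsInvertible L) (s : Fin r → (unitMod X ⟶ L)) (n₀ : ℕ)
    (h : ∀ x : Γ((base N L hN hL s).G ((n₀ : ℤ) + 1), ⊤),
      x ∈ (base N L hN hL s).imgT ((n₀ : ℤ) + 1) ⊤) :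
    Function.Surjective (tensorSec (P N L n₀) L ⊤) := by
  have key : ∀ x ∈ (base N L hN hL s).imgT ((n₀ : ℤ) + 1) ⊤,
      ∃ w, @Eq (Γ(CohB1.tensorMod (P N L n₀) L, ⊤)) (tensorSec (P N L n₀) L ⊤ w) x := by
    intro x hx
    induction hx using AddSubgroup.closure_induction with
    | mem x hx =>
      obtain ⟨l, e, he, c, rfl⟩ := hx
      have hem : e = (n₀ : ℤ) := by omega
      subst hem
      have h2 : (base N L hN hL s).tE l (n₀ : ℤ) ((n₀ : ℤ) + 1) he =
          mulS L (P N L n₀) (s l) := by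
        rw [KS.Base.tE_rfl]
        rfl
      refine ⟨c ⊗ₜ SecTwist.val (s l) ⊤, ?_⟩
      rw [← tmul_eq_tensorSec, h2]
      exact (mulS_app L (P N L n₀) (s l) ⊤ c).symm
    | zero => exact ⟨0, map_zero _⟩
    | add x y _ _ hx hy =>
      obtain ⟨w1, h1⟩ := hx
      obtain ⟨w2, h2⟩ := hy
      exact ⟨w1 + w2, by rw [map_add, h1, h2]; rfl⟩
    | neg x _ hx =>
      obtain ⟨w, hw⟩ := hx
      exact ⟨-w, by rw [map_neg, hw]; rfl⟩
  intro y
  exact key y (h y)

end General

section Main
variable (k : Type u) [Field k] (X : Scheme.{u}) [X.Over (Spec (CommRingCat.of k))]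
  [IsProper (X ↘ Spec (CommRingCat.of k))]

/-- a globally generated invertible module on a proper `k`-scheme is generated by `h⁰(L)` global
sections (a basis of `H⁰(L)`). -/
theorem exists_epi_freeMod_finrank (L : X.Modules) (hL : PicF.IsInvertible L)
    (hgg : Curv2.IsGloballyGenerated L) :
    ∃ p : FlatMod.freeMod X (Module.finrank k (Coh.HH X L 0)) ⟶ L, Epi p := by
  haveI : IsNoetherian X := Groth.Agent.H5.Curve2.isNoetherian_of_proper k X
  have hLc : Coh.IsCoh L := Groth.Agent.H5.Curve2.isCoh_of_isInvertible hL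
  haveI := finite_hom_unit k X L hLc
  have hfr : Module.finrank k (unitMod X ⟶ L) = Module.finrank k (Coh.HH X L 0) :=
    (finrank_H0_eq_finrank_hom k L).symm
  let b := Module.finBasisOfFinrankEq k (unitMod X ⟶ L) hfr
  refine ⟨Sigma.desc (fun i => b i), epi_of_locSurjAt _ (fun x => ?_)⟩
  obtain ⟨K, p, hp⟩ := hgg
  obtain ⟨j, hj⟩ := exists_mem_genLocus_of_epi_free L hL p hp x
  have hσ : (SheafOfModules.ιFree (R := X.ringCatSheaf) j ≫ p : unitMod X ⟶ L) =
      (∑ i, b.repr (SheafOfModules.ιFree (R := X.ringCatSheaf) j ≫ p) i •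
        Sigma.ι (fun _ : Fin (Module.finrank k (Coh.HH X L 0)) => unitMod X) i) ≫
        Sigma.desc (fun i => b i) := by
    rw [Preadditive.sum_comp]
    simp only [Linear.smul_comp, Sigma.ι_desc]
    exact (b.sum_repr _).symm
  have h1 := Groth.Agent.H5.Curve2.locSurjAt_section _ x hj
  rw [hσ] at h1
  exact LocSurjAt.of_comp _ h1

/-- **surjectivity of the multiplication of sections from Koszul vanishing.** -/
theorem surjective_tensorSec_of_vanishing
    (L : X.Modules) (hL : PicF.IsInvertible L) (hgg : Curv2.IsGloballyGenerated L)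
    (M : X.Modules) (hM : ClSub.IsInverseOf M L) (b : ℕ)
    (hvan₁ : ∀ q : ℕ, 1 ≤ q → q ≤ b → q < Module.finrank k (Coh.HH X L 0) →
      Subsingleton (Coh.HH X (CohB1.tensorPow L (b - q)) q))
    (hvan₂ : ∀ q : ℕ, b < q → q < Module.finrank k (Coh.HH X L 0) →
      Subsingleton (Coh.HH X (CohB1.tensorPow M (q - b)) q)) :
    Function.Surjective (tensorSec (CohB1.tensorPow L b) L ⊤) := by
  obtain ⟨p, hp⟩ := exists_epi_freeMod_finrank k X L hL hgg
  generalize Module.finrank k (Coh.HH X L 0) = r at p hp hvan₁ hvan₂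
  let s : Fin r → (unitMod X ⟶ L) := fun l => Sigma.ι (fun _ : Fin r => unitMod X) l ≫ p
  have hgen : ∀ x : X, ∃ l, x ∈ CohB1.genLocus L (s l) :=
    fun x => exists_mem_genLocus_of_epi L hL p hp x
  obtain ⟨φ⟩ := hM
  have hMi : PicF.IsInvertible M := Groth.Agent.H5.Split.isInvertible_of_tensor_iso hL φ
  have hM' : ClSub.IsInverseOf M L := ⟨φ⟩
  have hN : PicF.IsInvertible (CohB1.tensorPow M r) := isInvertible_tensorPow hMi r
  -- exactness of the Koszul complex
  have hex : ∀ q : ℤ, (ShortComplex.mk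
      (((base (CohB1.tensorPow M r) L hN hL s).koszul (List.finRange r)).d ((b + 1 : ℕ) : ℤ) q)
      (((base (CohB1.tensorPow M r) L hN hL s).koszul (List.finRange r)).d ((b + 1 : ℕ) : ℤ) (q+1))
      (((base (CohB1.tensorPow M r) L hN hL s).koszul (List.finRange r)).dd ((b + 1 : ℕ) : ℤ)
        q)).Exact := by
    intro q
    exact (base (CohB1.tensorPow M r) L hN hL s).koszul_exact_ge 0 (List.finRange r)
      (fun l => CohB1.genLocus L (s l))
      (fun x => by
        obtain ⟨l, hl⟩ := hgen x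
        exact ⟨l, List.mem_finRange l, hl⟩)
      (fun l e he W hW => base_bij (CohB1.tensorPow M r) L hN hL s l e he W hW)
      ((b + 1 : ℕ) : ℤ) q (by positivity)
  have hsurjP : Function.Surjective (tensorSec (P (CohB1.tensorPow M r) L (r + b)) L ⊤) := by
    apply surjective_tensorSec_P (CohB1.tensorPow M r) L hN hL s (r + b)
    intro x
    refine (base (CohB1.tensorPow M r) L hN hL s).koszul_surj' (List.finRange r)
      ((b + 1 : ℕ) : ℤ) hex (((r + b : ℕ) : ℤ) + 1)
      (by rw [List.length_finRange]; push_cast; ring) (r - 1)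
      (by rw [List.length_finRange]; omega) ?_ x
    intro j hj e' he'
    obtain ⟨n, rfl⟩ : ∃ n : ℕ, e' = (n : ℤ) := ⟨e'.toNat, by omega⟩
    have hn : n + 2 + j = r + b + 1 := by
      have := he'
      push_cast at this
      omega
    change Subsingleton (Coh.HH X (P (CohB1.tensorPow M r) L n) (1 + j))
    by_cases hq : 1 + j ≤ b
    · obtain ⟨ψ⟩ := nonempty_P_iso_pow_L hL hMi hM' r n (b - (1 + j)) (by omega)
      exact CL.subsingleton_of_iso ψ.symm (1 + j) (hvan₁ (1 + j) (by omega) hq (by omega))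
    · obtain ⟨ψ⟩ := nonempty_P_iso_pow_M hL hMi hM' r n ((1 + j) - b) (by omega)
      exact CL.subsingleton_of_iso ψ.symm (1 + j) (hvan₂ (1 + j) (by omega) (by omega))
  obtain ⟨ψ⟩ := nonempty_P_iso_pow_L hL hMi hM' r (r + b) b rfl
  exact surjective_tensorSec_of_iso_left L ψ hsurjP

end Main

end Groth.Agent.LD.KosR
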