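import Mathlib
import Groth.Prelude.Def_Lef
import Groth.Agent.Lib.Lead.QC.IdealMod
import Groth.Agent.Lib.Lead.QC.FreeHom
import Groth.Agent.Lib.Lead.QC.TensorPow
import Groth.Agent.Lib.Lead.QC.FiniteFree
import Groth.Agent.Lib.Lead.FF.H0Const
import Groth.Agent.Lib.Helper3.AntiAff.Conn
import Groth.Agent.Lib.Helper5.HensCouple.H

/-! # The Lefschetz condition `Lef(X, Y)` and connectedness (SGA 2 X 2.1, connectedness part)

If `Γ(U, O_U) → lim Γ(Y_n, O_{Y_n})` is bijective for an open `U ⊇ Y`, then `U` is connected if and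
only if `Y` is: idempotents of `Γ(Y_n, O)` are the clopen subsets of the common underlying space. -/

set_option autoImplicit false
set_option linter.style.haveILetI false
noncomputable section
universe u
open CategoryTheory Limits AlgebraicGeometry TopologicalSpace Opposite

namespace Groth.Agent.LD.LefConn
open Groth.Agent.LD Groth.Agent.LD.QC

section Top

lemma connectedSpace_iff_isConnected_range {A B : Type*} [TopologicalSpace A]
    [TopologicalSpace B] (f : A → B) (hf : Topology.IsInducing f) :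
    ConnectedSpace A ↔ _root_.IsConnected (Set.range f) := by
  rw [connectedSpace_iff_univ, ← Set.image_univ]
  constructor
  · intro h
    exact h.image f hf.continuous.continuousOn
  · intro h
    refine ⟨?_, hf.isPreconnected_image.mp h.2⟩
    obtain ⟨y, x, _, rfl⟩ := h.1
    exact ⟨x, trivial⟩

lemma isConnected_preimage_iff {A B : Type*} [TopologicalSpace A] [TopologicalSpace B]
    (f : A → B) (hf : Topology.IsInducing f) (S : Set B) (hS : S ⊆ Set.range f) :
    _root_.IsConnected (f ⁻¹' S) ↔ _root_.IsConnected S := by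
  have himg : f '' (f ⁻¹' S) = S := by
    rw [Set.image_preimage_eq_inter_range]
    exact Set.inter_eq_left.mpr hS
  constructor
  · intro h
    rw [← himg]
    exact h.image f hf.continuous.continuousOn
  · intro h
    refine ⟨?_, hf.isPreconnected_image.mp (by rw [himg]; exact h.2)⟩
    obtain ⟨y, hy⟩ := h.1
    obtain ⟨x, rfl⟩ := hS hy
    exact ⟨x, hy⟩

end Top

variable {V : Scheme.{u}}

/-- sections of `O/I` over `⊤` from functions on the closed subscheme. -/
def toQ (I : V.IdealSheafData) (t : Γ(I.subscheme, ⊤)) : Γ(ClSub.quotMod I, ⊤) := t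

/-- global functions as sections of the structure module. -/
def toO (f : Γ(V, ⊤)) : Γ(Coh.structureModule V, ⊤) := f

/-- sections of the structure module as global functions. -/
def ofO (s : Γ(Coh.structureModule V, ⊤)) : Γ(V, ⊤) := s

lemma toQ_injective (I : V.IdealSheafData) : Function.Injective (toQ I) := fun _ _ h => h

lemma map_eqToHom_top (Z : Scheme.{u}) (pf : (⊤ : Z.Opens) = ⊤) (x : Γ(Z, ⊤)) :
    (Z.presheaf.map (eqToHom pf).op).hom x = x := by
  have : (eqToHom pf) = 𝟙 (⊤ : Z.Opens) := Subsingleton.elim _ _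
  rw [this, op_id, Z.presheaf.map_id]
  rfl

/-- `Lef.quotMap` on global sections is the pullback of functions along the inclusion of closed
subschemes. -/
lemma quotMap_app_top {I J : V.IdealSheafData} (h : I ≤ J) (t : Γ(I.subscheme, ⊤)) :
    (Lef.quotMap h).app ⊤ (toQ I t) = toQ J ((Scheme.IdealSheafData.inclusion h).appTop t) := by
  unfold Lef.quotMap
  exact map_eqToHom_top J.subscheme rfl ((Scheme.IdealSheafData.inclusion h).appTop t)

lemma toSubscheme_app_top (I : V.IdealSheafData) (f : Γ(V, ⊤)) :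
    (ClSub.toSubscheme I).app ⊤ (toO f) = toQ I (I.subschemeι.appTop f) := rfl

lemma homOfSection_injective (M : V.Modules) {t t' : Γ(M, ⊤)}
    (h : homOfSection M t = homOfSection M t') : t = t' := by
  rw [← sectionOfHom_homOfSection M t, ← sectionOfHom_homOfSection M t', h]

lemma homOfSection_comp_toSubscheme (I : V.IdealSheafData) (f : Γ(V, ⊤)) :
    homOfSection (Coh.structureModule V) (toO f) ≫ ClSub.toSubscheme I =
      homOfSection (ClSub.quotMod I) (toQ I (I.subschemeι.appTop f)) :=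
  homOfSection_comp _ _

section Lef
variable {𝓙 : V.IdealSheafData} (H : Lef.HomToFormalBijective 𝓙 (Coh.structureModule V))

include H in
/-- injectivity of `Γ(V, O) → lim Γ(Y_n, O)`. -/
lemma eq_of_forall_appTop_eq (f g : Γ(V, ⊤))
    (h : ∀ n : ℕ, (𝓙 ^ (n + 1)).subschemeι.appTop f = (𝓙 ^ (n + 1)).subschemeι.appTop g) :
    f = g := by
  have h1 : homOfSection (Coh.structureModule V) (toO f) =
      homOfSection (Coh.structureModule V) (toO g) := by
    apply H.1
    intro n
    refine (homOfSection_comp_toSubscheme (𝓙 ^ (n + 1)) f).trans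
      (Eq.trans ?_ (homOfSection_comp_toSubscheme (𝓙 ^ (n + 1)) g).symm)
    rw [h n]
  exact homOfSection_injective _ h1

include H in
/-- surjectivity of `Γ(V, O) → lim Γ(Y_n, O)`. -/
lemma exists_of_compatible (e : ∀ n : ℕ, Γ((𝓙 ^ (n + 1)).subscheme, ⊤))
    (he : ∀ n : ℕ,
      (Scheme.IdealSheafData.inclusion (Lef.pow_succ_le 𝓙 n)).appTop (e (n + 1)) = e n) :
    ∃ f : Γ(V, ⊤), ∀ n : ℕ, (𝓙 ^ (n + 1)).subschemeι.appTop f = e n := by
  have hform : Lef.IsFormalHom 𝓙 (Coh.structureModule V)
      (fun n => homOfSection (ClSub.quotMod (𝓙 ^ (n + 1))) (toQ _ (e n))) := by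
    intro n
    have h1 := homOfSection_comp (Lef.quotMap (Lef.pow_succ_le 𝓙 n))
      (toQ (𝓙 ^ (n + 2)) (e (n + 1)))
    rw [quotMap_app_top, he n] at h1
    exact h1
  obtain ⟨φ, hφ⟩ := H.2 _ hform
  refine ⟨ofO (sectionOfHom φ), fun n => ?_⟩
  have h1 := homOfSection_comp_toSubscheme (𝓙 ^ (n + 1)) (ofO (sectionOfHom φ))
  have h2 : homOfSection (Coh.structureModule V) (toO (ofO (sectionOfHom φ))) = φ :=
    homOfSection_sectionOfHom φ
  rw [h2, hφ n] at h1
  exact (toQ_injective _ (homOfSection_injective _ h1)).symm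

end Lef

section Main
variable (𝓙 : V.IdealSheafData)

lemma range_ι (n : ℕ) :
    Set.range (𝓙 ^ (n + 1)).subschemeι = (𝓙.support : Set V) := by
  rw [Scheme.IdealSheafData.range_subschemeι, Scheme.IdealSheafData.support_pow_succ]

lemma connectedSpace_subscheme_iff (n : ℕ) :
    ConnectedSpace ((𝓙 ^ (n + 1)).subscheme) ↔ _root_.IsConnected (𝓙.support : Set V) := by
  rw [connectedSpace_iff_isConnected_range _
    ((𝓙 ^ (n + 1)).subschemeι.isClosedEmbedding.isEmbedding.isInducing), range_ι]

lemma isEmpty_subscheme_iff (n : ℕ) :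
    IsEmpty ((𝓙 ^ (n + 1)).subscheme) ↔ (𝓙.support : Set V) = ∅ := by
  rw [← range_ι 𝓙 n, Set.range_eq_empty_iff]

lemma appTop_inclusion (n : ℕ) (f : Γ(V, ⊤)) :
    (Scheme.IdealSheafData.inclusion (Lef.pow_succ_le 𝓙 n)).appTop
      ((𝓙 ^ (n + 2)).subschemeι.appTop f) = (𝓙 ^ (n + 1)).subschemeι.appTop f := by
  have h := Scheme.IdealSheafData.inclusion_subschemeι (Lef.pow_succ_le 𝓙 n)
  have h2 : ((𝓙 ^ (n + 1)).subschemeι).appTop =
      ((𝓙 ^ (n + 2)).subschemeι).appTop ≫
        (Scheme.IdealSheafData.inclusion (Lef.pow_succ_le 𝓙 n)).appTop := by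
    rw [← Scheme.Hom.comp_appTop, h]
  rw [h2]
  rfl

variable {𝓙}
variable (H : Lef.HomToFormalBijective 𝓙 (Coh.structureModule V))

include H in
lemma eq_zero_of_idem (hconn : ∀ n : ℕ, ConnectedSpace ((𝓙 ^ (n + 1)).subscheme))
    (e : Γ(V, ⊤)) (he : IsIdempotentElem e)
    (h0 : (𝓙 ^ (0 + 1)).subschemeι.appTop e = 0) : e = 0 := by
  have hall : ∀ n : ℕ, (𝓙 ^ (n + 1)).subschemeι.appTop e = 0 := by
    intro n
    induction n with
    | zero => exact h0
    | succ n ih =>
      haveI := hconn (n + 1)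
      have hid : IsIdempotentElem ((𝓙 ^ (n + 1 + 1)).subschemeι.appTop e) :=
        he.map ((𝓙 ^ (n + 1 + 1)).subschemeι.appTop).hom
      rcases FF.idem_trivial_of_connectedSpace _ _ hid with h | h
      · exact h
      · exfalso
        have h1 := appTop_inclusion 𝓙 n e
        rw [ih] at h1
        have h3 : (𝓙 ^ (n + 2)).subschemeι.appTop e = 1 := h
        rw [h3, map_one] at h1
        haveI : Nonempty ((𝓙 ^ (n + 1)).subscheme) := (hconn n).toNonempty
        haveI : Nonempty ↥(⊤ : ((𝓙 ^ (n + 1)).subscheme).Opens) :=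
          ⟨⟨Classical.arbitrary _, trivial⟩⟩
        exact one_ne_zero h1
  apply eq_of_forall_appTop_eq H
  intro n
  rw [hall n, map_zero]

include H in
/-- `Y` connected implies `V` connected. -/
theorem connectedSpace_of_isConnected_support (hZ : _root_.IsConnected (𝓙.support : Set V)) :
    ConnectedSpace V := by
  have hconn : ∀ n : ℕ, ConnectedSpace ((𝓙 ^ (n + 1)).subscheme) :=
    fun n => (connectedSpace_subscheme_iff 𝓙 n).mpr hZ
  haveI : Nonempty V := by
    obtain ⟨x, _⟩ := hZ.1
    exact ⟨x⟩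
  apply Groth.Agent.H3.AntiAff.connectedSpace_of_idempotent V
  intro e he
  haveI := hconn 0
  have hid : IsIdempotentElem ((𝓙 ^ (0 + 1)).subschemeι.appTop e) :=
    he.map ((𝓙 ^ (0 + 1)).subschemeι.appTop).hom
  rcases FF.idem_trivial_of_connectedSpace _ _ hid with h | h
  · left
    exact eq_zero_of_idem H hconn e he h
  · right
    have h1 : (𝓙 ^ (0 + 1)).subschemeι.appTop (1 - e) = 0 := by
      rw [map_sub, map_one, h, sub_self]
    have := eq_zero_of_idem H hconn (1 - e) he.one_sub h1
    exact (sub_eq_zero.mp this).symm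

include H in
/-- `V` connected implies `Y` connected. -/
theorem isConnected_support_of_connectedSpace [ConnectedSpace V] :
    _root_.IsConnected (𝓙.support : Set V) := by
  rw [← connectedSpace_subscheme_iff 𝓙 0]
  haveI hne : Nonempty ((𝓙 ^ (0 + 1)).subscheme) := by
    by_contra hcon
    rw [not_nonempty_iff] at hcon
    have hZ : (𝓙.support : Set V) = ∅ := (isEmpty_subscheme_iff 𝓙 0).mp hcon
    have h10 : (1 : Γ(V, ⊤)) = 0 := by
      apply eq_of_forall_appTop_eq H
      intro n
      haveI : IsEmpty ((𝓙 ^ (n + 1)).subscheme) := (isEmpty_subscheme_iff 𝓙 n).mpr hZ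
      exact Subsingleton.elim _ _
    haveI : Nonempty ↥(⊤ : V.Opens) := ⟨⟨Classical.arbitrary V, trivial⟩⟩
    exact one_ne_zero h10
  apply Groth.Agent.H3.AntiAff.connectedSpace_of_idempotent
  intro ε hε
  have hemb := (𝓙 ^ (0 + 1)).subschemeι.isClosedEmbedding
  obtain ⟨S, hS⟩ : ∃ S : Set ((𝓙 ^ (0 + 1)).subscheme),
      S = (((𝓙 ^ (0 + 1)).subscheme.basicOpen ε : ((𝓙 ^ (0 + 1)).subscheme).Opens) : Set _) :=
    ⟨_, rfl⟩
  have hSclopen : IsClopen S := by
    rw [hS]
    exact Groth.Agent.H5.HensCouple.isClopen_basicOpen_idem hε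
  obtain ⟨S', hS'⟩ : ∃ S' : Set V, S' = (𝓙 ^ (0 + 1)).subschemeι '' S := ⟨_, rfl⟩
  obtain ⟨T', hT'⟩ : ∃ T' : Set V, T' = (𝓙 ^ (0 + 1)).subschemeι '' Sᶜ := ⟨_, rfl⟩
  have hS'closed : IsClosed S' := by
    rw [hS']
    exact hemb.isClosedMap _ hSclopen.isClosed
  have hT'closed : IsClosed T' := by
    rw [hT']
    exact hemb.isClosedMap _ hSclopen.compl.isClosed
  have hdisj : ∀ v, v ∈ S' → v ∈ T' → False := by
    intro v hv1 hv2
    rw [hS'] at hv1
    rw [hT'] at hv2
    obtain ⟨a, ha, rfl⟩ := hv1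
    obtain ⟨b, hb, hab⟩ := hv2
    have : b = a := hemb.injective hab
    exact hb (this ▸ ha)
  have hcover : ∀ v ∈ (𝓙.support : Set V), v ∈ S' ∨ v ∈ T' := by
    intro v hv
    rw [← range_ι 𝓙 0] at hv
    obtain ⟨a, rfl⟩ := hv
    by_cases ha : a ∈ S
    · left
      rw [hS']
      exact ⟨a, ha, rfl⟩
    · right
      rw [hT']
      exact ⟨a, ha, rfl⟩
  have hclopen : ∀ n : ℕ, IsClopen ((𝓙 ^ (n + 1)).subschemeι ⁻¹' S') := by
    intro n
    refine ⟨hS'closed.preimage (𝓙 ^ (n + 1)).subschemeι.continuous, ?_⟩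
    have hc : ((𝓙 ^ (n + 1)).subschemeι ⁻¹' S')ᶜ = (𝓙 ^ (n + 1)).subschemeι ⁻¹' T' := by
      ext y
      have hy : (𝓙 ^ (n + 1)).subschemeι y ∈ (𝓙.support : Set V) := by
        rw [← range_ι 𝓙 n]
        exact ⟨y, rfl⟩
      constructor
      · intro h
        rcases hcover _ hy with h1 | h1
        · exact absurd h1 h
        · exact h1
      · intro h h1
        exact hdisj _ h1 h
    rw [← isClosed_compl_iff, hc]
    exact hT'closed.preimage (𝓙 ^ (n + 1)).subschemeι.continuous
  choose e he_idem he_open using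
    fun n => Groth.Agent.H5.HensCouple.exists_idem_basicOpen_eq (hclopen n)
  have hcompat : ∀ n : ℕ,
      (Scheme.IdealSheafData.inclusion (Lef.pow_succ_le 𝓙 n)).appTop (e (n + 1)) = e n := by
    intro n
    have hid : IsIdempotentElem
        ((Scheme.IdealSheafData.inclusion (Lef.pow_succ_le 𝓙 n)).appTop (e (n + 1))) :=
      (he_idem (n + 1)).map (Scheme.IdealSheafData.inclusion (Lef.pow_succ_le 𝓙 n)).appTop.hom
    apply Groth.Agent.H5.HensCouple.idem_eq_of_basicOpen_eq hid (he_idem n)
    rw [← Scheme.preimage_basicOpen_top]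
    apply SetLike.coe_injective
    rw [he_open n]
    ext y
    have h1 : (𝓙 ^ (n + 2)).subschemeι
        ((Scheme.IdealSheafData.inclusion (Lef.pow_succ_le 𝓙 n)) y) =
        (𝓙 ^ (n + 1)).subschemeι y := by
      rw [← Scheme.Hom.comp_apply, Scheme.IdealSheafData.inclusion_subschemeι]
    have h2 : ((Scheme.IdealSheafData.inclusion (Lef.pow_succ_le 𝓙 n)) y) ∈
        (((𝓙 ^ (n + 2)).subscheme.basicOpen (e (n + 1)) :
          ((𝓙 ^ (n + 2)).subscheme).Opens) : Set _) ↔
        (𝓙 ^ (n + 2)).subschemeι ((Scheme.IdealSheafData.inclusion (Lef.pow_succ_le 𝓙 n)) y)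
          ∈ S' := by
      have := he_open (n + 1)
      rw [this]
      exact Iff.rfl
    rw [h1] at h2
    exact h2
  have he0 : e 0 = ε := by
    apply Groth.Agent.H5.HensCouple.idem_eq_of_basicOpen_eq (he_idem 0) hε
    apply SetLike.coe_injective
    rw [he_open 0, hS', ← hS]
    exact Set.preimage_image_eq _ hemb.injective
  obtain ⟨f, hf⟩ := exists_of_compatible H e hcompat
  have hfid : IsIdempotentElem f := by
    show f * f = f
    apply eq_of_forall_appTop_eq H
    intro n
    rw [map_mul, hf n]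
    exact he_idem n
  rcases FF.idem_trivial_of_connectedSpace V f hfid with h | h
  · left
    rw [← he0, ← hf 0, h, map_zero]
  · right
    rw [← he0, ← hf 0, h, map_one]

end Main

/-- **S2946**: under `Lef(X, Y)`, an open `U ⊇ Y` is connected iff `Y` is. -/
theorem main (X : Scheme.{u}) (𝓘 : X.IdealSheafData) (h : Lef.LefCond X 𝓘) (U : X.Opens)
    (hU : (𝓘.support : Set X) ⊆ (U : Set X)) :
    ConnectedSpace (𝓘.support : Set X) ↔ ConnectedSpace U := by
  have H : Lef.HomToFormalBijective (𝓘.comap U.ι) (Coh.structureModule (U : Scheme.{u})) :=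
    h U hU _ (isFinLocFree_of_isInvertible _ (isInvertible_unit _))
  have hsupp : ((𝓘.comap U.ι).support : Set (U : Scheme.{u})) =
      U.ι ⁻¹' (𝓘.support : Set X) := by
    rw [Scheme.IdealSheafData.support_comap]
    rfl
  have h1 : _root_.IsConnected ((𝓘.comap U.ι).support : Set (U : Scheme.{u})) ↔
      _root_.IsConnected (𝓘.support : Set X) := by
    rw [hsupp]
    apply isConnected_preimage_iff _ U.ι.isOpenEmbedding.isInducing
    rw [Scheme.Opens.range_ι]
    exact hU
  have h2 : ConnectedSpace (U : Scheme.{u}) ↔ ConnectedSpace U := by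
    refine (connectedSpace_iff_isConnected_range _ U.ι.isOpenEmbedding.isInducing).trans ?_
    rw [Scheme.Opens.range_ι]
    exact isConnected_iff_connectedSpace
  rw [← isConnected_iff_connectedSpace, ← h1, ← h2]
  exact ⟨fun hZ => connectedSpace_of_isConnected_support H hZ,
    fun hV => by haveI := hV; exact isConnected_support_of_connectedSpace H⟩

end Groth.Agent.LD.LefConn
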