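import Groth.Agent.Lib.Helper2.RpC4
import Groth.Agent.Lib.Helper8.DRank
import Groth.Agent.Lib.Lead.QC.NegPowSec
import Groth.Agent.Lib.Lead.QC.InvField2
import Groth.Agent.Lib.Lead.QC.PullInv
import Groth.Agent.Lib.Lead.QC.AmpleIso
import Groth.Agent.Lib.Lead.QC.TensorPow
import Groth.Agent.Lib.Lead.QCQS.Base
import Groth.Agent.Lib.Helper5.Glue.F
import Groth.Agent.H4.PSch7

/-!
# The locus of points over which an invertible module is trivial on the fibre (lead)

For `f : X ⟶ Y` proper and flat over a locally Noetherian base with integral fibres, the set of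
points `y` with `L|_{X_y} ≅ O_{X_y}` is closed: it is the intersection of the loci where
`h⁰(L_y) ≥ 1` and `h⁰(M_y) ≥ 1`, `M` an inverse of `L`, both closed by semicontinuity.
-/

set_option autoImplicit false
universe u
open CategoryTheory CategoryTheory.Limits AlgebraicGeometry TopologicalSpace Opposite

namespace Groth.Agent.LD.TrivLocus

open Groth.Agent.LD.QC

section semicont

variable {X Y : Scheme.{u}} (f : X ⟶ Y) [IsProper f] [IsLocallyNoetherian Y]

/-- the fibre cohomology of a coherent module flat over a locally Noetherian base, along a proper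
morphism, is finite dimensional. -/
theorem finite_fiberH (F : X.Modules) (hF : Coh.IsCoh F) (hfl : FlatMod.IsFlatOver f F)
    (p : ℕ) (y : Y) : Module.Finite (Y.residueField y) (CohIII.fiberH f F y p) := by
  haveI := Groth.Agent.LD.QCQS.hasInjRes X
  obtain ⟨V, hV, hyV, -⟩ := exists_isAffineOpen_mem_and_subset (x := y) (U := ⊤) trivial
  obtain ⟨P, -, -, -, -, -, hfin⟩ := Groth.Agent.H2.RpC.exists_localData' f F hF hfl V hV
  exact hfin p y hyV

/-- **upper semicontinuity of the fibre ranks**. -/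
theorem isClosed_le_fiberRank (F : X.Modules) (hF : Coh.IsCoh F) (hfl : FlatMod.IsFlatOver f F)
    (p : ℕ) (n : ℕ) : IsClosed {y : Y | n ≤ CohIII.fiberRank f F p y} := by
  haveI := Groth.Agent.LD.QCQS.hasInjRes X
  rw [TopologicalSpace.IsOpenCover.isClosed_iff_coe_preimage (iSup_affineOpens_eq_top Y)]
  intro V
  obtain ⟨P, hP, -, -, hrank, -, -⟩ := Groth.Agent.H2.RpC.exists_localData' f F hF hfl V.1 V.2
  have hP' : ∀ i, Module.Finite Γ(V.1.toScheme, ⊤) (P.X i) ∧
      Module.Projective Γ(V.1.toScheme, ⊤) (P.X i) := fun i => by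
    haveI := (hP i).2
    exact ⟨(hP i).1, inferInstance⟩
  have husc := Groth.Agent.H8.DRank.dRank_upperSemicontinuous P hP' (-(p : ℤ))
  rw [upperSemicontinuous_iff_isClosed_preimage] at husc
  have hC := husc n
  have h1 : IsClosed ((fun v : V.1.toScheme => V.1.toScheme.toSpecΓ v) ⁻¹'
      (CohIII.dRank P (-(p : ℤ)) ⁻¹' Set.Ici n)) :=
    hC.preimage (V.1.toScheme.toSpecΓ).continuous
  have h2 : ((Subtype.val : ↥(V.1 : Y.Opens) → Y) ⁻¹' {y : Y | n ≤ CohIII.fiberRank f F p y}) =
      ((fun v : V.1.toScheme => V.1.toScheme.toSpecΓ v) ⁻¹'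
        (CohIII.dRank P (-(p : ℤ)) ⁻¹' Set.Ici n)) := by
    ext v
    show n ≤ CohIII.fiberRank f F p v.1 ↔ n ≤ CohIII.dRank P (-(p : ℤ)) (V.1.toScheme.toSpecΓ v)
    rw [hrank p v.1 v.2]
  rw [h2]
  exact h1

end semicont

section H0

variable {Z : Scheme.{u}}

/-- `H⁰` is nontrivial iff there is a nonzero global section. -/
lemma nontrivial_HH_zero_iff (F : Z.Modules) :
    Nontrivial (Coh.HH Z F 0) ↔ ∃ s : unitMod Z ⟶ F, s ≠ 0 := by
  constructor
  · intro h
    obtain ⟨x, hx⟩ := exists_ne (0 : Coh.HH Z F 0)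
    exact Groth.Agent.LD.NegPowSec.exists_hom_ne_zero F x hx
  · rintro ⟨s, hs⟩
    by_contra hn
    rw [not_nontrivial_iff_subsingleton] at hn
    apply hs
    have h1 : sectionOfHom s = 0 := by
      have h2 : (Groth.Agent.LD.CL.HH0Equiv F).symm (sectionOfHom s) = 0 :=
        Subsingleton.elim _ _
      have h3 := congrArg (Groth.Agent.LD.CL.HH0Equiv F) h2
      rw [AddEquiv.apply_symm_apply, map_zero] at h3
      exact h3
    have h4 : sectionOfHom (0 : unitMod Z ⟶ F) = 0 := rfl
    rw [← homOfSection_sectionOfHom s, h1, ← h4, homOfSection_sectionOfHom]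

end H0

section fibre

variable {Z X : Scheme.{u}} (g : Z ⟶ X) [IsIntegral Z]

/-- the pullback of an inverse pair is an inverse pair. -/
noncomputable def pbInverseIso (L M : X.Modules) (hL : PicF.IsInvertible L)
    (hM : PicF.IsInvertible M) (ε : CohB1.tensorMod L M ≅ unitMod X) :
    CohB1.tensorMod ((Scheme.Modules.pullback g).obj L) ((Scheme.Modules.pullback g).obj M) ≅
      unitMod Z :=
  (pbTensorIso g L M hL hM).symm ≪≫ (Scheme.Modules.pullback g).mapIso ε ≪≫ pbUnitIso g

/-- on an integral scheme proper over a field, an invertible module is trivial iff it and an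
inverse both have a nonzero global section. -/
theorem trivial_iff_nontrivial (k : Type u) [Field k] (q : Z ⟶ Spec (CommRingCat.of k))
    [IsProper q] (A B : Z.Modules) (hA : PicF.IsInvertible A) (hB : PicF.IsInvertible B)
    (ε : CohB1.tensorMod A B ≅ unitMod Z) :
    Nonempty (A ≅ unitMod Z) ↔
      Nontrivial (Coh.HH Z A 0) ∧ Nontrivial (Coh.HH Z B 0) := by
  rw [nontrivial_HH_zero_iff, nontrivial_HH_zero_iff]
  constructor
  · rintro ⟨e⟩
    have e' : B ≅ unitMod Z :=
      (unitorL' B).symm ≪≫ tensorIso' e.symm (Iso.refl B) ≪≫ ε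
    refine ⟨⟨e.inv, fun h => unit_id_ne_zero (X := Z) ?_⟩,
      ⟨e'.inv, fun h => unit_id_ne_zero (X := Z) ?_⟩⟩
    · rw [← e.inv_hom_id, h, zero_comp]
    · rw [← e'.inv_hom_id, h, zero_comp]
  · rintro ⟨⟨s, hs⟩, ⟨s', hs'⟩⟩
    have ht : Groth.Agent.H5.Curve4.twistBy A s' ≫ ε.hom ≠ 0 := by
      intro h0
      have h1 : s ≫ Groth.Agent.H5.Curve4.twistBy A s' ≠ 0 := by
        rw [Groth.Agent.LD.NegPowSec.comp_twistBy]
        exact Groth.Agent.H5.CV.tmulHom_ne_zero hA hB s s' hs hs'
      apply Groth.Agent.LD.NegPowSec.comp_iso_ne_zero _ ε h1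
      rw [Category.assoc, h0, Limits.comp_zero]
    exact (trivial_iff_sections k q A hA).mpr ⟨⟨s, hs⟩, ⟨_, ht⟩⟩

end fibre

section main

variable {X Y : Scheme.{u}} (f : X ⟶ Y) [IsProper f] [Flat f] [IsLocallyNoetherian Y]

/-- **the locus of fibrewise triviality of an invertible module is closed** (integral fibres). -/
theorem isClosed_trivLocus (hint : ∀ y : Y, IsIntegral (f.fiber y))
    (L : X.Modules) (hL : PicF.IsInvertible L) :
    IsClosed {y : Y | Nonempty (CohIII.fiberMod f L y ≅ Coh.structureModule (f.fiber y))} := by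
  obtain ⟨M, hM, ⟨ε⟩⟩ := Groth.Agent.H5.Glue.exists_inverse L hL
  have hLc : Coh.IsCoh L := ⟨qc_of_isInvertible L hL, isFiniteType_of_isInvertible L hL⟩
  have hMc : Coh.IsCoh M := ⟨qc_of_isInvertible M hM, isFiniteType_of_isInvertible M hM⟩
  have hLfl : FlatMod.IsFlatOver f L :=
    Groth.Agent.H4.PSch7.isFlatOver_of_isFinLocFree f L (isFinLocFree_of_isInvertible L hL)
  have hMfl : FlatMod.IsFlatOver f M :=
    Groth.Agent.H4.PSch7.isFlatOver_of_isFinLocFree f M (isFinLocFree_of_isInvertible M hM)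
  have hset : {y : Y | Nonempty (CohIII.fiberMod f L y ≅ Coh.structureModule (f.fiber y))} =
      {y : Y | 1 ≤ CohIII.fiberRank f L 0 y} ∩ {y : Y | 1 ≤ CohIII.fiberRank f M 0 y} := by
    ext y
    haveI := hint y
    haveI : IsProper (f.fiberToSpecResidueField y) :=
      inferInstanceAs (IsProper (pullback.snd f (Y.fromSpecResidueField y)))
    haveI := finite_fiberH f L hLc hLfl 0 y
    haveI := finite_fiberH f M hMc hMfl 0 y
    have h1 := trivial_iff_nontrivial (Z := f.fiber y) (Y.residueField y)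
      (f.fiberToSpecResidueField y) (CohIII.fiberMod f L y) (CohIII.fiberMod f M y)
      (isInvertible_pullback (f.fiberι y) hL) (isInvertible_pullback (f.fiberι y) hM)
      (pbInverseIso (f.fiberι y) L M hL hM ε)
    have h2 : (1 ≤ CohIII.fiberRank f L 0 y) ↔ Nontrivial (CohIII.fiberH f L y 0) :=
      Module.finrank_pos_iff (R := Y.residueField y) (M := CohIII.fiberH f L y 0)
    have h3 : (1 ≤ CohIII.fiberRank f M 0 y) ↔ Nontrivial (CohIII.fiberH f M y 0) :=
      Module.finrank_pos_iff (R := Y.residueField y) (M := CohIII.fiberH f M y 0)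
    show Nonempty (CohIII.fiberMod f L y ≅ unitMod (f.fiber y)) ↔ _
    rw [Set.mem_inter_iff, Set.mem_setOf_eq, Set.mem_setOf_eq, h2, h3]
    exact h1
  rw [hset]
  exact (isClosed_le_fiberRank f L hLc hLfl 0 1).inter (isClosed_le_fiberRank f M hMc hMfl 0 1)

end main

end Groth.Agent.LD.TrivLocus
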